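import Mathlib

/-!
The dihedral argument modulo a central subgroup.
-/

set_option autoImplicit false

namespace CL.Co1T

open Subgroup

variable {G : Type*} [Group G]

/-- Two involutions are conjugate or commute with a common involution. -/
theorem dih [Finite G] {y a : G} (hy : y * y = 1) (ha : a * a = 1) :
    (∃ g, g * y * g⁻¹ = a) ∨
    ∃ z, z * z = 1 ∧ z ≠ 1 ∧ Commute z y ∧ Commute z a ∧
      ((∃ g, g * y * g⁻¹ = y * z) ∨ ∃ g, g * a * g⁻¹ = y * z) := by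
  set r := y * a with hr
  have yi : y⁻¹ = y := inv_eq_of_mul_eq_one_right hy
  have ai : a⁻¹ = a := inv_eq_of_mul_eq_one_right ha
  have e1 : y * r * y⁻¹ = r⁻¹ := by
    rw [hr, mul_inv_rev, ai, yi, ← mul_assoc, hy, one_mul]
  have e2 : a * r * a⁻¹ = r⁻¹ := by
    rw [hr, mul_inv_rev, ai, yi, mul_assoc, mul_assoc, ha, mul_one]
  have hyr : ∀ k : ℤ, y * r ^ k = r ^ (-k) * y := fun k => by
    rw [zpow_neg, ← inv_zpow, ← e1, conj_zpow]; group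
  have har : ∀ k : ℤ, a * r ^ k = r ^ (-k) * a := fun k => by
    rw [zpow_neg, ← inv_zpow, ← e2, conj_zpow]; group
  have cy : ∀ k : ℤ, r ^ (-k) * y * (r ^ (-k))⁻¹ = y * r ^ (2 * k) := fun k => by
    rw [← hyr, ← zpow_neg, neg_neg, mul_assoc, ← zpow_add, two_mul]
  have ca : ∀ k : ℤ, r ^ (-k) * a * (r ^ (-k))⁻¹ = a * r ^ (2 * k) := fun k => by
    rw [← har, ← zpow_neg, neg_neg, mul_assoc, ← zpow_add, two_mul]
  have yr : y * r = a := by rw [hr, ← mul_assoc, hy, one_mul]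
  have hn : 0 < orderOf r := orderOf_pos r
  have h1 : r ^ (orderOf r : ℤ) = 1 := by rw [zpow_natCast, pow_orderOf_eq_one]
  rcases Nat.even_or_odd' (orderOf r) with ⟨m, hm | hm⟩
  · right
    have hz2 : r ^ (m : ℤ) * r ^ (m : ℤ) = 1 := by
      rw [← zpow_add, ← two_mul, ← h1, hm]; push_cast; rfl
    have hzi : r ^ (-(m : ℤ)) = r ^ (m : ℤ) := by
      rw [zpow_neg]; exact inv_eq_of_mul_eq_one_right hz2
    refine ⟨r ^ (m : ℤ), hz2, ?_, ?_, ?_, ?_⟩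
    · rw [zpow_natCast]
      exact pow_ne_one_of_lt_orderOf (by omega) (by omega)
    · show _ * _ = _ * _
      rw [hyr, hzi]
    · show _ * _ = _ * _
      rw [har, hzi]
    · rcases Nat.even_or_odd' m with ⟨k, hk | hk⟩
      · exact Or.inl ⟨r ^ (-(k : ℤ)), by rw [cy, hk]; push_cast; rfl⟩
      · refine Or.inr ⟨r ^ (-(k : ℤ)), ?_⟩
        rw [ca, hk, ← yr, mul_assoc, ← zpow_one_add]; push_cast; rw [add_comm]
  · refine Or.inl ⟨r ^ (-((m : ℤ) + 1)), ?_⟩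
    rw [cy, show 2 * ((m : ℤ) + 1) = (orderOf r : ℤ) + 1 by rw [hm]; push_cast; ring, zpow_add_one, h1,
      one_mul, yr]

/-- the dihedral argument modulo a central subgroup -/
theorem le_of_dih [Finite G] {G0 C V : Subgroup G} (hVG : V ≤ G0)
    (hc : ∀ v ∈ V, ∀ g ∈ C, Commute g v) {x y : G} (hxC : x ∈ C) (hyC : y ∈ C) (hx0 : x ∈ G0)
    (hx2 : x * x ∈ V) (hy2 : y * y ∈ V) (hn : ∀ g ∈ C, x⁻¹ * (g * y * g⁻¹) ∉ V)
    (cx : ∀ g ∈ C, g * x * g⁻¹ ∈ G0 → g ∈ G0) (cy : ∀ g ∈ C, g * y * g⁻¹ ∈ G0 → g ∈ G0)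
    (ci : ∀ i ∈ C, i ∈ G0 → i ∉ V → i * i ∈ V → (∃ h ∈ C, h ∈ G0 ∧
      ((h * x * h⁻¹)⁻¹ * (x * i) ∈ V ∨ (h * y * h⁻¹)⁻¹ * (x * i) ∈ V)) →
      ∀ g ∈ C, g * i * g⁻¹ ∈ G0 → g ∈ G0) : C ≤ G0 := by
  intro g hg
  have : (V.subgroupOf C).Normal := ⟨fun v hv k => by
    rw [mem_subgroupOf] at hv ⊢
    have e : (k : G) * v * (k : G)⁻¹ = v := by
      rw [(hc _ hv _ k.2).eq, mul_inv_cancel_right]
    simpa [e] using hv⟩
  let π : C →* C ⧸ V.subgroupOf C := QuotientGroup.mk' _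
  have πe : ∀ a b : C, π a = π b ↔ (a : G)⁻¹ * b ∈ V := fun a b => QuotientGroup.eq
  have π1 : ∀ a : C, π a = 1 ↔ (a : G) ∈ V := fun a => QuotientGroup.eq_one_iff a
  have πs : Function.Surjective π := QuotientGroup.mk'_surjective _
  have mm : ∀ {u w : G}, u⁻¹ * w ∈ V → w ∈ G0 → u ∈ G0 := fun {u w} h1 h2 => by
    simpa using mul_mem h2 (inv_mem (hVG h1))
  let X : C := ⟨x, hxC⟩
  let Y : C := ⟨y, hyC⟩
  let g' : C := ⟨g, hg⟩
  have h1 : π X * π X = 1 := by rw [← map_mul, π1]; exact hx2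
  have h2 : π (g' * Y * g'⁻¹) * π (g' * Y * g'⁻¹) = 1 := by
    have : π (Y * Y) = 1 := (π1 _).2 hy2
    rw [← map_mul, conj_mul, map_mul, map_mul, this, mul_one, ← map_mul, mul_inv_cancel, map_one]
  rcases dih h1 h2 with ⟨k, e⟩ | ⟨i, i2, i1, ix, ia, hi⟩
  · obtain ⟨k, rfl⟩ := πs k
    refine absurd ?_ (hn _ (k⁻¹ * g').2)
    refine (πe X ((k⁻¹ * g') * Y * (k⁻¹ * g')⁻¹)).1 ?_
    have : π X = (π k)⁻¹ * π (g' * Y * g'⁻¹) * π k := by rw [← e]; group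
    rw [this, ← map_inv, ← map_mul, ← map_mul]
    congr 1; group
  obtain ⟨i, rfl⟩ := πs i
  have cj : ∀ a b : C, Commute (π a) (π b) → (b : G) ∈ G0 → (a : G) * b * (a : G)⁻¹ ∈ G0 :=
    fun a b e hb => mm ((πe (a * b * a⁻¹) b).1 (by
      rw [map_mul, map_mul, e.eq, map_inv, mul_inv_cancel_right])) hb
  have hi0 : (i : G) ∈ G0 := cx _ i.2 (cj i X ix hx0)
  refine cy g hg (ci i i.2 hi0 (fun m => i1 ((π1 i).2 m)) ((π1 (i * i)).1 (by rwa [map_mul])) ?_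
    _ (g' * Y * g'⁻¹).2 (cj _ i ia.symm hi0))
  rcases hi with ⟨k, e⟩ | ⟨k, e⟩
  · obtain ⟨k, rfl⟩ := πs k
    have m := (πe (k * X * k⁻¹) (X * i)).1 (by rw [map_mul, map_mul, map_inv, e, map_mul])
    exact ⟨k, k.2, cx _ k.2 (mm m (mul_mem hx0 hi0)), Or.inl m⟩
  · obtain ⟨k, rfl⟩ := πs k
    have m := (πe ((k * g') * Y * (k * g')⁻¹) (X * i)).1 (by
      rw [map_mul π X, ← e, ← map_inv, ← map_mul, ← map_mul]; congr 1; group)
    exact ⟨_, (k * g').2, cy _ (k * g').2 (mm m (mul_mem hx0 hi0)), Or.inr m⟩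

end CL.Co1T
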