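import Cfsg.Agent.SPOR.Co1.Inv

/-!
Involutions of the first Conway group: the second class, elements of odd order in centralisers,
the centraliser of a dodecad sign change and counting in the group of sign changes.
-/

set_option autoImplicit false
set_option linter.dupNamespace false

namespace CL.Co1T

open Cfsg CL.Leech CL.MT CL.K CL.Pack CL.StdCo
open CL.Golay (E Code R pm c2A c2B ConjTo cw img24 D0)
open scoped Pointwise

/-- the fixed point free involution -/
noncomputable def tB : M24 := ⟨pm c2B, Golay.mem_2B⟩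

theorem fix_tB {w : Code} (hc : cs tB w = w) : ∃ d, w = cx d (cs tB d) := by
  have h := okInv_B
  have hP := Golay.R_2B
  simp only [okInv, Bool.and_eq_true, List.all_eq_true, allLt2_iff, force_eq, Bool.or_eq_true,
    List.any_eq_true, Nat.beq_eq, Bool.not_eq_true'] at h
  obtain ⟨⟨-, hD⟩, hk⟩ := h
  obtain ⟨c, hc'⟩ := w
  obtain ⟨k, hk', rfl⟩ := Golay.mem_code_iff.1 hc'
  have e1 : img24 c2B (cw k) = cw k := by
    rw [← E.setOf_inj (hP.img_lt _) (Golay.cw_lt hk'), hP.setOf_img]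
    exact congrArg Subtype.val hc
  rcases hk k hk' with e | ⟨d, hd, r, hr, e⟩
  · rw [e1, Nat.beq_refl] at e; exact absurd e (by decide)
  · refine ⟨⟨_, Golay.setOf_mem_of_isCw (hD d hd)⟩, Subtype.ext ?_⟩
    rw [List.mem_singleton.1 hr, Nat.xor_eq, Nat.xor_eq, eq_comm, Nat.xor_eq_zero_iff] at e
    simp only [cx, cs]
    rw [e, E.setOf_xor, hP.setOf_img]; rfl

theorem exists_conj_tB {x : Co0} (hx : x * x = neg1) :
    ∃ k c, k * x * k⁻¹ = mono tB c ∧ cx c (cs tB c) = c1 := by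
  have sq : ∀ {k σ c}, k * x * k⁻¹ = mono σ c → σ * σ = 1 ∧ cx c (cs σ c) = c1 := fun {k σ c} e => by
    have h1 : mono σ c * mono σ c = mono 1 c1 := by
      rw [← e, conj_mul, hx, neg1_comm, mul_inv_cancel_right]; rfl
    rw [mono_mul] at h1
    exact mono_inj h1
  obtain ⟨k, σ, c, e⟩ := exists_conj_mono (x := x) (n := 2) (by
    rw [show 2 ^ 2 = 2 * 2 from rfl, pow_mul, pow_two x, hx, pow_two, neg1_mul_self])
  obtain ⟨h2, h3⟩ := sq e
  have h4 : ∀ p, σ.1 p ≠ p := fun p hp => by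
    have : p ∈ (cx c (cs σ c)).1 := h3 ▸ Finset.mem_univ p
    simp only [cx, cs, Finset.mem_symmDiff, mem_smul_iff, (Equiv.symm_apply_eq _).2 hp.symm] at this
    tauto
  have h6 : orderOf σ.1 = 2 := by
    rw [Subgroup.orderOf_coe]
    exact orderOf_eq_prime (by rwa [pow_two]) fun e => h4 none (by rw [e]; rfl)
  obtain ⟨l, hl, e1⟩ := sq_of_conjTo (Golay.conjTo_2B σ.2 h6 (Golay.card_fixS_eq_zero.2 h4))
  have e2 : permHom ⟨l, hl⟩ * k * x * (permHom ⟨l, hl⟩ * k)⁻¹ = mono tB (cs ⟨l, hl⟩ c) := by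
    rw [show tB = (⟨l, hl⟩ : M24) * σ * ⟨l, hl⟩⁻¹ from Subtype.ext e1.symm, ← perm_conj_mono, ← e]
    group
  exact ⟨_, _, e2, (sq e2).2⟩

theorem CB.exists_conj {a b : C1} (ha : CB a) (hb : CB b) : ∃ g, g * a * g⁻¹ = b := by
  obtain ⟨x, hx, rfl⟩ := ha
  obtain ⟨y, hy, rfl⟩ := hb
  obtain ⟨k, c, e1, h1⟩ := exists_conj_tB hx
  obtain ⟨l, d, e2, h2⟩ := exists_conj_tB hy
  obtain ⟨w, hw⟩ := fix_tB (w := cx c d) (Subtype.ext (Finset.ext fun i => by
    have a1 : i ∈ (cx c (cs tB c)).1 := h1 ▸ Finset.mem_univ i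
    have a2 : i ∈ (cx d (cs tB d)).1 := h2 ▸ Finset.mem_univ i
    simp only [cx, cs, Finset.mem_symmDiff, mem_smul_iff] at a1 a2 ⊢
    tauto))
  have e3 : sgn w * mono tB c * (sgn w)⁻¹ = mono tB d := by
    rw [sgn_conj_mono]
    congr 1
    refine Subtype.ext (Finset.ext fun i => ?_)
    have := Finset.ext_iff.1 (congrArg Subtype.val hw) i
    simp only [cx, Finset.mem_symmDiff] at this ⊢
    tauto
  refine ⟨pr (l⁻¹ * sgn w * k), ?_⟩
  rw [← map_inv, ← map_mul, ← map_mul]
  congr 1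
  calc _ = l⁻¹ * (sgn w * (k * x * k⁻¹) * (sgn w)⁻¹) * l := by group
    _ = y := by rw [e1, e3, ← e2]; group

theorem exists_ord_conj {a b : C1} {n : ℕ} (e : ∃ g, g * a * g⁻¹ = b)
    (h : ∃ h, orderOf h = n ∧ h * a = a * h) : ∃ h, orderOf h = n ∧ h * b = b * h := by
  obtain ⟨g, rfl⟩ := e
  obtain ⟨h, h1, h2⟩ := h
  exact ⟨g * h * g⁻¹, by rw [← h1]; exact (MulAut.conj g).orderOf_eq h, by
    rw [conj_mul, conj_mul, h2]⟩

/-- iterates of a function on codes -/
noncomputable def itF (f : ℕ → ℕ) (n : ℕ) : ℕ → ℕ :=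
  Nat.rec (motive := fun _ => ℕ → ℕ) (fun X => X) (fun _ ih X => f (ih X)) n

theorem rep_pow {g : Co0} {f : ℕ → ℕ} (h : RepF g f) (n : ℕ) : RepF (g ^ n) (itF f n) := by
  induction n with
  | zero => rw [pow_zero]; exact RepF.one
  | succ n ih => rw [pow_succ']; exact h.mul ih

/-- an automorphism of order `52` -/
def g52 : ℕ := 0x420c85190a4210a418c8529864214a52906420c8328c8521064114852908329064214851944521064214832908420c85190642086419483290a420ca5190a43148318c852106421483190851906420c8518c85210a420c8329885290a420c8529485218a4214831908420c8329066210a418c831906420ca420c85290a42106428cc5190a420ca3290a42148328c85210a420c4329085190642148329483210a221483290842144529064210a4294852906420ca421485288a42106418c832906420c6421483290643106418c85290a4214a5190a621485294852106420c85290842148519064210a418c85190a220c6221485290a4210a419483190a4214a5290642148319485110a420c851908529064214c528c832106420c8319083190642148528c85210a4214851904420c83290a4210a419485290a430c65298a42148518c83210a4214852908430c8529064210a428c83290a42146420c85290642106219485190642146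

theorem g52_spec : aut g52 ^ 26 = neg1 ∧ aut g52 ^ 4 ≠ 1 ∧ aut g52 ^ 4 ≠ neg1 := by
  have h := rep_aut (c := g52) (by decide +kernel)
  rw [Ne, Ne, (rep_pow h 26).eq_iff RepF.neg, (rep_pow h 4).eq_iff RepF.neg,
    (rep_pow h 4).eq_iff RepF.one]
  decide +kernel

theorem exists_CB : ∃ b, CB b := ⟨_, aut g52 ^ 13, by rw [← pow_add, g52_spec.1], rfl⟩

theorem CB.exists13 {b : C1} (hb : CB b) : ∃ h, orderOf h = 13 ∧ h * b = b * h := by
  obtain ⟨h1, h2, h3⟩ := g52_spec
  have : Fact (Nat.Prime 13) := ⟨by norm_num⟩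
  refine exists_ord_conj (CB.exists_conj ⟨aut g52 ^ 13, by rw [← pow_add, h1], rfl⟩ hb)
    ⟨pr (aut g52 ^ 4), orderOf_eq_prime ?_ fun e => (pr_eq_one.1 e).elim h2 h3, ?_⟩
  · rw [← map_pow, ← pow_mul, show 4 * 13 = 26 * 2 from rfl, pow_mul, h1, map_pow, pr_neg1, one_pow]
  · rw [← map_mul, ← map_mul, ← pow_add, ← pow_add]

/-- the standard dodecad -/
def dD : Code := ⟨_, Golay.D0_mem.1⟩

theorem dod_dD : Dod (pr (sgn dD)) := ⟨dD, Golay.D0_mem.2, rfl⟩

theorem CC.exists11 {b : C1} (hb : CC b) : ∃ h, orderOf h = 11 ∧ h * b = b * h := by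
  have : Fact (Nat.Prime 11) := ⟨by norm_num⟩
  obtain ⟨s, hs, hP⟩ := Golay.I.of_okM (P := 983435072843990828779021698901151808) (by decide +kernel)
  have h1 : orderOf (⟨s, hs⟩ : M24) = 11 :=
    (Subgroup.orderOf_coe _).symm.trans (Golay.R.orderOf_eq_prime hP (by decide +kernel))
  have h2 : cs ⟨s, hs⟩ dD = dD := Subtype.ext ((Golay.R.setOf_img hP D0).symm.trans
    (congrArg E.setOf (by decide +kernel)))
  refine exists_ord_conj (dod_dD.cc.exists_conj hb) ⟨pr (permHom ⟨s, hs⟩),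
    orderOf_eq_prime ?_ fun e => ?_, ?_⟩
  · rw [← map_pow, ← map_pow, ← h1, pow_orderOf_eq_one, map_one, map_one]
  · have : (⟨s, hs⟩ : M24) = 1 := by
      rcases pr_eq_one.1 e with e | e
      · exact (mono_inj (e.trans mono_one.symm)).1
      · exact (mono_inj (τ := 1) (d := c1) e).1
    rw [this, orderOf_one] at h1
    norm_num at h1
  · rw [← map_mul, ← map_mul]
    exact congrArg pr ((mono_sgn _ c0 dD).trans (by rw [h2]; rfl))

theorem four_dvd_of_supp {D : Finset GolayPt} (hD : D ∈ Code) (h12 : D.card = 12)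
    {y : GolayPt → ℤ} (hy : y ∈ leechLattice) (hn : sqNorm y = 32) (h0 : ∀ i ∉ D, y i = 0)
    (i : GolayPt) : 4 ∣ y i := by
  obtain ⟨m, -, h1, h2, -⟩ := (mem_iff' y).1 hy
  obtain ⟨j, hj⟩ : ∃ j, j ∉ D := by
    by_contra h
    rw [Finset.eq_univ_of_forall (not_exists_not.1 h), Finset.card_univ, Golay.card_pt] at h12
    omega
  have hm : m = 0 := by rw [← h1 j, h0 j hj]; rfl
  subst hm
  have h3 := sqNorm_param (x := y) (c := fun i => y i / 2) (m := 0) fun i => by
    have := h1 i; omega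
  have h4 := card_support_le_sum_sq fun i => y i / 2
  have h5 := (support_mem_supports_iff _).2 h2
  have h6 : support₂ (red fun i => y i / 2) ⊆ D := fun k hk => by
    by_contra h
    rw [mem_support_red, h0 k h] at hk
    omega
  have h7 := Golay.card_symmDiff_add (support₂ (red fun i => y i / 2)) D
  rw [Finset.inter_eq_left.2 h6] at h7
  have h8 := Golay.card_of_mem_code h5
  have h9 := Golay.card_of_mem_code (Golay.symmDiff_mem_code h5 hD)
  have h10 : i ∉ support₂ (red fun i => y i / 2) := by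
    rw [Finset.card_eq_zero.1 (show (support₂ (red fun i => y i / 2)).card = 0 by omega)]
    exact Finset.notMem_empty i
  rw [mem_support_red] at h10
  have := h1 i
  omega

theorem four_dvd_of_sgn {c : Code} (h12 : c.1.card = 12) {y : leechLattice}
    (hn : sqNorm (y : GolayPt → ℤ) = 32) (h : sgn c • y = y ∨ sgn c • y = -y) (i : GolayPt) :
    4 ∣ (y : GolayPt → ℤ) i := by
  rcases h with h | h
  · refine four_dvd_of_supp (Golay.compl_mem_code c.2)
      (by rw [Finset.card_compl, Golay.card_pt, h12]) y.2 hn (fun j hj => ?_) i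
    have := sgn_apply c y j
    rw [h, if_pos (by simpa using hj)] at this
    omega
  · refine four_dvd_of_supp c.2 h12 y.2 hn (fun j hj => ?_) i
    have := sgn_apply c y j
    rw [h, if_neg hj, AddSubgroup.coe_neg, Pi.neg_apply] at this
    omega

/-- the centraliser of a dodecad sign change is monomial -/
theorem Dod.cent {t g : C1} (ht : Dod t) (h : g * t = t * g) : g ∈ N0 := by
  obtain ⟨c, h12, rfl⟩ := ht
  obtain ⟨g, rfl⟩ := pr_surj g
  rw [← map_mul, ← map_mul] at h
  obtain ⟨x, hx⟩ : ∃ x, x = g⁻¹ • e8 none := ⟨_, rfl⟩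
  have hn : sqNorm (x : GolayPt → ℤ) = 64 := by rw [hx, sqNorm_smul, sqNorm_e8]
  have h1 : ∀ k p, k ≠ p → (k ∈ c.1 ↔ p ∈ c.1) → ∀ s : ℤ, s = 4 ∨ s = -4 →
      32 ∣ 4 * x.1 k + s * x.1 p := fun k p hkp hc s hs => by
    obtain ⟨v, hv⟩ : ∃ v : leechLattice, v.1 = Pi.single k 4 + Pi.single p s :=
      ⟨⟨_, single_add_single_mem k p rfl (by omega)⟩, rfl⟩
    have h2 : sgn c • v = v ∨ sgn c • v = -v := by
      refine (em (k ∈ c.1)).symm.imp (fun hk => ?_) fun hk => ?_ <;>
        refine Subtype.ext (funext fun i => ?_) <;> rw [sgn_apply]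
      · split_ifs with hi
        · rw [hv, Pi.add_apply, Pi.single_eq_of_ne (fun e : i = k => hk (e ▸ hi)),
            Pi.single_eq_of_ne fun e : i = p => hk (hc.2 (e ▸ hi))]; rfl
        · rfl
      · split_ifs with hi
        · rfl
        · rw [AddSubgroup.coe_neg, Pi.neg_apply, hv, Pi.add_apply,
            Pi.single_eq_of_ne (fun e : i = k => hi (e ▸ hk)),
            Pi.single_eq_of_ne fun e : i = p => hi (e ▸ hc.1 hk)]; rfl
    have h3 : sgn c • g • v = g • v ∨ sgn c • g • v = -(g • v) := by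
      rw [← mul_smul]
      rcases pr_eq_iff.1 h.symm with e | e <;> rw [e] <;> rcases h2 with e | e <;>
        simp [mul_smul, e, neg1_smul]
    have h4 := four_dvd_of_sgn h12 (y := g • v) (by
      rw [sqNorm_smul, hv, sqNorm_single_add_single hkp]; rcases hs with rfl | rfl <;> rfl) h3 none
    have h5 := dot_smul g v x
    rw [hx, smul_inv_smul, ← hx, coe_e8, dot_single_right, hv, dot_add_left, dot_single_left,
      dot_single_left] at h5
    omega
  have h2 : ∀ k, 8 ∣ x.1 k := fun k => by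
    by_contra hk
    obtain ⟨P, hP, h3⟩ : ∃ P : Finset GolayPt, P.card = 12 ∧ ∀ p ∈ P, (k ∈ c.1 ↔ p ∈ c.1) := by
      by_cases hk : k ∈ c.1
      · exact ⟨c.1, h12, fun p hp => iff_of_true hk hp⟩
      · exact ⟨c.1ᶜ, by rw [Finset.card_compl, Golay.card_pt, h12], fun p hp =>
          iff_of_false hk (Finset.mem_compl.1 hp)⟩
    have h4 : ∀ p ∈ P.erase k, 16 ≤ x.1 p ^ 2 := fun p hp => by
      have a := h1 k p (Finset.ne_of_mem_erase hp).symm (h3 p (Finset.mem_of_mem_erase hp))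
      have a1 := a 4 (Or.inl rfl)
      have a2 := a (-4) (Or.inr rfl)
      have : 4 ≤ x.1 p ∨ x.1 p ≤ -4 := by omega
      rcases this with b | b <;> nlinarith
    have h5 := Finset.card_nsmul_le_sum _ _ _ h4
    have h6 : ∑ p ∈ P.erase k, x.1 p ^ 2 ≤ sqNorm x.1 :=
      Finset.sum_le_sum_of_subset_of_nonneg (Finset.subset_univ _) fun _ _ _ => sq_nonneg _
    have h7 := Finset.pred_card_le_card_erase (s := P) (a := k)
    rw [nsmul_eq_mul] at h5
    omega
  choose w hw using h2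
  have h3 : ∑ i, w i ^ 2 = 1 := by
    simp only [sqNorm, hw, mul_pow, ← Finset.mul_sum] at hn
    omega
  have h4 := sum_sq_mod_two w
  rw [pr_mem_N0, ← inv_mem_iff]
  refine mem_NN_of_smul_mem (e8_mem_stdX none) ?_
  rw [← hx, stdX_eq_class none]
  refine ⟨hn, ⟨_, four_mem (y := Pi.single none 1 - w) ?_⟩, Subtype.ext (funext fun i => ?_)⟩
  · simp only [Pi.sub_apply, Finset.sum_sub_distrib, Finset.sum_pi_single', Finset.mem_univ, if_true]
    omega
  · simp only [AddSubgroup.coe_sub, coe_e8, AddSubgroup.coe_nsmul, Pi.sub_apply, Pi.smul_apply,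
      Pi.single_apply, smul_eq_mul, nsmul_eq_mul, hw]
    split_ifs <;> push_cast <;> ring

theorem oct_sgn_iff {c : Code} : Oct (pr (sgn c)) ↔ c.1.card = 8 ∨ c.1.card = 16 := by
  constructor
  · rintro ⟨d, hd, e⟩
    rcases pr_eq_iff.1 e with e | e
    · rw [sgn_inj e]; exact Or.inl hd
    · rw [← sgn_c1, sgn_mul] at e
      rw [sgn_inj e, card_cx_c1, hd]; exact Or.inr rfl
  · rintro (e | e)
    exacts [⟨c, e, rfl⟩, ⟨_, by rw [card_cx_c1, e], (pr_sgn_compl c).symm⟩]

theorem ncard_oct_sep (p : C1 → Prop) (q : Finset GolayPt → Prop)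
    (h : ∀ c : Code, p (pr (sgn c)) ↔ q c.1) :
    {a | Oct a ∧ p a}.ncard = {s | s ∈ Code ∧ s.card = 8 ∧ q s}.ncard := by
  refine (Set.ncard_congr (fun s hs => pr (sgn ⟨s, hs.1⟩)) ?_ ?_ ?_).symm
  · exact fun s hs => ⟨⟨_, hs.2.1, rfl⟩, (h _).2 hs.2.2⟩
  · intro s t hs ht e
    rcases pr_eq_iff.1 e with e | e
    · exact congrArg Subtype.val (sgn_inj e)
    · rw [← sgn_c1, sgn_mul] at e
      have := congrArg (fun c : Code => c.1.card) (sgn_inj e)
      simp only [card_cx_c1, hs.2.1, ht.2.1] at this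
      omega
  · rintro _ ⟨⟨c, hc, rfl⟩, hp⟩
    exact ⟨c.1, ⟨c.2, hc, (h c).1 hp⟩, rfl⟩

theorem ncard_oct : {a | Oct a}.ncard = 759 := by
  have := ncard_oct_sep (fun _ => True) (fun _ => True) fun _ => Iff.rfl
  simp only [and_true] at this
  exact this.trans Golay.ncard_octads

theorem Oct.conj_mem {a g : C1} (ha : Oct a) (hg : g ∈ N0) : Oct (g * a * g⁻¹) :=
  (ha.ca.conj g).oct (N0_norm hg ha.mem)

theorem Dod.ncard {t : C1} (ht : Dod t) : {a | Oct a ∧ Oct (a * t)}.ncard = 264 := by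
  obtain ⟨g, hg, rfl⟩ := dod_dD.conj ht
  have h1 : {a | Oct a ∧ Oct (a * pr (sgn dD))}.ncard = 264 := by
    rw [ncard_oct_sep _ (fun s => (symmDiff s (E.setOf D0)).card = 8 ∨
      (symmDiff s (E.setOf D0)).card = 16) fun c => by rw [← map_mul, sgn_mul, oct_sgn_iff]; rfl,
      Golay.ncard_code_sep _ (fun k => force (cw k) fun w => Nat.mul (ind (pc24 w) 8)
        (Nat.add (ind (pc24 (Nat.xor w D0)) 8) (ind (pc24 (Nat.xor w D0)) 16))) fun k _ => ?_]
    · decide +kernel
    · rw [force_eq, ← E.setOf_xor, Golay.card_setOf, Golay.card_setOf, ind_eq, ind_eq, ind_eq,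
        Nat.xor_eq, Nat.mul_eq, Nat.add_eq]
      constructor <;> intro h <;> split_ifs <;> omega
  rw [← h1]
  refine (Set.ncard_congr (fun a _ => g * a * g⁻¹) ?_ ?_ ?_).symm
  · exact fun a ha => ⟨ha.1.conj_mem hg, by rw [conj_mul]; exact ha.2.conj_mem hg⟩
  · exact fun a b _ _ e => by simpa using e
  · refine fun b hb => ⟨g⁻¹ * b * g⁻¹⁻¹, ⟨hb.1.conj_mem (inv_mem hg), ?_⟩, by group⟩
    convert hb.2.conj_mem (inv_mem hg) using 1; group

end CL.Co1T
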