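import Cfsg.Agent.SPOR.Co1.Sec
import Cfsg.Agent.SPOR.A10.JTop

/-!
The Hall-Janko group as a section of the first Conway group.
-/

set_option autoImplicit false
set_option linter.dupNamespace false
set_option maxRecDepth 100000

namespace CL.Co1T.HJ

open Cfsg Cfsg.Spor CL.Leech CL.MT CL.K CL.CG CL.Reg CL.A10 CL.LX CL.MSS CL.Comp XQ Subgroup
open CL.CE hiding gen rowOf

attribute [local irreducible] cd mu on ac

noncomputable def LJ : List ℕ := [nat_lit 0x800000900000a00000c00000ae0000720000f400003b00000080000040000020000010006ca800bb14003532000ae1001ca080d29ff4d79f94139fa40ae10cda00040ee0820cccd5,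
  nat_lit 0x240000200000600000f100001f0000c40000490000740000598d00364200a42a000011009c600026f0001c4000001000e4c2726ef1aade10151710343d7bf4200105b4bc79b11004,
  nat_lit 0x80000080400076a000d04000008000ccc0009c6000001000d880003640009220008110000000807cccd4940264010104800880b005946096945e389452d7d85011006643b2000881,
  nat_lit 0xea0000e800007b0000f400003d0000490000620000dc00006ab0009c60009ce0001c4000250d00590900a40800000200c7bd5077f6a1f69e45300e11e0be1d48006410696b9ce2de,
  nat_lit 0x6e0000dd00007300007000009e0000d70000db0000420000b783006f4b007c2c007c15000e6f0026f5004549000014005163906ab5874957299bb8c69c983bc1453996199a4f5438,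
  nat_lit 0xf500008700001700004b0000450000f40000050000a50000130900014b006832004c40008be5005010000af10076f000160d77cdb2f6005a2885100517811d1058e0d9a740011004,
  nat_lit 0xd200006300005e0000880000c20000b00000b90000c40000e3dd000c7200e8ba001cf100b0cf0030e5008a7900e1f40011ed462769dcbc88333c88727126795dd9d1507b8df569ec]
noncomputable def LA : List ℕ := [nat_lit 0x7600007700004800003b00001f0000740000860000c10000807000001000f6b000005000d807004a0d00810100360300394fb4dba07676f0126aa8f2580f919440609cd8c07de0df,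
  nat_lit 0xf600007d00001e0000e10000dd00000600000400006400001c50001cf0001c30003a20007c0f00000600000400590a00032f340e70829a20b239a0e2e20d7bf998e4e8bff6f14c2c,
  nat_lit 0xd00000600000400000e000003f0000b50000690000740000f6d00026e0006a9000ea60007c09007c0f007c05004a0800ebe184c61a1d8a9a4d964a2d70310222a8807ac90a84a5f2]
def WJ : List (List ℕ) := [[10,8,6,2,0,4,8,12,11,7,0,4,8,11,9,7,3,1,2,8,20,17], [12,11,9,7,5,6,2,0,4,8,7,2,5,6,0,5], [17,23,17], [0,6], [13,9,3,4,8,11,9,7,3,1,2,8,4,7,2,1,2,5,6,10,13,9,3,4,8,11,9,7,3,6,9,7,5,6,2,0,4,8,22,19,18,17,15,14], [8,12,4,8,11,9,7,3,6,9,7,5,6,2,0,4,8,12,11,6,2,0,4,8,11,7,0,4,8,0,4,7,3,4,0,22,20,16,15,14], [13,11,9,7,5,6,2,0,4,8,7,2,5,6,0,5]]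
def WA : List (List ℕ) := [[3,0], [3], [7]]
def θ0 : List ℕ := [1,2,4,385,8,264,281,377,440]
def θ1 : List ℕ := [1,238,471,13,21,207,170,111,490]
def WT : List (List ℕ) := [[], [1], [2], [1,2], [3], [1,3], [2,3], [1,2,3], [4], [1,4], [2,4], [1,2,4], [3,4], [1,3,4], [2,3,4], [1,2,3,4]]
noncomputable def cT : ℕ := nat_lit 0x42108421082310c221084210842108421084210823104621084210842108421044210842108421084210863088421884310842088421084210842104421084208442108421884210c421084210442108421084210842108210884210862108421084310841088421084210862108421084310843188421086310842108421084210c62108421082110842108421084210c62108421084210c421084210842108421086108823108421084210842104621084210861108421084210842104621084210842108420844210842088421044210842108221084210843108411884210842108421082110c621084210842108421084210821104221084210842108421084218442108421884210442108421084218442108420884210c4210842108221084210843108430884210842088431084208842108421084210c42088431084218842108421084210442188431084218842108421084210c4210c4210842108421084210823088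
def chU : List (ℕ × ℕ × ℕ × List (List ℕ)) := [(0, 2, 1, [[0,10,0,4], [8,2,12], [4,8,12,0,6,0,3,1,19,18,15,14], [7,2,17], [13,0,6,3,21,20,19,15], [13,10,8,6,2,1,2,5,6,10,6,2,0,4,8,7,3,1,2,0,22,20,16,15], [13,4,8,7,4,3,1,22,20,17,16], [10,8,6,2,0,4,8,12,2,8,4,7,2,1,2,5,6,10,0,6,0,3,0,20,19,17]]),
  (1, 11443, 270, [[2], [3], [4], [5], [6], [7]]),
  (2, 2785, 128, [[2], [3], [4], [5]]),
  (3, 563, 56, [[2], [3]]),
  (4, 143, 24, [])]
def chA : List (ℕ × ℕ × ℕ × List (List ℕ)) := [(0, 2, 1, [[0,10,0,4], [8,2,12], [4,8,12,10,6,9,6,0,4,0,22,21,19,18,16], [10], [11,7,0,4,8,12,4,7,2,1,2,5,6,10,8,6,2,0,4,8,3,5,3,1,21,15,14], [2], [13,6,9,7,5,6,2,0,4,8,12,11,7,2,5,6,10,7,2,5,6,0,5,3,1,21,20,18], [7,1], [18,17], [20,19,17], [21,19], [22,19,17]]),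
  (1, 18863, 270, [[2], [3], [4], [5], [6], [7], [8], [9], [10], [11]]),
  (2, 1563, 128, [[2], [3], [4], [5], [6], [7], [8], [9]]),
  (3, 475, 56, [[2], [3], [4], [5], [6], [7]]),
  (4, 131, 24, [[2], [3], [4], [5]]),
  (5, 173, 32, [])]
def chK : List (ℕ × ℕ × ℕ × List (List ℕ)) := [(0, 27, 10, [[0,0,0], [1,0,0,1,0,0,1,0], [1,0,0,1,0,1,0,1,0,0]]),
  (1, 15, 8, [[0,0,2,1], [2,0]]),
  (2, 11, 6, [[1,0,1]]),
  (3, 3, 2, [])]
def chL : List (ℕ × ℕ × ℕ × List (List ℕ)) := [(0, 10470, 315, [[0], [1]]),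
  (1, 27, 10, [[0,0,0], [1,0,0,1,0,0,1,0], [1,0,0,1,0,1,0,1,0,0]]),
  (2, 15, 8, [[0,0,2,1], [2,0]]),
  (3, 11, 6, [[1,0,1]]),
  (4, 3, 2, [])]

/-- generators of the commutator group and of the centraliser in the table -/
noncomputable def TT : List Q := [1,25,392,320,160].map (RG.mk' Q_good)
noncomputable def BB : List Q := [2,4,232,312].map (RG.mk' Q_good)

theorem subJ : subB LU 33554431 WJ LJ = true := by decide +kernel

theorem mem_LJ : ∀ c ∈ LJ, Mem cd ⊤ c := mem_of_subB mem_LU subJ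

theorem mem_LA : ∀ c ∈ LA, Mem cd ⊤ c := mem_of_subB mem_LU (S := 255) (ws := WA) (by decide +kernel)

theorem mem_take (n : ℕ) : ∀ c ∈ LJ.take n, Mem cd ⊤ c := fun c hc => mem_LJ c (List.mem_of_mem_take hc)

/-- the elements of order five -/
noncomputable def b0 : C1 := el LJ 3
noncomputable def b1 : C1 := el LJ 4

theorem cd_J {a : ℕ} (ha : a < 7) : cd (el LJ a) = lget LJ a := cd_el mem_LJ ha

instance : Fact (Nat.Prime 5) := ⟨by norm_num⟩

theorem ord_b0 : orderOf b0 = 5 := ord_el mem_LJ (by decide) (by decide +kernel)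

theorem act0 : Act ι b0 θ0 := act_of_actC (by rw [b0, cd_J (by omega)]; decide +kernel)

theorem act1 : Act ι b1 θ1 := act_of_actC (by rw [b1, cd_J (by omega)]; decide +kernel)

theorem rel {v w : List ℕ} (h : eqB LJ 127 v w = true) : ev (el LJ) v = ev (el LJ) w := eq_el mem_LJ h

theorem sd : SD ι.range (ι z) (zpowers b0) (cenL (qs TT)) (el LJ 2) ∧
    Nat.card (cenL (qs TT)) = 1920 ∧ Nat.card (ι.range ⊓ cenL (qs TT) : Subgroup C1) = 32 := by
  have := sd_of (T := TT) (B := BB) (n := 1920) (by decide) ord_b0 act0 (r := RG.mk' Q_good 25)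
    (s := s) (W := WT) (lv := chK) (lv' := chU) (mem_take 2)
    (by rw [b0, cd_J (by omega)]; decide +kernel) (by decide) (by decide +kernel) (g := el LJ 2)
    (by simpa [ev, b0] using rel (v := [3, 2]) (w := [2, 3]) (by decide +kernel))
    (by rw [el_sub mem_LU subJ (by decide)]; exact conj_zs (by decide +kernel))
  exact ⟨this.1, this.2.1, this.2.2.trans (by decide +kernel)⟩

theorem cb : CB (el LJ 6) := by
  obtain ⟨h1, h2⟩ := okC_spec (c := cT) (x := lget LJ 6) (by decide +kernel)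
  exact ⟨aut cT, (((rep_aut h1).mul (rep_aut h1)).eq_iff RepF.neg).2 (by decide +kernel),
    isCode.inj ((cd_J (by omega)).trans h2.symm)⟩

theorem j2 : ∃ (π : centralizer (zpowers b0 : Set C1) →* J2) (P : Subgroup J2) (u k : J2),
    Sec _ π ∧ LH P u k 32 1920 := by
  have := normal_sec (zpowers b0)
  have h := sd.1.main (sec_mk _)
  have t2 : el LJ 6 * el LJ 6 = 1 := by simpa [ev] using rel (v := [6, 6]) (w := []) (by decide +kernel)
  have tK : el LJ 6 ∈ cenL (qs TT) := mem_cenL (by rw [cd_J (by omega)]; decide +kernel)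
  have n := sd.1.not_conj (sec_mk _) tK t2 fun k e => (oct_z.ca.conj k).not_cb (e ▸ cb)
  obtain ⟨g, -, hg⟩ := typ2 (typ_of (exists_mdl_of_lx h.lx (h.cP.trans sd.2.2) (h.cC.trans sd.2.1)
    (h.lx.z_comm _ h.mem).symm h.ne)) ⟨_, _, h.lx.orderOf_z, orderOf_eq_two_of (fun e => by
      have := sd.1.dis _ (((sec_mk _).ker _).1 e) tK
      have e := cd_J (a := 6) (by omega)
      rw [show el LJ 6 = 1 from this, isCode.map_one] at e
      revert e; decide +kernel) (by rw [← map_mul]; exact congrArg _ (Subtype.ext t2)), n⟩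
  obtain ⟨e⟩ := hg.isoJ2
  exact ⟨_, _, _, _, (sec_mk _).comp e, (sd.1.main ((sec_mk _).comp e)).cast sd.2.2 sd.2.1⟩

theorem zp_eq {G : Type*} [Group G] [Finite G] {x u : G} (hx : orderOf x = 5) (hu : u ∈ zpowers x)
    (h1 : u ≠ 1) : zpowers u = zpowers x := by
  obtain ⟨k, hk⟩ := mem_zpowers_of_prime_card (G := zpowers x) ((Nat.card_zpowers x).trans hx)
    (g := ⟨u, hu⟩) (g' := ⟨x, mem_zpowers x⟩) fun e => h1 (congrArg Subtype.val e)
  exact le_antisymm (zpowers_le.2 hu) (zpowers_le.2 ⟨k, congrArg Subtype.val hk⟩)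

theorem facts : cenL LA ≤ centralizer (zpowers b0 : Set C1) ∧ b0 ∉ cenL LA ∧
    604800 ≤ Nat.card (cenL LA) ∧
    Nonempty (centralizer (cenL LA : Set C1) ≃* alternatingGroup (Fin 5)) := by
  have a : ∀ k ∈ cenL LA, ∀ i < 3, k * el LA i = el LA i * k := fun k hk i hi =>
    (hk _ (show cd _ ∈ LA from cd_el mem_LA hi ▸ lget_mem hi)).symm
  have hP : ∀ c ∈ qs (z :: BB) ++ [lget LJ 2], Mem cd ⊤ c := fun c hc =>
    (List.mem_append.1 hc).elim (qs_top _ c) fun e =>
      List.mem_singleton.1 e ▸ mem_LJ _ (lget_mem (by decide))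
  have hP' := mem_cen (T := LA) hP (by decide +kernel)
  have zL : ι z ∈ cenL LA := isCode.mem_iff.1 (hP' _ (by simp [qs, cd_ι]))
  obtain ⟨β, hβ, hc⟩ := L37.alt_hom mem_LA (by decide) (m := 3) le_rfl (by decide +kernel)
  refine ⟨fun k hk => ?_, fun h => ?_, ?_, L37.iso_of_card hβ ?_ ?_⟩
  · rw [LX.centralizer_zpowers, show b0 = ev (el LA) [0,1,2,0] from isCode.inj (by
      rw [cd_ev_el mem_LA (by decide), b0, cd_J (by omega)]; decide +kernel)]
    exact mem_centralizer_singleton_iff.2 (mem_centralizer_singleton_iff.1 (ev_mem fun i hi =>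
      mem_centralizer_singleton_iff.2 (a k hk i (by revert i; decide)).symm)).symm
  · have := cm_of (a _ h 0 (by omega))
    rw [b0, cd_J (by omega), cd_el mem_LA (by decide)] at this
    revert this; decide +kernel
  · have := chain_cen (qs_top (z :: BB)) (mem_cen (T := LA) (mem_take 3)
      (by decide +kernel)) (zpowers_le.2 zL) (fun k hk => mem_qs.2 fun u _ => (zz_comm hk u).symm)
      (lv := chL) (by decide +kernel)
    rw [card_zz] at this
    simpa [chL] using this
  · rintro _ ⟨b, rfl⟩ k hk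
    exact hc k (a k hk) b
  · have := chain_z hP (K := centralizer (cenL LA : Set C1)) (fun k hk => hk _ zL)
      (fun k hk t ht => hk t (isCode.mem_iff.1 (hP' _ ht))) (lv := chA) (by decide +kernel)
    rw [card_A5]
    simp [chA] at this
    omega

set_option synthInstance.maxSize 1024 in
theorem fix2 : ∀ v : Q, ∀ j < 5, ∀ i < 5, (A10.ap θ0)^[i] ((A10.ap θ1)^[j] v) = v →
    i = 0 ∨ j = 0 ∨ v = 1 ∨ v = z := by decide +kernel

theorem ord_conj {G : Type*} [Group G] (g x : G) : orderOf (g * x * g⁻¹) = orderOf x :=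
  (MulAut.conj g).orderOf_eq x

theorem exists_conj {η : C1} (hη : orderOf η = 5) (ηz : η * ι z = ι z * η) {u : Q} (u1 : u ≠ 1)
    (uz : u ≠ z) (hu : η * ι u = ι u * η) : ∃ k, zpowers η = zpowers (k * b0 * k⁻¹) := by
  classical
  have c : Commute b0 b1 := by simpa [ev, b0, b1, Commute, SemiconjBy] using rel (v := [3, 4]) (w := [4, 3]) (by decide +kernel)
  have w : el LJ 5 * b0 * (el LJ 5)⁻¹ = b1 := mul_inv_eq_of_eq_mul (by
    simpa [ev, b0, b1] using rel (v := [5, 3]) (w := [4, 5]) (by decide +kernel))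
  have o1 : orderOf b1 = 5 := by rw [← w, ord_conj, ord_b0]
  have bK : b1 ∈ cenL (qs TT) := mem_cenL (by rw [b1, cd_J (by omega)]; decide +kernel)
  let ψ := (zpowers b0).subtype.noncommCoprod (zpowers b1).subtype fun ⟨_, i, e⟩ ⟨_, j, e'⟩ =>
    e ▸ e' ▸ c.zpow_zpow i j
  have h1 : Nat.card ψ.range = 25 := by
    rw [← Nat.card_congr (MonoidHom.ofInjective ((injective_iff_map_eq_one ψ).2 fun ⟨a, b⟩ e => by
      have e' : (a : C1) * b = 1 := e
      have := sd.1.dis _ a.2 (eq_inv_of_mul_eq_one_left e' ▸ inv_mem (zpowers_le.2 bK b.2))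
      rw [this, one_mul] at e'
      exact Prod.ext (Subtype.ext this) (Subtype.ext e'))).toEquiv, Nat.card_prod, Nat.card_zpowers,
      Nat.card_zpowers, ord_b0, o1]
  have h2 : ψ.range ≤ centralizer {ι z} := by
    rintro _ ⟨⟨a, b⟩, rfl⟩
    exact mul_mem (mem_centralizer_singleton_iff.2 (sd.1.KY sd.1.zK _ a.2))
      (mem_centralizer_singleton_iff.2 (sd.1.Kz _ (zpowers_le.2 bK b.2)))
  obtain ⟨k, hk, ⟨⟨a, ha⟩, ⟨b, hb⟩⟩, e⟩ := exists_conj_mem_rel (T := ψ.range) (p := 5) (by norm_num) (by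
    have := relIndex_mul_card h2
    rw [h1, base.2] at this
    omega) (mem_centralizer_singleton_iff.2 ηz) (k := 1) (by rw [pow_one, ← hη, pow_orderOf_eq_one])
  change a * b = _ at e
  have h3 : ∀ {x}, orderOf x = 5 → k * η * k⁻¹ ∈ zpowers x → zpowers η = zpowers (k⁻¹ * x * k⁻¹⁻¹) :=
    fun {x} hx ⟨i, e⟩ => zp_eq (by rw [ord_conj, hx]) ⟨i, by simp only [conj_zpow, e]; group⟩
      fun e => by simp [e] at hη
  rw [mem_zpowers_iff_mem_range_orderOf, Finset.mem_image] at ha hb
  obtain ⟨i, hi, rfl⟩ := ha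
  obtain ⟨j, hj, rfl⟩ := hb
  rw [Finset.mem_range] at hi hj
  rw [mem_centralizer_singleton_iff] at hk
  obtain ⟨v, hv⟩ := base.1.norm k hk _ ⟨u, rfl⟩
  rcases fix2 v j (o1 ▸ hj) i (ord_b0 ▸ hi) (ι_inj (by
    rw [← act_pow act0, ← act_pow act1, ← mul_assoc, ← mul_assoc, e, mul_assoc, ← mul_inv_rev, e, hv,
      conj_mul, hu]
    group)) with rfl | rfl | rfl | rfl
  · exact ⟨k⁻¹ * el LJ 5, (h3 o1 (by simp [← e])).trans (by rw [← w]; group)⟩
  · exact ⟨_, h3 ord_b0 (by simp [← e])⟩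
  · exact absurd (ι_inj (conj_eq_one_iff.1 (hv.symm.trans (map_one ι)) |>.trans (map_one ι).symm)) u1
  · exact absurd (ι_inj (by rwa [eq_mul_inv_iff_mul_eq, ← hk, mul_right_inj, eq_comm] at hv)) uz

variable {G : Type*} [Group G] [Finite G]

theorem of_type {t : G} {P : Subgroup (centralizer ({t} : Set G))} {f : C1 ≃* G}
    (ht : f (ι z) = t) (hf : ∀ x, x ∈ ι.range ↔ f x ∈ P.map (Subgroup.subtype _))
    {B : Subgroup (centralizer ({t} : Set G))} (hB : Nat.card B = 5)
    (h : Nat.card ↥(P ⊓ centralizer (B : Set (centralizer ({t} : Set G)))) = 32) :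
    ∃ f : C1 ≃* G, B.map (Subgroup.subtype _) = (zpowers b0).map f.toMonoidHom := by
  obtain ⟨⟨η, hη⟩, h3⟩ := exists_prime_orderOf_dvd_card' 5 hB.symm.dvd
  rw [← orderOf_coe] at h3
  have a : zpowers η = B := eq_of_le_of_card_ge (zpowers_le.2 hη)
    (by rw [Nat.card_zpowers, hB]; exact h3.ge)
  obtain ⟨x, hx, h1⟩ : ∃ x ∈ P ⊓ centralizer (B : Set (centralizer ({t} : Set G))),
      x.1 ∉ (zpowers (ι z)).map f.toMonoidHom := by
    by_contra! H
    have := card_le_of_le (show (P ⊓ centralizer (B : Set (centralizer ({t} : Set G)))).map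
      (Subgroup.subtype _) ≤ _ from by rintro _ ⟨x, hx, rfl⟩; exact H x hx)
    rw [card_map_of_injective (subtype_injective _), card_map_of_injective f.injective, h,
      card_zz] at this
    omega
  obtain ⟨u, hu⟩ := (hf (f.symm x)).2 ⟨x, hx.1, by simp⟩
  obtain ⟨k, hk⟩ := exists_conj (η := f.symm η) ((f.symm.orderOf_eq _).trans ((orderOf_coe η).trans h3))
    (f.injective (by simpa [ht] using mem_centralizer_singleton_iff.1 η.2)) (u := u)
    (fun e => h1 ⟨1, one_mem _, by simp [← f.symm.apply_eq_iff_eq, ← hu, e]⟩)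
    (fun e => h1 ⟨_, mem_zpowers _, by simp [← e, hu]⟩)
    (by rw [hu, ← map_mul, ← map_mul]; exact congrArg (fun y => f.symm y.1) (hx.2 η hη))
  refine ⟨(MulAut.conj k).trans f, ?_⟩
  have := congrArg (Subgroup.map f.toMonoidHom) hk
  simpa [← a, MonoidHom.map_zpowers] using this

theorem main (f : C1 ≃* G) {Y : Subgroup G} (hY : Y = (zpowers b0).map f.toMonoidHom) :
    IsoJ2 (layer (centralizer (Y : Set G))) ∧ Nonempty (centralizer (((layer (centralizer
      (Y : Set G))).map (Subgroup.subtype _)) : Set G) ≃* alternatingGroup (Fin 5)) := by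
  subst hY
  obtain ⟨π, P, u, k, h, h'⟩ := j2
  obtain ⟨π', h⟩ := h.map f
  obtain ⟨c, -, d, -, hn⟩ := h'.lx.nonab
  obtain ⟨a1, a2, a3, ⟨e⟩⟩ := facts
  have := CL.J2.isSimpleGroup_J2
  obtain ⟨h1, h2⟩ := h.lay (isQuasisimple_of_isSimpleGroup fun _ => hn (mul_comm' c d))
    (L := (cenL LA).map f.toMonoidHom) ((map_mono a1).trans (map_centralizer_le_centralizer_image _ _))
    (by
      rintro _ ⟨y, hy, rfl⟩ hy'
      by_contra e
      exact a2 (zpowers_le.2 ((mem_map_iff_mem f.injective).1 hy') ((zp_eq ord_b0 hy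
        fun e' => e (by simp [e'])).ge (mem_zpowers _))))
    (by rw [card_map_of_injective f.injective, CL.J2.card_J2]; exact a3)
  refine ⟨h2, ⟨(MulEquiv.subgroupCongr ?_).trans ((f.subgroupMap _).symm.trans e)⟩⟩
  rw [h1]
  refine le_antisymm (fun x hx => ?_) (map_centralizer_le_centralizer_image _ _)
  obtain ⟨x, rfl⟩ := f.surjective x
  exact ⟨x, fun y hy => f.injective (by simpa using hx _ ⟨y, hy, rfl⟩), rfl⟩

end CL.Co1T.HJ
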