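import Cfsg.Agent.SPOR.Co1.Main
import Cfsg.Agent.SPOR.Cent3B
import Cfsg.Agent.SPOR.SymmCoxeter
import Cfsg.Agent.KSG.AltPres

/-!
The subgroups `S₃ × A₉` and `7 × A₇` of the first Conway group.
-/

set_option autoImplicit false
set_option linter.dupNamespace false
set_option maxRecDepth 100000

namespace CL.Co1T.L37

open Cfsg CL.Leech CL.MT CL.K CL.CG CL.Pack CL.A10 Subgroup
open Function (Injective)
open CL.CE hiding gen rowOf
open CL.Golay (E)

attribute [local irreducible] cd mu on ac

theorem coprod_inj {A B G : Type*} [Group A] [Group B] [Group G] {α : A →* G} {β : B →* G}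
    (c : ∀ a b, Commute (α a) (β b)) (hα : Injective α) (hβ : Injective β) (hZ : center B = ⊥) :
    Injective (α.noncommCoprod β c) := (injective_iff_map_eq_one _).2 fun ⟨a, b⟩ e => by
  have e' : α a * β b = 1 := e
  obtain rfl : b = 1 := mem_bot.1 (hZ ▸ mem_center_iff.2 fun b' => hβ (by
    rw [map_mul, map_mul, eq_inv_of_mul_eq_one_right e']; exact (c a b').inv_left.eq.symm))
  rw [map_one, mul_one, map_eq_one_iff _ hα] at e'
  rw [e']; rfl

theorem iso_of_card {A G : Type*} [Group A] [Group G] [Finite G] {Ψ : A →* G} (hi : Injective Ψ)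
    {K : Subgroup G} (h : Ψ.range ≤ K) (hc : Nat.card K < 2 * Nat.card A) : Nonempty (K ≃* A) := by
  have h1 := Nat.card_congr (MonoidHom.ofInjective hi).toEquiv
  obtain ⟨m, hm⟩ := card_dvd_of_le h
  have h2 : 0 < Nat.card K := Nat.card_pos
  obtain rfl : m = 1 := by
    rw [← h1] at hm
    rw [hm] at hc h2
    rcases m with _ | _ | m
    · simp at h2
    · rfl
    · nlinarith
  exact ⟨((MonoidHom.ofInjective hi).trans (MulEquiv.subgroupCongr
    (eq_of_le_of_card_ge h (by omega)))).symm⟩

theorem card_cent_pr {σ : Co0} {n : ℕ} (hn : Odd n) (h : σ ^ n = 1) :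
    Nat.card (centralizer ({σ} : Set Co0)) = 2 * Nat.card (centralizer ({pr σ} : Set C1)) := by
  rw [card_map_pr (mem_centralizer_singleton_iff.2 (neg1_comm σ).symm)]
  congr 3
  ext x
  obtain ⟨g, rfl⟩ := pr_surj x
  rw [mem_centralizer_singleton_iff, ← map_mul, ← map_mul]
  refine ⟨?_, fun e => mem_map_of_mem _ (mem_centralizer_singleton_iff.2
    ((pr_eq_iff.1 e).resolve_right fun e => neg1_ne_one ?_))⟩
  · rintro ⟨k, hk, e⟩
    rw [map_mul, map_mul, ← e, ← map_mul, ← map_mul, mem_centralizer_singleton_iff.1 hk]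
  · obtain ⟨m, rfl⟩ := hn
    have := congrArg (· ^ (2 * m + 1)) (show g * σ * g⁻¹ = neg1 * σ by rw [e]; group)
    simp only [conj_pow, h, (show Commute neg1 σ from (neg1_comm σ).symm).mul_pow] at this
    simpa [pow_succ, pow_mul, neg1_mul_self] using this.symm

theorem mem_norm_zp {G : Type*} [Group G] [Finite G] {k x : G} (h : k * x * k⁻¹ ∈ zpowers x) :
    k ∈ normalizer (zpowers x : Set G) :=
  mem_normalizer_fintype fun _ ⟨n, hn⟩ => by rw [← hn, ← conj_zpow]; exact zpow_mem h n

/-- Carmichael's relations -/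
noncomputable def altB (L : List ℕ) (m : ℕ) : Bool :=
  !(Nat.beq (lget L 0) on) && allLt (fun i => eqB L 511 [i, i, i] [] &&
    allLt (fun j => Nat.beq i j || eqB L 511 [i, j, i, j] []) m) m

theorem alt_hom {L : List ℕ} (hL : ∀ c ∈ L, Mem cd ⊤ c) {m : ℕ} (h0 : 0 < L.length) (hm : 3 ≤ m)
    (h : altB L m = true) : ∃ β : alternatingGroup (Fin (m + 2)) →* C1, Injective β ∧
      ∀ g, (∀ i < m, g * el L i = el L i * g) → ∀ b, Commute g (β b) := by
  simp only [altB, Bool.and_eq_true, Bool.or_eq_true, allLt_iff, Nat.beq_eq] at h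
  obtain ⟨β, hβ⟩ := AltPres.exists_alt_hom m (fun i => el L i)
    (fun i => by simpa [ev, pow_three] using eq_el hL (h.2 i i.2).1) fun i j hij => by
      simpa [ev, pow_two, mul_assoc] using eq_el hL
        (((h.2 i i.2).2 j j.2).resolve_left fun e => hij (Fin.ext e))
  have := alternatingGroup.isSimpleGroup (α := Fin (m + 2)) (by simp; omega)
  refine ⟨β, β.ker_eq_bot_iff.1 ((this.eq_bot_or_eq_top_of_normal _ inferInstance).resolve_right
    fun e => ?_), fun g hg b => ?_⟩
  · have h1 : β (AltPres.gen ⟨0, by omega⟩) = 1 := by rw [← MonoidHom.mem_ker, e]; trivial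
    rw [hβ] at h1
    have h2 := cd_el hL h0
    rw [h1, isCode.map_one] at h2
    simp [← h2] at h
  · have : (centralizer {g}).comap β = ⊤ := eq_top_iff.2 (AltPres.closure_gen m ▸ (closure_le _).2 (by
      rintro _ ⟨i, rfl⟩
      exact mem_centralizer_singleton_iff.2 (by rw [hβ]; exact (hg i i.2).symm)))
    exact (mem_centralizer_singleton_iff.1 (this.ge (mem_top b))).symm

theorem center_alt {m : ℕ} (hm : 2 ≤ m) : center (alternatingGroup (Fin (m + 2))) = ⊥ :=
  alternatingGroup.center_eq_bot (by simp; omega)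

noncomputable def cT : ℕ := nat_lit 0x21084210842108421084210842108421084210842108021084210842108421084010842108421084210842108421084210842008421084210842108421084210042108421084210842108420084210842108421084210842108421084200842108421084210842108421080210842108421084210842108421084210842108421004210842108421084210840108421084210842108421004210842108421084210842108421084210842100421084210842108401084210842108421084210842108421084210842108401084210842108421084210842108421084010842108421084210802108421084210842108421084210842108421080210842108421084210842108420084210842108421084210842108421084200842108421084210842108421084210042108421084210842108421084210840108421084210842108421084210802108421084210842108421084210842100421084210842108421084210842008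
noncomputable def cB0 : ℕ := nat_lit 0x5190c51908521484210832946429065290831988320c842108318c6429065190852904520c842108318ca419064214a420ca4288a318c64210852148421466214a4190a318ca42108320c832908529085214842108318c64298a3190832908520c842108519462290642146420ca4290a5294622108320c83290851908520c862108528ca42906420c64214a629063194642108520c82214a421464190a3294642108520c8420c6421464290a328c6431083214831908519083314842108518c6419063290852908320c44210832946419065190852908320c842188528c64290a3190831908520c84210c328c64190a52988329085214842108528c64190631908329083214841108328ca4290642146421464290a5194a4218852148420ca4314a4290a528ca42108520c8411464214a41906528c6421085214842146420c642906328ca42108530c84214a4214a429063294a4210c321484214a4214642906518c642108320cc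
noncomputable def cB1 : ℕ := nat_lit 0x619483210852108320ca4214a521465310a428c64294a4290852908419083218642946429464290831908419084194c5210852108520ca42146320ca52106618ca42946419085190841908418c85310852108320c6420ca320c6428c85218852108320ca420c65214a429483210c52108520c6420ca3214a32106418c6628c6429085290842908418c83210833108520ca420c632146418c832108521885214a420ca520ca41948521085210c52146420c6521465210642946418c6619085290841908418c85210832108530c64214a5214a5210a4294a428c642988519084290832106428ca418ca4290c5190841908419483210832108320c6620c6520ca4194852108321083214a430ca3214a321064294a4294a4190852988429083210a41946428ca419085190c419083210a428ca428c6419083290861908429485210832108520ca420ca530c63210a428c64194641908519084298852106428c6428ca41908319084290c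
noncomputable def cV : ℕ := nat_lit 0x421484210a4210642908329c8419083190a3194831948320c642106520c6420c84210e4210a419085194842908420c8421064210a4190811948429085190651948528c85214642106520c63290a518c852948520c642106320ca31906328c8518c8520c64210a320c6420c842106421024190851948429083290631948329485214a4210a320c63290631948518c8520ca421065214a421484210a4210640908328c84190831906518c8519483214a4210a520ca3290a328c8528c83214a42106520c65290a3294851948521464210a520ca421484210a4210642908308c841908329065294851948321464210632146420484210a4210642908328c8419083190a52948318c85214a42106320ca3190a5294852948520ca4210a52146519063294852948320ca42106320ca3190a31948528c8321464210a3214a420c8421064210a4190851948409083290652948328c8320c64210a520ca5290a51948518c8320ca4210a320c6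
noncomputable def cN : ℕ := nat_lit 0x49d2939ce93a4a73a4e7394ab3a4a93a5674a4a749ce529d2949ce949d674ad2939ce53a527594e73a52b3a5294aca93ace95a5273a4e7395273a52949d2939ce95a527394e75a5275a4a949d2939ce53a52b3a567595273a5295a4e72a52748ce949d2949ce949ce749d2539ce95a4a75a5673a5273a52949ca939ce53a4a73a4e73a5275a5254ad2939ce93a5273a56b3a5273a4a549d253ace53a5273a4e73a527394a93a4e74952749d654ad2549ce949ce749ca539ce93a5273a4eb5a52b3a529394eb4a52749ce549d2949d6929ce749ca939ce93a527395673a4a73952949d2939ce95a52b3a4e73a52b3952529d2919ce9395273a4e73a5273a5293a4e74a4ab29ce949d2549d6949ce73a4e7494a749ce949ca949ce529ce749d2539d693a527394e7395273a5253a4e74952749ce929d2929d6949ceb69d2959ce9395273a4e73a5273a5294ad2939d693a4a73a4e75a527395293a4e74a52749ce929d254ace92ace7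
noncomputable def MA : List ℕ := [C3B.a0, C3B.a1, cT, cB0, cB1, cV]
noncomputable def LA : List ℕ := [nat_lit 0xaaf8e65457e690387fc05004f02f5b4cefa989d8bd7c588dc2fcd43ff78588add0e80ee2b5f6898a0cc434dcf0aaa9e2507ffdd00eff040d423ffaffdd50675af08541b2d98c3f9e,
  nat_lit 0xb180c6df1042a411e3306e20e1c2f72bcdfad1bcda5170840b2f8c7e16ba9441efb086b170967814a2ddba16df2bfee84658e99c24555a0ebd4fe309e16ee0457ee2af0bff6d3e1,
  nat_lit 0x8000004000007000001000004200001e0000480000010000002000004000008000001000000800fd0500b7030000010040008079f7a6a3a7c2c4a7f2000008000004ca5006400001,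
  nat_lit 0xbda80ce4fa1342ee4b1e06736ce9ce4bbd40c4fa23cd4e0daa913315d6f18111007ee4a02be5aa915f2907b45ce495aa395eea1042694ddfa98eeef6801932ea50eae19d6f6a786a,
  nat_lit 0x764d9056e862786a49c3c607fc65650a48d92ba797b7e72bced88203e3b968241a3642289a41009648a6360a00fbe3dc78054af6ea6a41d700b6ea7bd82f9188128e2a4a02a00258,
  nat_lit 0xaa4a1c2efd2a1f1a7d97f4217f1ec032ad6a131d761aa1d83573d7549fcb3ee6a1aca8cc09290b3ea7ccac8e891541032e26dc0c09a62c140c4f4f4f673ecc9a41009c6289bfae4d]
noncomputable def L9 : List ℕ := [nat_lit 0x26e800c456e6bda53c5e57e6c584bca2c080c1735a1ab104da722626e0000424c0a0b16380480080600a97bb3fb64900006cc022ec4a55c21f3e5fa42f170889bf81ab5fc22f334d,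
  nat_lit 0xa6e8009e56e6bb25bc14f7e68d4c3c26c080d91bdaf9aee2621226004800a6e4c032b76b004000670d7672afcbece800046440e305f6e8cf6df24d12ffb600f3b76bc59a007a8340,
  nat_lit 0xdaa800e907e2eab4382306e2f3276225735a5a80804bb104caf0a0eca10029574296106700010000756d1813e1000900f1d6c21c346f38b8e7276b8ad01985341e8505bf989360ad,
  nat_lit 0x5aa800a3a7e27c94b87906e2ab2f621df3da02288023bee6b41820f6e9005dbfc2c4176f40a9005cb745cedec94a08001f16c26b405d72efcf55333a580f8555076bd37202fb58ca,
  nat_lit 0x7c4000fdf0047dd884bd5004888a5ed91bdaffdb5af2bfe697f95c90a9007aa9589da1ee9a4900af53459a209226e0007c88d8f6645dbc1292177508804889bfbe083d371a0a28d0,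
  nat_lit 0xe457080e06e2e62e32e9f6e669847f06bcc814847f19e6815f017bcd5163d1a699c10004005008e4b299208f63aaf1ea343ac283f2a5fca0788bed810c096f32a76fbaefcf328320,
  nat_lit 0xfc4000edf0048dd884fd5004d0eade619b5abd1bdab2aee26d715cac0900d081582b50ee5ae1007be3cb46e894364100ea6058176ac9196868de0c44ae178908ee08bc051ab7883b,
  nat_lit 0x8000004000007000001000004200001e0000480000010000002000004000008000001000000800fd0500b7030000010040008079f7a6a3a7c2c4a7f2000008000004ca5006400001,
  nat_lit 0x800000b6e88086e880f00080e6a8801e0000480000fba0da52600044e800d80800a3a7c2388080172dd851ae1801b3daa0000088006400100091f8b0ea28d02f1fc4501004400001]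
noncomputable def L7 : List ℕ := [nat_lit 0x5e48d67d3719ebee4b9ae6cf35772d13977fbd4f34c2affb5519e1e99c8a17613737f7aa35a1b9e4f8180b5718e64e7617d7f3208f63da482cd63a0e4072a2adeea83287636a786a,
  nat_lit 0x771d6249e19b2e74b4a76cf1b412d81017f65d034eca0fbe25acc5ddd0ec0221a40b4873664425c90a82609a84c8b8d6c9c7d61a7b2fa249313486d9c6a898a57598ae4833649c0,
  nat_lit 0x9c219696096661fd4708dd8f04495ed0a119648a47b7e2aefc590ee0b13576c102019b5b7d13a31daf7bdd13691763c99d93ef810f00aae0ca17456d7722f48129813668002bc83a,
  nat_lit 0xbcd650e0a3e30962cd528603527eb070bb03b2e9ce8b59cd435050ecbf7ad039870ab287e4bf5fb6a0a89612350522f4d47f13004ac10070b97c848cd4a286102b6f6bc5a34a6d43,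
  nat_lit 0x78c800a1b6f8c0488090ff46e4a080924dc60be1be6e5264d0548c89b3beb384f8812a5bb48e8c8a3a0efba25b9a6327040b4a2edbe1a3a7e23f6be5121aca0de7597fc8d7176a09,
  nat_lit 0xaa4a1c2efd2a1f1a7d97f4217f1ec032ad6a131d761aa1d83573d7549fcb3ee6a1aca8cc09290b3ea7ccac8e891541032e26dc0c09a62c140c4f4f4f673ecc9a41009c6289bfae4d]
def W9 : List (List ℕ) := [[1,0,0,0,0,1,1,0,0,1,0,0,0,0,1,1,1,1], [0,0,0,0,1,1,0,0,0,1,0,1,1,1,1,1,0], [1,0,1,0,1,0,1,1,1,1,1,0,0,0,0,0,0], [0,1,1,1,0,0,1,0,0,1,1,1,1,0,0,1,0,0,0,0], [0,0,0,0,1,0,1,1,1,1,0,1,0,0,0,1,0,0], [0,0,0,0,0,0,1,0,0,1,0,0,0,1,0,1,1,0], [0,1,0,1,1,0,0,1,0,0,0,0,1,1,0,0,0,1,0], [2]]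
def W7 : List (List ℕ) := [[3,3,4,3,3,4,4,3], [3,4,3,3,3,4,4,3], [3,3,3,3,4,4,3], [4,3,3,3,3,4,4,3], [3,3,3,4,3,4,4,3], [5]]
noncomputable def XX : List ℕ := [nat_lit 0x4802401200900380240120070038024012007004801c01200700380240120070048014012009, nat_lit 0x5002000c008004002000c0080040020014006004002801000800400200100080040028010006, nat_lit 0x40020010008004002001000a004001800c00800400200100080050018010008003001800c008, nat_lit 0x40020014006004002001400800400200100080040020014008004002800c008004002801000a, nat_lit 0x3801c00e007004801c00e0070048024012009003802400e009003802400e0090048014012007, nat_lit 0x4002000c0080040020010006004002001000a004001801000800500180140080040028010008]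
def st : List (ℕ × ℕ) := [(13938692, 2207772), (13938692, 11952160), (13938692, 13938692), (13062145, 4845570), (13062145, 7221256), (13062145, 13062145), (4845570, 7221256), (4845570, 4845570), (7221256, 7221256), (10170384, 10170384), (4038912, 4038912), (14919680, 14919680)]

theorem okA' : allLt (fun a => okC (lget MA a) (lget LA a)) 6 = true := by decide +kernel

theorem mem_LA : ∀ c ∈ LA, Mem cd ⊤ c := fun c hc => by
  obtain ⟨a, ha, rfl⟩ := exists_lget_of_mem hc
  exact mem_of_okC (allLt_iff.1 okA' a ha)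

/-- the element of order three -/
noncomputable def w : C1 := pr (permHom C3B.s0)

theorem cd_w : cd w = lget L9 8 := (cd_rep C3B.rs).trans (by decide +kernel)

theorem mem_L9 : ∀ c ∈ L9, Mem cd ⊤ c := fun c hc => by
  rcases List.mem_append.1 (show c ∈ L9.take 8 ++ [lget L9 8] from hc) with h | h
  · exact mem_of_subB mem_LA (S := 63) (ws := W9) (by decide +kernel) c h
  · exact ⟨w, trivial, cd_w.trans (List.mem_singleton.1 h).symm⟩

theorem el_w : el L9 8 = w := isCode.inj ((cd_el mem_L9 (by decide)).trans cd_w.symm)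

theorem three : ∃ W : Subgroup C1, Nat.card W = 3 ∧
    Nonempty (normalizer (W : Set C1) ≃* Equiv.Perm (Fin 3) × alternatingGroup (Fin 9)) := by
  have : Fact (Nat.Prime 3) := ⟨Nat.prime_three⟩
  have e : ∀ {a b}, eqB L9 511 a b = true → _ := eq_el mem_L9
  have c : ∀ k ∈ [7, 8], ∀ i < 7, el L9 k * el L9 i = el L9 i * el L9 k := fun k hk i hi => by
    simpa [ev] using e ((by decide +kernel :
      ∀ k ∈ [7, 8], ∀ i < 7, eqB L9 511 [k, i] [i, k] = true) k hk i hi)
  obtain ⟨β, hβ, hc⟩ := alt_hom mem_L9 (by decide) (m := 7) (by omega) (by decide +kernel)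
  have c7 := hc _ (c 7 (by decide))
  have c8 := hc _ (c 8 (by decide))
  have t2 := e (a := [7, 7]) (b := []) (by decide +kernel)
  have tw := e (a := [7, 8, 7, 8]) (b := []) (by decide +kernel)
  have w3 : w ^ 3 = 1 := by rw [w, ← map_pow, C3B.σ_pow, map_one]
  have w1 : w ≠ 1 := fun h => by
    have := cd_w; rw [h, isCode.map_one] at this; revert this; decide +kernel
  have ow := orderOf_eq_prime w3 w1
  simp only [ev_cons, ev_nil, mul_one, el_w] at t2 tw c8
  generalize el L9 7 = t at *
  have ti : t * w * t⁻¹ = w⁻¹ := by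
    rw [inv_eq_of_mul_eq_one_right t2, eq_inv_iff_mul_eq_one, ← tw]; group
  obtain ⟨α, hα⟩ := exists_perm_hom_of_braid 2 ![t, t * w]
    (by simp [Fin.forall_fin_two, t2, mul_assoc, tw]) (by intro i j; omega) (by
      intro i j hij
      obtain ⟨rfl, rfl⟩ : i = 0 ∧ j = 1 := by omega
      have a : t * w = w⁻¹ * t := by rw [← ti]; group
      have b : w⁻¹ * w⁻¹ = w := by rw [← mul_inv_rev, inv_eq_iff_mul_eq_one, ← pow_three', w3]
      show t * (t * w) * t = t * w * t * (t * w)
      rw [← mul_assoc, t2, one_mul, mul_assoc (t * w), ← mul_assoc t t, t2, one_mul, a, mul_assoc, a,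
        ← mul_assoc, b])
  have a0 : α (Equiv.swap 0 1) = t := hα 0
  have a1 : α (Equiv.swap 1 2) = t * w := hα 1
  have gen : ∀ K : Subgroup C1, t ∈ K → w ∈ K → ∀ a, α a ∈ K := fun K h1 h2 a => by
    have h3 := mul_mem h1 h2
    rcases (by decide : ∀ a : Equiv.Perm (Fin 3), a = 1 ∨ a = .swap 0 1 ∨ a = .swap 1 2 ∨
      a = .swap 0 1 * .swap 1 2 ∨ a = .swap 1 2 * .swap 0 1 ∨
      a = .swap 0 1 * .swap 1 2 * .swap 0 1) a with rfl | rfl | rfl | rfl | rfl | rfl <;>
      simp only [map_mul, map_one, a0, a1, one_mem, h1, h3, mul_mem]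
  have hi : Injective α := (injective_iff_map_eq_one _).2 fun a ha => by_contra fun h => w1 (by
    obtain ⟨g, k, hg⟩ := (by decide : ∀ a : Equiv.Perm (Fin 3), a ≠ 1 → ∃ g k,
      g * a * g⁻¹ * (k * a * k⁻¹) = .swap 0 1 * .swap 1 2) a h
    have := congrArg α hg
    simp only [map_mul, map_inv, ha, a0, a1, mul_one, mul_inv_cancel, ← mul_assoc, t2, one_mul] at this
    exact this.symm)
  have hN : t ∈ normalizer (zpowers w : Set C1) := mem_norm_zp (ti ▸ inv_mem (mem_zpowers w))
  have cc : ∀ a b, Commute (α a) (β b) := fun a b => mem_centralizer_singleton_iff.1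
    (gen _ (mem_centralizer_singleton_iff.2 (c7 b)) (mem_centralizer_singleton_iff.2 (c8 b)) a)
  refine ⟨zpowers w, by rw [Nat.card_zpowers, ow], iso_of_card
    (coprod_inj cc hi hβ (center_alt (m := 7) (by omega))) ?_ ?_⟩
  · rintro _ ⟨⟨a, b⟩, rfl⟩
    exact mul_mem (gen _ hN (le_normalizer (mem_zpowers w)) a) (mem_norm_zp (by
      rw [← (c8 b).eq, mul_inv_cancel_right]; exact mem_zpowers w))
  · have b := card_eq_two_mul (K := normalizer (zpowers w : Set C1)) (fun n hn => by
      classical
      have b1 := (hn _).1 (mem_zpowers w)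
      rw [SetLike.mem_coe, mem_zpowers_iff_mem_range_orderOf, ow] at b1
      simp only [Finset.mem_image, Finset.mem_range] at b1
      obtain ⟨k, hk, e⟩ := b1
      interval_cases k
      · rw [pow_zero, eq_comm, conj_eq_one_iff] at e; exact absurd e w1
      · exact Or.inl (e.symm.trans (pow_one _))
      · exact Or.inr (e.symm.trans (eq_inv_of_mul_eq_one_left ((pow_succ _ 2).symm.trans w3)))) hN
      (fun e => w1 (by rwa [pow_three, mul_eq_one_iff_eq_inv.2 e.symm, mul_one] at w3)) ti
    have b1 := card_le_of_le (inf_le_right (a := normalizer (zpowers w : Set C1))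
      (b := centralizer {w}))
    have b2 := card_cent_pr (by decide) C3B.σ_pow
    have b3 := C3B.card_cent
    rw [Nat.card_prod, C3B.card_A9, Nat.card_perm, Nat.card_fin]
    change _ = 2 * Nat.card (centralizer {w}) at b2
    simp only [Nat.factorial]
    omega

theorem mem_L7 : ∀ c ∈ L7, Mem cd ⊤ c := mem_of_subB mem_LA (S := 63) (ws := W7) (by decide +kernel)

theorem rV : RepF (aut cV) (ap cV) := rep_aut (okC_spec (allLt_iff.1 okA' 5 (by omega))).1
theorem rN : RepF (aut cN) (ap cN) := rep_aut (by decide +kernel)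

theorem V7 : aut cV ^ 7 = 1 := ((rep_pow rV 7).eq_iff RepF.one).2 (by decide +kernel)

theorem NV : aut cN * aut cV = aut cV * aut cV * aut cN :=
  ((rN.mul rV).eq_iff ((rV.mul rV).mul rN)).2 (by decide +kernel)

theorem chkX : ∀ k < 6, isL (lget XX k) = true ∧ nrmN (lget XX k) = 32 ∧
    (k < 5 → ap cV (lget XX k) = lget XX (k + 1)) := by decide +kernel

/-- the minimal vectors -/
noncomputable def xv (k : ℕ) : leechLattice := lvv (lget XX k)

theorem nx {k : ℕ} (hk : k < 6) : sqNorm (xv k : GolayPt → ℤ) = 32 := by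
  rw [xv, sqNorm_lvv (chkX k hk).1, (chkX k hk).2.1]; rfl

theorem eq_vec {g : Co0} {f : ℕ → ℕ} (h : RepF g f) {k : ℕ} (hk : k < 6) :
    ((g • xv k : leechLattice) : GolayPt → ℤ) = vec (f (lget XX k)) := by
  have := h (xv k) (by rw [nx hk]; norm_num)
  rw [xv, enc_lvv (chkX k hk).1] at this
  rw [this, vec_enc (bd_of_sqNorm (by rw [sqNorm_smul, ← xv, nx hk]; norm_num)), xv]

theorem fix_x {g : Co0} (hg : g * aut cV = aut cV * g) (h : g • xv 0 = xv 0) : g = 1 := by
  have h1 : ∀ k < 6, g • xv k = xv k := fun k hk => by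
    induction k with
    | zero => exact h
    | succ k ih =>
      have : xv (k + 1) = aut cV • xv k := Subtype.ext (by
        rw [eq_vec rV (by omega), (chkX k (by omega)).2.2 (by omega), xv, coe_lvv (chkX _ hk).1])
      rw [this, ← mul_smul, hg, mul_smul, ih (by omega)]
  have h2 : ∀ k < 6, κ (xv k) = F2M.vdec 24 (kv (lget XX k)) := fun k hk => by
    rw [← enc_lvv (chkX k hk).1, ← xv, kv_enc (by rw [nx hk]; norm_num), F2M.vdec_vcode]
  have h3 : κ (xv 0 + xv 2 + xv 4) = e0 := by
    rw [map_add, map_add, h2 0 (by omega), h2 2 (by omega), h2 4 (by omega), ← F2M.vdec_xor,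
      ← F2M.vdec_xor, ← F2M.vdec_vcode e0, vcode_e0]
    exact congrArg _ (by decide +kernel)
  obtain ⟨σ, d, rfl⟩ := exists_mono_of_mem_NN (pr_mem_N0.1 (show pr g • e0 = e0 by
    rw [← h3, pr_smul, smul_add, smul_add, h1 0 (by omega), h1 2 (by omega), h1 4 (by omega)]))
  have h4 : ∀ k < 6, ∀ p, (if p ∈ d.1 then -vec (lget XX k) (σ.1.symm p) else
      vec (lget XX k) (σ.1.symm p)) = vec (lget XX k) p := fun k hk p => by
    have := congrFun (coe_mono_smul σ d (xv k)) p
    rw [h1 k hk, xv, coe_lvv (chkX k hk).1] at this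
    exact this.symm
  have h5 : ∀ i < 24, (∃ k < 6, dg (lget XX k) i ≠ 8) ∧ ∀ j < 24, Nat.testBit 11613924 i = true →
      ((∀ k < 6, dg (lget XX k) i = dg (lget XX k) j) ∨
        ∀ k < 6, dg (lget XX k) i + dg (lget XX k) j = 16) → j = i := by decide +kernel
  have h6 : σ.1⁻¹ ∈ Golay.Fix (E.setOf 11613924) := Golay.mem_Fix.2 ⟨inv_mem σ.2, fun p hp =>
    E.enc_injective ((h5 _ (E.enc_lt p)).2 _ (E.enc_lt (σ.1.symm p)) (E.mem_setOf.1 hp) (by
      generalize hq : σ.1.symm p = p'
      by_cases a : p ∈ d.1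
      · exact Or.inr fun k hk => by
          have := h4 k hk p; simp only [a, if_true, vec, hq] at this; omega
      · exact Or.inl fun k hk => by
          have := h4 k hk p; simp only [a, if_false, vec, hq] at this; omega))⟩
  rw [Golay.Fix_eq_bot_of_fixc (steps := st) (by decide +kernel), mem_bot, inv_eq_one] at h6
  refine co_ext_e8 fun p => ?_
  rw [mono_e8, h6, one_smul, Equiv.Perm.one_apply, if_neg fun a => ?_]
  obtain ⟨k, hk, e⟩ := (h5 _ (E.enc_lt p)).1
  have := h4 k hk p
  rw [if_pos a, h6] at this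
  simp only [vec] at this
  exact e (by change -((dg _ (E.enc p) : ℤ) - 8) = _ at this; omega)

theorem card_V : 3 * Nat.card (centralizer ({aut cV} : Set Co0)) ≤ 196560 := by
  let I : leechLattice → ℤ × ℤ := fun x =>
    (dotInt (x : GolayPt → ℤ) (aut cV • x : leechLattice),
      dotInt (x : GolayPt → ℤ) ((aut cV * aut cV) • x : leechLattice))
  have hI : ∀ c : centralizer ({aut cV} : Set Co0), ∀ x, I (c.1 • x) = I x := fun c x => by
    have a : Commute c.1 (aut cV) := mem_centralizer_singleton_iff.1 c.2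
    simp only [I, ← mul_smul, ← a.eq, ← (a.mul_right a).eq]
    simp only [mul_smul c.1, dot_smul]
  have h1 : ∀ j < 3, I (aut cN ^ j • xv 0) = ([(-8, -8), (0, -8), (-8, 0)] : List _).getD j 0 := by
    intro j hj
    simp only [I, ← mul_smul]
    rw [eq_vec (rep_pow rN j) (by omega), eq_vec (rV.mul (rep_pow rN j)) (by omega),
      eq_vec ((rV.mul rV).mul (rep_pow rN j)) (by omega), dot_vec, dot_vec]
    revert j
    decide +kernel
  have h2 : ∀ (j : ℕ) c, Commute c (aut cV) → Commute ((aut cN ^ j)⁻¹ * c * aut cN ^ j) (aut cV) := by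
    intro j
    induction j with
    | zero => simp
    | succ j ih =>
      intro c hc
      have := ih c hc
      rw [pow_succ, mul_inv_rev, mul_assoc _⁻¹, mul_assoc _⁻¹, ← mul_assoc _ _ (aut cN)]
      generalize (aut cN ^ j)⁻¹ * c * aut cN ^ j = c' at this
      rw [Commute, SemiconjBy, mul_assoc, mul_assoc, NV, ← mul_assoc c', (this.mul_right this).eq,
        mul_assoc _ c', ← mul_assoc, ← mul_assoc (aut cV) _⁻¹]
      congr 1
      rw [inv_mul_eq_iff_eq_mul, ← mul_assoc, NV, mul_inv_cancel_right]
  have := (finite_shell 32).to_subtype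
  have := Nat.card_le_card_of_injective (β := {v : leechLattice | sqNorm (v : GolayPt → ℤ) = 32})
    (fun p : Fin 3 × centralizer ({aut cV} : Set Co0) =>
      ⟨p.2.1 • aut cN ^ p.1.1 • xv 0, by simp only [Set.mem_ofPred_eq, sqNorm_smul, nx (k := 0) (by omega)]⟩)
    fun ⟨j, c⟩ ⟨j', c'⟩ e => by
      replace e : c.1 • aut cN ^ j.1 • xv 0 = c'.1 • aut cN ^ j'.1 • xv 0 := congrArg Subtype.val e
      obtain rfl : j = j' := by
        have := congrArg I e
        rw [hI, hI, h1 _ j.2, h1 _ j'.2] at this
        clear e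
        revert j j'
        decide
      have := fix_x (h2 j _ (mem_centralizer_singleton_iff.1 (c'⁻¹ * c).2)) (by
        rw [mul_smul, mul_smul, coe_mul, mul_smul, e, coe_inv, inv_smul_smul, inv_smul_smul])
      rw [mul_assoc, inv_mul_eq_one, eq_comm, mul_eq_right, OneMemClass.coe_eq_one, inv_mul_eq_one] at this
      rw [this]
  rwa [Nat.card_prod, Nat.card_fin, Nat.card_coe_set_eq, ncard_shell_32] at this

theorem seven : ∃ V : Subgroup C1, Nat.card V = 7 ∧
    Nonempty (centralizer (V : Set C1) ≃* Multiplicative (ZMod 7) × alternatingGroup (Fin 7)) := by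
  have : Fact (Nat.Prime 7) := ⟨by norm_num⟩
  have h1 : cd (pr (aut cV)) = lget L7 5 := (okC_spec (allLt_iff.1 okA' 5 (by omega))).2
  have h2 : el L7 5 = pr (aut cV) := isCode.inj ((cd_el mem_L7 (by decide)).trans h1.symm)
  have h3 := card_cent_pr (by decide) V7
  have h4 := card_V
  have ov : orderOf (pr (aut cV)) = 7 := orderOf_eq_prime (by rw [← map_pow, V7, map_one]) fun h => by
    rw [h, isCode.map_one] at h1; revert h1; decide +kernel
  obtain ⟨β, hβ, hc⟩ := alt_hom mem_L7 (by decide) (m := 5) (by omega) (by decide +kernel)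
  have c := hc _ fun i hi => by
    simpa [ev] using eq_el mem_L7 ((by decide +kernel : ∀ i < 5, eqB L7 511 [5, i] [i, 5] = true) i hi)
  rw [h2] at c
  generalize pr (aut cV) = v at *
  have h5 : Nat.card (zpowers v) = 7 := by rw [Nat.card_zpowers, ov]
  let α := (zpowers v).subtype.comp (mulEquivOfPrimeCardEq (p := 7)
    (G := Multiplicative (ZMod 7)) (by simp) h5).toMonoidHom
  have a : ∀ x, α x ∈ zpowers v := fun x => Subtype.property _
  have cc : ∀ x b, Commute (α x) (β b) := fun x b => by
    obtain ⟨k, e⟩ := a x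
    exact e ▸ (c b).zpow_left k
  refine ⟨zpowers v, h5, iso_of_card (coprod_inj cc ((subtype_injective _).comp (MulEquiv.injective _))
    hβ (center_alt (m := 5) (by omega))) ?_ ?_⟩ <;> rw [LX.centralizer_zpowers]
  · rintro _ ⟨⟨x, b⟩, rfl⟩
    obtain ⟨k, e⟩ := a x
    exact mul_mem (mem_centralizer_singleton_iff.2 (e ▸ (Commute.refl v).zpow_left k))
      (mem_centralizer_singleton_iff.2 (c b).symm)
  · rw [Nat.card_prod, nat_card_alternatingGroup]
    simp [Nat.factorial]
    omega

end CL.Co1T.L37
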