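import Mathlib
import Cfsg.Agent.SPOR.LeechCls
import Cfsg.Agent.SPOR.LeechSimple
import Cfsg.Agent.SPOR.F2Mat
import Cfsg.Agent.S5392
import Cfsg.Agent.SOLV.Basic

/-!
The first Conway group as a coded group: its action on the Leech lattice modulo 2 in coordinates.
-/

set_option autoImplicit false
set_option linter.dupNamespace false
set_option exponentiation.threshold 700

namespace CL.Co1T

open Cfsg CL.Leech CL.MT CL.K CL.Pack CL.CG CL.F2M Matrix
open CL.Golay (E)

/-- the first Conway group -/
abbrev C1 : Type := Cfsg.Spor.Co1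

/-- the space `Λ / 2Λ` in coordinates -/
abbrev VV : Type := Fin 24 → ZMod 2

/-- a basis modulo 2 -/
def BM : ℕ := 0x42108421084210842108421084211042108421084210842108421084208c42108421084210842108421084118842108421084210842108421082310842108421084218842108421084210c42108431084210842108421084210c4210c421084210842108421084210c4214a429084214842108421085294a4210842108421084210c4218842108421084210843108421084218842108421084210862108421084218842108521085214a529084210a4214842108421084210842108421084218c42108529084210a5210a421084294a42108429085210852908421485214a4210852108421484290a429085214a42108421084210842108421084210c4210c529084294a4290a42108421084210a429085210a5294a4210842108421485290a429085214a4210842108429085210a5214a4214a421084210a421085214a42948429484210842148421084210a529485290a4210852108421084a5294a5294a5294a5294a5294a525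
/-- the dual basis modulo 2 -/
def DM : ℕ := 0x4a4a93a4e74a5272a4e939ce93ace7321484210a421083290842108328c8321084214842108229483290832908328c8321884210832148321083210c420c83210a42146518c86210842108511485294a4210842908521084210c32946421484210a42108319084208c42108421084210822108421086210852104421464210a32906419084210c521085210641906420c8529084208c52908320c85210a418c8421084208c4210842108421082210c421084210832108520ca519084210a420c84208c4210842108421082210843108421084210842108421082218842108421084210842108421082310842108421084214a41908420c842108421085294a42108421084210842108421082210c4210842108421084210842108221884210842108421084210842108231084210c431084210842108421086210c42088421084210842108421086210842188431084210842108421084310c421084210842108421084210842110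
def CM : ℕ := 0x1000001000001000001000001000001000001000001000001000001000001000001000001000001000001000001000001000001000001000001000001000001000001000001
def RM : ℕ := 0xffffff

theorem ok24 : F2M.OK 24 CM RM := ⟨by norm_num, by decide +kernel, by decide +kernel⟩

noncomputable def rowsB (c : ℕ) : Bool :=
  allLt2 (fun t => Nat.ble (fld 5 31 c t) 16) 24 24 &&
    allLt (fun k => force (rowOf c k) fun X => isL X && Nat.ble (nrmN X) 64) 24

theorem rows_spec {c : ℕ} (h : rowsB c = true) : (∀ j < 24, ∀ i < 24, ent c j i ≤ 16) ∧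
    ∀ k < 24, rowv c k ∈ leechLattice ∧ sqNorm (rowv c k) ≤ 64 := by
  simp only [rowsB, Bool.and_eq_true, allLt2_iff, allLt_iff, force_eq, Nat.ble_eq] at h
  have h1 : ∀ j < 24, ∀ i < 24, ent c j i ≤ 16 := fun j hj i hi => h.1 _ (by
    show 24 * j + i < 24 * 24
    omega)
  refine ⟨h1, fun k hk => ?_⟩
  have e : rowv c k = vec (rowOf c k) := by rw [← enc_rowv, vec_enc (bd_rowv (h1 k hk))]
  rw [e, sqNorm_vec_eq]
  exact ⟨isL_spec (h.2 k hk).1, by exact_mod_cast (h.2 k hk).2⟩

theorem rows_BM : rowsB BM = true := by decide +kernel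
theorem rows_DM : rowsB DM = true := by decide +kernel

/-- basis vectors -/
def bv (j : Fin 24) : leechLattice := ⟨rowv BM j, ((rows_spec rows_BM).2 j j.2).1⟩
/-- dual basis vectors -/
def dv (j : Fin 24) : leechLattice := ⟨rowv DM j, ((rows_spec rows_DM).2 j j.2).1⟩

theorem bv_le (j : Fin 24) : sqNorm (bv j : GolayPt → ℤ) ≤ 64 := ((rows_spec rows_BM).2 j j.2).2

/-- coordinates modulo 2 -/
noncomputable def κ : leechLattice →+ VV where
  toFun v j := (form (dv j) v : ZMod 2)
  map_zero' := funext fun j => by simp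
  map_add' v w := funext fun j => by simp

noncomputable def DMM : ℕ := matOf DM
noncomputable def DMK : ℕ := kOf DMM

/-- the code of the class of the vector with code `X` -/
noncomputable def kv (X : ℕ) : ℕ :=
  force X fun X => force (Nat.land (app DMM DMK X) ONES) fun Y =>
    sumLt (fun j => Nat.shiftLeft (dg Y j) j) 24

theorem kv_enc {v : leechLattice} (hv : sqNorm (v : GolayPt → ℤ) ≤ 64) :
    kv (enc v) = vcode (κ v) := by
  have h := rows_spec rows_DM
  rw [kv, force_eq, force_eq, DMK, DMM, app_dd h.1 h.2 hv, sumLt_eq]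
  have e : ∑ j ∈ Finset.range 24, Nat.shiftLeft (dg (pk fun j => dd DM v j % 2) j) j =
      PM.pack 1 24 fun j => dd DM v j % 2 := Finset.sum_congr rfl fun j hj => by
    rw [dg_pk (fun e _ => by omega) (Finset.mem_range.1 hj), one_mul]
    exact Nat.shiftLeft_eq _ _
  have hl : ∀ t < 24, dd DM v t % 2 < 2 ^ 1 := fun t _ => by omega
  rw [e]
  refine eq_of_vdec (CG.pack_lt hl) (vcode_lt _) ?_
  rw [vdec_vcode]
  funext j
  have h1 := PM.testBit_pack 24 hl j 0 one_pos
  rw [one_mul, add_zero, decide_eq_true j.2, Bool.true_and, Nat.testBit_zero] at h1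
  rw [vdec, h1]
  have h2 := eight_mul_form (dv j) v
  have h3 := dot_ge_of_norms (h.2 j j.2).2 hv
  have h4 : (dd DM v j : ℤ) = form (dv j) v + 8 := by
    unfold dd
    change 8 * form (dv j) v = dotInt (rowv DM j) v at h2
    omega
  change _ = ((form (dv j) v : ℤ) : ZMod 2)
  rw [show form (dv j) v = (dd DM v j : ℤ) - 8 by omega]
  push_cast
  rw [show (8 : ZMod 2) = 0 from rfl, sub_zero, ← ZMod.natCast_mod (dd DM v j) 2]
  rcases Nat.mod_two_eq_zero_or_one (dd DM v j) with e | e <;> rw [e] <;> rfl

theorem κ_bv (j : Fin 24) : κ (bv j) = Pi.single j 1 := by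
  have h : ∀ j < 24, kv (rowOf BM j) = 2 ^ j := by decide +kernel
  apply vcode_injective
  rw [← kv_enc (bv_le j), ← vdec_two_pow, vcode_vdec (Nat.pow_lt_pow_right one_lt_two j.2)]
  exact (congrArg kv (enc_rowv BM j)).trans (h j j.2)

theorem κ_two (v : leechLattice) : κ (2 • v) = 0 := by
  rw [map_nsmul]; funext j; rw [two_nsmul]; exact CharTwo.add_self_eq_zero _

/-- a lattice vector with given coordinates -/
noncomputable def sec (x : VV) : leechLattice := ∑ j, (x j).val • bv j

theorem κ_sec (x : VV) : κ (sec x) = x := by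
  rw [sec, map_sum]
  simp only [map_nsmul, κ_bv, ← Nat.cast_smul_eq_nsmul (ZMod 2), ZMod.natCast_zmod_val]
  funext i
  simp [Finset.sum_apply, Pi.single_apply]

theorem κ_surj : Function.Surjective κ := fun x => ⟨_, κ_sec x⟩

theorem κ_eq_iff {v w : leechLattice} : κ v = κ w ↔ Cong v w := by
  have h1 : twice.addSubgroupOf leechLattice ≤ κ.ker := fun x hx => by
    obtain ⟨z, hz, e⟩ := (mem_twice _).1 hx
    rw [show x = 2 • (⟨z, hz⟩ : leechLattice) from Subtype.ext e]
    exact κ_two _
  have h2 : κ.ker.index = 2 ^ 24 := by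
    rw [AddSubgroup.index_ker, AddMonoidHom.range_eq_top.2 κ_surj]
    simp
  have h3 : twice.addSubgroupOf leechLattice = κ.ker := by
    have := AddSubgroup.relIndex_mul_index h1
    rw [h2, show (twice.addSubgroupOf leechLattice).index = 2 ^ 24 from relIndex_twice] at this
    exact le_antisymm h1 (AddSubgroup.relIndex_eq_one.1
      (Nat.eq_of_mul_eq_mul_right (Nat.two_pow_pos 24) (this.trans (one_mul _).symm)))
  rw [← sub_eq_zero, ← map_sub, ← AddMonoidHom.mem_ker, ← h3, cong_iff_coe]
  exact mem_twice _

/-- the matrix of an automorphism -/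
noncomputable def mt (g : Co0) : Matrix (Fin 24) (Fin 24) (ZMod 2) := Matrix.of fun i j => κ (g • bv j) i

theorem mt_single (g : Co0) (j : Fin 24) : mt g *ᵥ Pi.single j 1 = κ (g • bv j) := by
  rw [mulVec_single_one]; rfl

theorem mt_κ (g : Co0) (v : leechLattice) : mt g *ᵥ κ v = κ (g • v) := by
  rw [← κ_eq_iff.2 ((κ_eq_iff.1 (κ_sec (κ v))).smul g), sec, Finset.smul_sum, map_sum]
  simp only [smul_nsmul, map_nsmul, ← Nat.cast_smul_eq_nsmul (ZMod 2), ZMod.natCast_zmod_val]
  funext i
  simp [mt, mulVec, dotProduct, Finset.sum_apply, mul_comm]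

theorem mt_ext {A B : Matrix (Fin 24) (Fin 24) (ZMod 2)} (h : ∀ v, A *ᵥ κ v = B *ᵥ κ v) : A = B :=
  Matrix.ext fun i j => by
    have := congrFun (h (bv j)) i
    rwa [κ_bv, mulVec_single_one, mulVec_single_one] at this

theorem mt_mul (g h : Co0) : mt (g * h) = mt g * mt h :=
  mt_ext fun v => by rw [← mulVec_mulVec, mt_κ, mt_κ, mt_κ, mul_smul]

theorem mt_one : mt 1 = 1 := mt_ext fun v => by rw [mt_κ, one_smul, one_mulVec]

/-- the representation modulo 2 -/
noncomputable def ρ0 : Co0 →* GL (Fin 24) (ZMod 2) :=
  MonoidHom.toHomUnits ⟨⟨mt, mt_one⟩, mt_mul⟩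

theorem ρ0_smul (g : Co0) (v : leechLattice) : ρ0 g • κ v = κ (g • v) := mt_κ g v

theorem ker_ρ0 : ρ0.ker = Subgroup.center Co0 := by
  ext g
  constructor
  · intro hg
    refine Cfsg.Agent.S5392.result.1 g fun v => ?_
    have := ρ0_smul g v
    rw [MonoidHom.mem_ker.1 hg, one_smul] at this
    obtain ⟨w, hw⟩ := κ_eq_iff.1 this.symm
    exact ⟨w, congrArg Subtype.val hw⟩
  · exact fun hg => Units.ext (mt_ext fun v => by
      rw [Units.val_one, one_mulVec]
      exact (mt_κ g v).trans (κ_eq_iff.2 (cong_of_mem_center hg v)))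

/-- the projection to `Co1` -/
noncomputable def pr : Co0 →* C1 := QuotientGroup.mk' (Subgroup.center Co0)

theorem pr_surj : Function.Surjective pr := QuotientGroup.mk'_surjective _

theorem pr_eq_one {g : Co0} : pr g = 1 ↔ g = 1 ∨ g = neg1 :=
  (QuotientGroup.eq_one_iff g).trans Leech.mem_center_iff

theorem pr_neg1 : pr neg1 = 1 := pr_eq_one.2 (Or.inr rfl)

theorem pr_eq_iff {g h : Co0} : pr g = pr h ↔ g = h ∨ g = neg1 * h := by
  rw [← mul_inv_eq_one, ← map_inv, ← map_mul, pr_eq_one, mul_inv_eq_one, mul_inv_eq_iff_eq_mul]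

/-- the faithful representation of `Co1` -/
noncomputable def ρ : C1 →* GL (Fin 24) (ZMod 2) :=
  QuotientGroup.lift (Subgroup.center Co0) ρ0 ker_ρ0.ge

theorem ρ_pr (g : Co0) : ρ (pr g) = ρ0 g := rfl

theorem ρ_inj : Function.Injective ρ := (injective_iff_map_eq_one _).2 fun x hx => by
  obtain ⟨g, rfl⟩ := pr_surj x
  exact (QuotientGroup.eq_one_iff g).2 (ker_ρ0.le hx)

instance : Finite C1 := Nat.finite_of_card_ne_zero (by
  show Nat.card (Co0 ⧸ Subgroup.center Co0) ≠ 0
  rw [card_Co1]; norm_num)

theorem card_C1 : Nat.card C1 = 4157776806543360000 := card_Co1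

theorem simple_C1 : IsSimpleGroup C1 := simple_Co1

noncomputable instance : MulAction C1 VV := MulAction.compHom VV ρ

theorem smul_def (x : C1) (v : VV) : x • v = ρ x • v := rfl

theorem pr_smul (g : Co0) (v : leechLattice) : pr g • κ v = κ (g • v) := ρ0_smul g v

theorem smul_add' (x : C1) (v w : VV) : x • (v + w) = x • v + x • w := by
  rw [smul_def, smul_def, smul_def, gl_smul, gl_smul, gl_smul, mulVec_add]

/-- the code of an element -/
noncomputable def cd (x : C1) : ℕ := gcode (ρ x)
/-- product of codes -/
noncomputable def mu (a b : ℕ) : ℕ := mulC 24 CM RM a b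
/-- action on codes of vectors -/
noncomputable def ac (a v : ℕ) : ℕ := act 24 RM a v
/-- code of the identity -/
def on : ℕ := 0x800000400000200000100000080000040000020000010000008000004000002000001000000800000400000200000100000080000040000020000010000008000004000002000001

theorem isCode : IsCode cd mu on := by
  have : on = oneC 24 := by decide +kernel
  rw [this]
  exact ok24.isCode.comp ρ ρ_inj

theorem ac_cd (g : C1) (v : VV) : ac (cd g) (vcode v) = vcode (g • v) := by
  rw [ac, cd, ok24.act_gcode, smul_def]

theorem isAct : IsAct cd (F2M.enc 24) ac := by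
  intro g v
  have e : (F2M.enc 24).enc = vcode := rfl
  rw [e, ac_cd]

/-- the code of an automorphism acting on codes by `f` -/
noncomputable def cdF (f : ℕ → ℕ) : ℕ := cols 24 fun j => kv (f (rowOf BM j))

theorem cd_rep {g : Co0} {f : ℕ → ℕ} (h : RepF g f) : cd (pr g) = cdF f :=
  mcode_eq_cols (A := mt g) fun j => by
    rw [mt_single, ← kv_enc (by rw [sqNorm_smul]; exact bv_le j),
      ← h _ ((bv_le j).trans (by norm_num))]
    exact congrArg (fun X => kv (f X)) (enc_rowv BM j)

/-- `c` is the matrix of an automorphism with code `x` -/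
noncomputable def okC (c x : ℕ) : Bool :=
  force (mM c) fun M => force (mK c) fun K => okMK c M K &&
    Nat.beq (cdF fun X => force X fun X => app M K X) x

theorem okC_spec {c x : ℕ} (h : okC c x = true) : okA c = true ∧ cd (pr (aut c)) = x := by
  rw [okC, force_eq, force_eq, Bool.and_eq_true] at h
  have h1 : okA c = true := by rw [okA, force_eq, force_eq]; exact h.1
  exact ⟨h1, (cd_rep (rep_aut h1)).trans (Nat.eq_of_beq_eq_true h.2)⟩

theorem mem_of_okC {c x : ℕ} (h : okC c x = true) : Mem cd ⊤ x := ⟨_, trivial, (okC_spec h).2⟩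

/-- the class of the standard frame -/
def e0 : VV := Pi.single 23 1

theorem κ_e8 (i : GolayPt) : κ (e8 i) = e0 := by
  have h : bv 23 = e8 (E.dec 0) := Subtype.ext (funext (by decide +kernel))
  rw [e0, ← κ_bv, h, κ_eq_iff]
  have := e8_sub_e8 i (E.dec 0) 1 (Or.inl rfl)
  rwa [one_smul] at this

theorem vcode_e0 : vcode e0 = 8388608 := by
  rw [e0, ← vdec_two_pow (23 : Fin 24), vcode_vdec (by norm_num)]; norm_num

/-- the monomial group -/
noncomputable def N0 : Subgroup C1 := MulAction.stabilizer C1 e0

theorem pr_mem_N0 {g : Co0} : pr g ∈ N0 ↔ g ∈ NN := by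
  rw [N0, MulAction.mem_stabilizer_iff, ← κ_e8 none, pr_smul, κ_eq_iff, ← St_e8 none, mem_St]

theorem card_map_pr {H : Subgroup Co0} (h : neg1 ∈ H) : Nat.card H = 2 * Nat.card (H.map pr) := by
  have h1 : pr.ker ≤ H := fun x hx => by
    rcases pr_eq_one.1 hx with rfl | rfl
    exacts [H.one_mem, h]
  have h2 := card_comap_of_surjective pr_surj (H.map pr)
  rwa [Subgroup.comap_map_eq, sup_of_le_left h1, show pr.ker = _ from QuotientGroup.ker_mk' _,
    card_center, mul_comm] at h2

theorem N0_eq : N0 = NN.map pr := by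
  ext x
  obtain ⟨g, rfl⟩ := pr_surj x
  rw [pr_mem_N0]
  refine ⟨Subgroup.mem_map_of_mem _, ?_⟩
  rintro ⟨h, hh, e⟩
  exact pr_mem_N0.1 (e ▸ pr_mem_N0.2 hh)

theorem card_N0 : Nat.card N0 = 501397585920 := by
  have := card_map_pr neg1_mem_NN
  rw [card_NN, ← N0_eq] at this
  omega

end CL.Co1T
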