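import Cfsg.Agent.SPOR.CE
import Cfsg.Agent.SPOR.Co1.K1D0
import Cfsg.Agent.SPOR.Co1.K1D1
import Cfsg.Agent.SPOR.Co1.K1D2
set_option autoImplicit false
set_option Elab.async false
set_option maxRecDepth 100000

namespace CL.Co1T.K1
open CL.CE CL.K

noncomputable def tT : Tr := (.node (.node (.node (.node (.node (.node (.node (.node (.node (.node (.node (.leaf tT0) (.leaf tT1024)) (.leaf tT512)) (.node (.node (.leaf tT256) (.leaf tT1280)) (.leaf tT768))) (.node (.node (.node (.leaf tT128) (.leaf tT1152)) (.leaf tT640)) (.node (.node (.leaf tT384) (.leaf tT1408)) (.leaf tT896)))) (.node (.node (.node (.node (.leaf tT64) (.leaf tT1088)) (.leaf tT576)) (.node (.node (.leaf tT320) (.leaf tT1344)) (.leaf tT832))) (.node (.node (.node (.leaf tT192) (.leaf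 tT1216)) (.leaf tT704)) (.node (.node (.leaf tT448) (.leaf tT1472)) (.leaf tT960))))) (.node (.node (.node (.node (.node (.leaf tT32) (.leaf tT1056)) (.leaf tT544)) (.node (.node (.leaf tT288) (.leaf tT1312)) (.leaf tT800))) (.node (.node (.node (.leaf tT160) (.leaf tT1184)) (.leaf tT672)) (.node (.node (.leaf tT416) (.leaf tT1440)) (.leaf tT928)))) (.node (.node (.node (.node (.leaf tT96) (.leaf tT1120)) (.leaf tT608)) (.node (.node (.leaf tT352) (.leaf tT1376)) (.leaf tT864))) (.node (.node (.node (.leaf tT224) (.leaf tT1248)) (.leaf tT736)) (.node (.node (.leaf tT480) (.leaf tT1504)) (.leaf tT992)))))) (.node (.node (.node (.node (.node (.node (.leaf tT16) (.leaf tT1040)) (.leaf tT528)) (.node (.node (.leaf tT272) (.leaf tT1296)) (.leaf tT784)))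 (.node (.node (.node (.leaf tT144) (.leaf tT1168)) (.leaf tT656)) (.node (.node (.leaf tT400) (.leaf tT1424)) (.leaf tT912)))) (.node (.node (.node (.node (.leaf tT80) (.leaf tT1104)) (.leaf tT592)) (.node (.node (.leaf tT336) (.leaf tT1360)) (.leaf tT848))) (.node (.node (.node (.leaf tT208) (.leaf tT1232)) (.leaf tT720)) (.node (.node (.leaf tT464) (.leaf tT1488)) (.leaf tT976))))) (.node (.node (.node (.node (.node (.leaf tT48) (.leaf tT1072)) (.leaf tT560)) (.node (.node (.leaf tT304) (.leaf tT1328)) (.leaf tT816))) (.node (.node (.node (.leaf tT176) (.leaf tT1200)) (.leaf tT688)) (.node (.node (.leaf tT432) (.leaf tT1456)) (.leaf tT944)))) (.node (.node (.node (.node (.leaf tT112) (.leaf tT1136)) (.leaf tT624)) (.node (.node (.leaf tT368) (.leaf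 tT1392)) (.leaf tT880))) (.node (.node (.node (.leaf tT240) (.leaf tT1264)) (.leaf tT752)) (.node (.node (.leaf tT496) (.leaf tT1520)) (.leaf tT1008))))))) (.node (.node (.node (.node (.node (.node (.node (.leaf tT8) (.leaf tT1032)) (.leaf tT520)) (.node (.node (.leaf tT264) (.leaf tT1288)) (.leaf tT776))) (.node (.node (.node (.leaf tT136) (.leaf tT1160)) (.leaf tT648)) (.node (.node (.leaf tT392) (.leaf tT1416)) (.leaf tT904)))) (.node (.node (.node (.node (.leaf tT72) (.leaf tT1096)) (.leaf tT584)) (.node (.node (.leaf tT328) (.leaf tT1352)) (.leaf tT840))) (.node (.node (.node (.leaf tT200) (.leaf tT1224)) (.leaf tT712)) (.node (.node (.leaf tT456) (.leaf tT1480)) (.leaf tT968))))) (.node (.node (.node (.node (.node (.leaf tT40) (.leaf tT1064))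 (.leaf tT552)) (.node (.node (.leaf tT296) (.leaf tT1320)) (.leaf tT808))) (.node (.node (.node (.leaf tT168) (.leaf tT1192)) (.leaf tT680)) (.node (.node (.leaf tT424) (.leaf tT1448)) (.leaf tT936)))) (.node (.node (.node (.node (.leaf tT104) (.leaf tT1128)) (.leaf tT616)) (.node (.node (.leaf tT360) (.leaf tT1384)) (.leaf tT872))) (.node (.node (.node (.leaf tT232) (.leaf tT1256)) (.leaf tT744)) (.node (.node (.leaf tT488) (.leaf tT1512)) (.leaf tT1000)))))) (.node (.node (.node (.node (.node (.node (.leaf tT24) (.leaf tT1048)) (.leaf tT536)) (.node (.node (.leaf tT280) (.leaf tT1304)) (.leaf tT792))) (.node (.node (.node (.leaf tT152) (.leaf tT1176)) (.leaf tT664)) (.node (.node (.leaf tT408) (.leaf tT1432)) (.leaf tT920)))) (.node (.node (.node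 (.node (.leaf tT88) (.leaf tT1112)) (.leaf tT600)) (.node (.node (.leaf tT344) (.leaf tT1368)) (.leaf tT856))) (.node (.node (.node (.leaf tT216) (.leaf tT1240)) (.leaf tT728)) (.node (.node (.leaf tT472) (.leaf tT1496)) (.leaf tT984))))) (.node (.node (.node (.node (.node (.leaf tT56) (.leaf tT1080)) (.leaf tT568)) (.node (.node (.leaf tT312) (.leaf tT1336)) (.leaf tT824))) (.node (.node (.node (.leaf tT184) (.leaf tT1208)) (.leaf tT696)) (.node (.node (.leaf tT440) (.leaf tT1464)) (.leaf tT952)))) (.node (.node (.node (.node (.leaf tT120) (.leaf tT1144)) (.leaf tT632)) (.node (.node (.leaf tT376) (.leaf tT1400)) (.leaf tT888))) (.node (.node (.node (.leaf tT248) (.leaf tT1272)) (.leaf tT760)) (.node (.node (.leaf tT504) (.leaf tT1528)) (.leaf tT1016))))))))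 (.node (.node (.node (.node (.node (.node (.node (.node (.leaf tT4) (.leaf tT1028)) (.leaf tT516)) (.node (.node (.leaf tT260) (.leaf tT1284)) (.leaf tT772))) (.node (.node (.node (.leaf tT132) (.leaf tT1156)) (.leaf tT644)) (.node (.node (.leaf tT388) (.leaf tT1412)) (.leaf tT900)))) (.node (.node (.node (.node (.leaf tT68) (.leaf tT1092)) (.leaf tT580)) (.node (.node (.leaf tT324) (.leaf tT1348)) (.leaf tT836))) (.node (.node (.node (.leaf tT196) (.leaf tT1220)) (.leaf tT708)) (.node (.node (.leaf tT452) (.leaf tT1476)) (.leaf tT964))))) (.node (.node (.node (.node (.node (.leaf tT36) (.leaf tT1060)) (.leaf tT548)) (.node (.node (.leaf tT292) (.leaf tT1316)) (.leaf tT804))) (.node (.node (.node (.leaf tT164) (.leaf tT1188)) (.leaf tT676)) (.node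 (.node (.leaf tT420) (.leaf tT1444)) (.leaf tT932)))) (.node (.node (.node (.node (.leaf tT100) (.leaf tT1124)) (.leaf tT612)) (.node (.node (.leaf tT356) (.leaf tT1380)) (.leaf tT868))) (.node (.node (.node (.leaf tT228) (.leaf tT1252)) (.leaf tT740)) (.node (.node (.leaf tT484) (.leaf tT1508)) (.leaf tT996)))))) (.node (.node (.node (.node (.node (.node (.leaf tT20) (.leaf tT1044)) (.leaf tT532)) (.node (.node (.leaf tT276) (.leaf tT1300)) (.leaf tT788))) (.node (.node (.node (.leaf tT148) (.leaf tT1172)) (.leaf tT660)) (.node (.node (.leaf tT404) (.leaf tT1428)) (.leaf tT916)))) (.node (.node (.node (.node (.leaf tT84) (.leaf tT1108)) (.leaf tT596)) (.node (.node (.leaf tT340) (.leaf tT1364)) (.leaf tT852))) (.node (.node (.node (.leaf tT212) (.leaf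 tT1236)) (.leaf tT724)) (.node (.node (.leaf tT468) (.leaf tT1492)) (.leaf tT980))))) (.node (.node (.node (.node (.node (.leaf tT52) (.leaf tT1076)) (.leaf tT564)) (.node (.node (.leaf tT308) (.leaf tT1332)) (.leaf tT820))) (.node (.node (.node (.leaf tT180) (.leaf tT1204)) (.leaf tT692)) (.node (.node (.leaf tT436) (.leaf tT1460)) (.leaf tT948)))) (.node (.node (.node (.node (.leaf tT116) (.leaf tT1140)) (.leaf tT628)) (.node (.node (.leaf tT372) (.leaf tT1396)) (.leaf tT884))) (.node (.node (.node (.leaf tT244) (.leaf tT1268)) (.leaf tT756)) (.node (.node (.leaf tT500) (.leaf tT1524)) (.leaf tT1012))))))) (.node (.node (.node (.node (.node (.node (.node (.leaf tT12) (.leaf tT1036)) (.leaf tT524)) (.node (.node (.leaf tT268) (.leaf tT1292)) (.leaf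 tT780))) (.node (.node (.node (.leaf tT140) (.leaf tT1164)) (.leaf tT652)) (.node (.node (.leaf tT396) (.leaf tT1420)) (.leaf tT908)))) (.node (.node (.node (.node (.leaf tT76) (.leaf tT1100)) (.leaf tT588)) (.node (.node (.leaf tT332) (.leaf tT1356)) (.leaf tT844))) (.node (.node (.node (.leaf tT204) (.leaf tT1228)) (.leaf tT716)) (.node (.node (.leaf tT460) (.leaf tT1484)) (.leaf tT972))))) (.node (.node (.node (.node (.node (.leaf tT44) (.leaf tT1068)) (.leaf tT556)) (.node (.node (.leaf tT300) (.leaf tT1324)) (.leaf tT812))) (.node (.node (.node (.leaf tT172) (.leaf tT1196)) (.leaf tT684)) (.node (.node (.leaf tT428) (.leaf tT1452)) (.leaf tT940)))) (.node (.node (.node (.node (.leaf tT108) (.leaf tT1132)) (.leaf tT620)) (.node (.node (.leaf tT364)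 (.leaf tT1388)) (.leaf tT876))) (.node (.node (.node (.leaf tT236) (.leaf tT1260)) (.leaf tT748)) (.node (.node (.leaf tT492) (.leaf tT1516)) (.leaf tT1004)))))) (.node (.node (.node (.node (.node (.node (.leaf tT28) (.leaf tT1052)) (.leaf tT540)) (.node (.node (.leaf tT284) (.leaf tT1308)) (.leaf tT796))) (.node (.node (.node (.leaf tT156) (.leaf tT1180)) (.leaf tT668)) (.node (.node (.leaf tT412) (.leaf tT1436)) (.leaf tT924)))) (.node (.node (.node (.node (.leaf tT92) (.leaf tT1116)) (.leaf tT604)) (.node (.node (.leaf tT348) (.leaf tT1372)) (.leaf tT860))) (.node (.node (.node (.leaf tT220) (.leaf tT1244)) (.leaf tT732)) (.node (.node (.leaf tT476) (.leaf tT1500)) (.leaf tT988))))) (.node (.node (.node (.node (.node (.leaf tT60) (.leaf tT1084))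 (.leaf tT572)) (.node (.node (.leaf tT316) (.leaf tT1340)) (.leaf tT828))) (.node (.node (.node (.leaf tT188) (.leaf tT1212)) (.leaf tT700)) (.node (.node (.leaf tT444) (.leaf tT1468)) (.leaf tT956)))) (.node (.node (.node (.node (.leaf tT124) (.leaf tT1148)) (.leaf tT636)) (.node (.node (.leaf tT380) (.leaf tT1404)) (.leaf tT892))) (.node (.node (.node (.leaf tT252) (.leaf tT1276)) (.leaf tT764)) (.node (.node (.leaf tT508) (.leaf tT1532)) (.leaf tT1020))))))))) (.node (.node (.node (.node (.node (.node (.node (.node (.node (.leaf tT2) (.leaf tT1026)) (.leaf tT514)) (.node (.node (.leaf tT258) (.leaf tT1282)) (.leaf tT770))) (.node (.node (.node (.leaf tT130) (.leaf tT1154)) (.leaf tT642)) (.node (.node (.leaf tT386) (.leaf tT1410)) (.leaf tT898))))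 (.node (.node (.node (.node (.leaf tT66) (.leaf tT1090)) (.leaf tT578)) (.node (.node (.leaf tT322) (.leaf tT1346)) (.leaf tT834))) (.node (.node (.node (.leaf tT194) (.leaf tT1218)) (.leaf tT706)) (.node (.node (.leaf tT450) (.leaf tT1474)) (.leaf tT962))))) (.node (.node (.node (.node (.node (.leaf tT34) (.leaf tT1058)) (.leaf tT546)) (.node (.node (.leaf tT290) (.leaf tT1314)) (.leaf tT802))) (.node (.node (.node (.leaf tT162) (.leaf tT1186)) (.leaf tT674)) (.node (.node (.leaf tT418) (.leaf tT1442)) (.leaf tT930)))) (.node (.node (.node (.node (.leaf tT98) (.leaf tT1122)) (.leaf tT610)) (.node (.node (.leaf tT354) (.leaf tT1378)) (.leaf tT866))) (.node (.node (.node (.leaf tT226) (.leaf tT1250)) (.leaf tT738)) (.node (.node (.leaf tT482) (.leaf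 tT1506)) (.leaf tT994)))))) (.node (.node (.node (.node (.node (.node (.leaf tT18) (.leaf tT1042)) (.leaf tT530)) (.node (.node (.leaf tT274) (.leaf tT1298)) (.leaf tT786))) (.node (.node (.node (.leaf tT146) (.leaf tT1170)) (.leaf tT658)) (.node (.node (.leaf tT402) (.leaf tT1426)) (.leaf tT914)))) (.node (.node (.node (.node (.leaf tT82) (.leaf tT1106)) (.leaf tT594)) (.node (.node (.leaf tT338) (.leaf tT1362)) (.leaf tT850))) (.node (.node (.node (.leaf tT210) (.leaf tT1234)) (.leaf tT722)) (.node (.node (.leaf tT466) (.leaf tT1490)) (.leaf tT978))))) (.node (.node (.node (.node (.node (.leaf tT50) (.leaf tT1074)) (.leaf tT562)) (.node (.node (.leaf tT306) (.leaf tT1330)) (.leaf tT818))) (.node (.node (.node (.leaf tT178) (.leaf tT1202)) (.leaf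 tT690)) (.node (.node (.leaf tT434) (.leaf tT1458)) (.leaf tT946)))) (.node (.node (.node (.node (.leaf tT114) (.leaf tT1138)) (.leaf tT626)) (.node (.node (.leaf tT370) (.leaf tT1394)) (.leaf tT882))) (.node (.node (.node (.leaf tT242) (.leaf tT1266)) (.leaf tT754)) (.node (.node (.leaf tT498) (.leaf tT1522)) (.leaf tT1010))))))) (.node (.node (.node (.node (.node (.node (.node (.leaf tT10) (.leaf tT1034)) (.leaf tT522)) (.node (.node (.leaf tT266) (.leaf tT1290)) (.leaf tT778))) (.node (.node (.node (.leaf tT138) (.leaf tT1162)) (.leaf tT650)) (.node (.node (.leaf tT394) (.leaf tT1418)) (.leaf tT906)))) (.node (.node (.node (.node (.leaf tT74) (.leaf tT1098)) (.leaf tT586)) (.node (.node (.leaf tT330) (.leaf tT1354)) (.leaf tT842))) (.node (.node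 (.node (.leaf tT202) (.leaf tT1226)) (.leaf tT714)) (.node (.node (.leaf tT458) (.leaf tT1482)) (.leaf tT970))))) (.node (.node (.node (.node (.node (.leaf tT42) (.leaf tT1066)) (.leaf tT554)) (.node (.node (.leaf tT298) (.leaf tT1322)) (.leaf tT810))) (.node (.node (.node (.leaf tT170) (.leaf tT1194)) (.leaf tT682)) (.node (.node (.leaf tT426) (.leaf tT1450)) (.leaf tT938)))) (.node (.node (.node (.node (.leaf tT106) (.leaf tT1130)) (.leaf tT618)) (.node (.node (.leaf tT362) (.leaf tT1386)) (.leaf tT874))) (.node (.node (.node (.leaf tT234) (.leaf tT1258)) (.leaf tT746)) (.node (.node (.leaf tT490) (.leaf tT1514)) (.leaf tT1002)))))) (.node (.node (.node (.node (.node (.node (.leaf tT26) (.leaf tT1050)) (.leaf tT538)) (.node (.node (.leaf tT282)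 (.leaf tT1306)) (.leaf tT794))) (.node (.node (.node (.leaf tT154) (.leaf tT1178)) (.leaf tT666)) (.node (.node (.leaf tT410) (.leaf tT1434)) (.leaf tT922)))) (.node (.node (.node (.node (.leaf tT90) (.leaf tT1114)) (.leaf tT602)) (.node (.node (.leaf tT346) (.leaf tT1370)) (.leaf tT858))) (.node (.node (.node (.leaf tT218) (.leaf tT1242)) (.leaf tT730)) (.node (.node (.leaf tT474) (.leaf tT1498)) (.leaf tT986))))) (.node (.node (.node (.node (.node (.leaf tT58) (.leaf tT1082)) (.leaf tT570)) (.node (.node (.leaf tT314) (.leaf tT1338)) (.leaf tT826))) (.node (.node (.node (.leaf tT186) (.leaf tT1210)) (.leaf tT698)) (.node (.node (.leaf tT442) (.leaf tT1466)) (.leaf tT954)))) (.node (.node (.node (.node (.leaf tT122) (.leaf tT1146)) (.leaf tT634))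 (.node (.node (.leaf tT378) (.leaf tT1402)) (.leaf tT890))) (.node (.node (.node (.leaf tT250) (.leaf tT1274)) (.leaf tT762)) (.node (.node (.leaf tT506) (.leaf tT1530)) (.leaf tT1018)))))))) (.node (.node (.node (.node (.node (.node (.node (.node (.leaf tT6) (.leaf tT1030)) (.leaf tT518)) (.node (.node (.leaf tT262) (.leaf tT1286)) (.leaf tT774))) (.node (.node (.node (.leaf tT134) (.leaf tT1158)) (.leaf tT646)) (.node (.node (.leaf tT390) (.leaf tT1414)) (.leaf tT902)))) (.node (.node (.node (.node (.leaf tT70) (.leaf tT1094)) (.leaf tT582)) (.node (.node (.leaf tT326) (.leaf tT1350)) (.leaf tT838))) (.node (.node (.node (.leaf tT198) (.leaf tT1222)) (.leaf tT710)) (.node (.node (.leaf tT454) (.leaf tT1478)) (.leaf tT966))))) (.node (.node (.node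 (.node (.node (.leaf tT38) (.leaf tT1062)) (.leaf tT550)) (.node (.node (.leaf tT294) (.leaf tT1318)) (.leaf tT806))) (.node (.node (.node (.leaf tT166) (.leaf tT1190)) (.leaf tT678)) (.node (.node (.leaf tT422) (.leaf tT1446)) (.leaf tT934)))) (.node (.node (.node (.node (.leaf tT102) (.leaf tT1126)) (.leaf tT614)) (.node (.node (.leaf tT358) (.leaf tT1382)) (.leaf tT870))) (.node (.node (.node (.leaf tT230) (.leaf tT1254)) (.leaf tT742)) (.node (.node (.leaf tT486) (.leaf tT1510)) (.leaf tT998)))))) (.node (.node (.node (.node (.node (.node (.leaf tT22) (.leaf tT1046)) (.leaf tT534)) (.node (.node (.leaf tT278) (.leaf tT1302)) (.leaf tT790))) (.node (.node (.node (.leaf tT150) (.leaf tT1174)) (.leaf tT662)) (.node (.node (.leaf tT406) (.leaf tT1430))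 (.leaf tT918)))) (.node (.node (.node (.node (.leaf tT86) (.leaf tT1110)) (.leaf tT598)) (.node (.node (.leaf tT342) (.leaf tT1366)) (.leaf tT854))) (.node (.node (.node (.leaf tT214) (.leaf tT1238)) (.leaf tT726)) (.node (.node (.leaf tT470) (.leaf tT1494)) (.leaf tT982))))) (.node (.node (.node (.node (.node (.leaf tT54) (.leaf tT1078)) (.leaf tT566)) (.node (.node (.leaf tT310) (.leaf tT1334)) (.leaf tT822))) (.node (.node (.node (.leaf tT182) (.leaf tT1206)) (.leaf tT694)) (.node (.node (.leaf tT438) (.leaf tT1462)) (.leaf tT950)))) (.node (.node (.node (.node (.leaf tT118) (.leaf tT1142)) (.leaf tT630)) (.node (.node (.leaf tT374) (.leaf tT1398)) (.leaf tT886))) (.node (.node (.node (.leaf tT246) (.leaf tT1270)) (.leaf tT758)) (.node (.node (.leaf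 tT502) (.leaf tT1526)) (.leaf tT1014))))))) (.node (.node (.node (.node (.node (.node (.node (.leaf tT14) (.leaf tT1038)) (.leaf tT526)) (.node (.node (.leaf tT270) (.leaf tT1294)) (.leaf tT782))) (.node (.node (.node (.leaf tT142) (.leaf tT1166)) (.leaf tT654)) (.node (.node (.leaf tT398) (.leaf tT1422)) (.leaf tT910)))) (.node (.node (.node (.node (.leaf tT78) (.leaf tT1102)) (.leaf tT590)) (.node (.node (.leaf tT334) (.leaf tT1358)) (.leaf tT846))) (.node (.node (.node (.leaf tT206) (.leaf tT1230)) (.leaf tT718)) (.node (.node (.leaf tT462) (.leaf tT1486)) (.leaf tT974))))) (.node (.node (.node (.node (.node (.leaf tT46) (.leaf tT1070)) (.leaf tT558)) (.node (.node (.leaf tT302) (.leaf tT1326)) (.leaf tT814))) (.node (.node (.node (.leaf tT174)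 (.leaf tT1198)) (.leaf tT686)) (.node (.node (.leaf tT430) (.leaf tT1454)) (.leaf tT942)))) (.node (.node (.node (.node (.leaf tT110) (.leaf tT1134)) (.leaf tT622)) (.node (.node (.leaf tT366) (.leaf tT1390)) (.leaf tT878))) (.node (.node (.node (.leaf tT238) (.leaf tT1262)) (.leaf tT750)) (.node (.node (.leaf tT494) (.leaf tT1518)) (.leaf tT1006)))))) (.node (.node (.node (.node (.node (.node (.leaf tT30) (.leaf tT1054)) (.leaf tT542)) (.node (.node (.leaf tT286) (.leaf tT1310)) (.leaf tT798))) (.node (.node (.node (.leaf tT158) (.leaf tT1182)) (.leaf tT670)) (.node (.node (.leaf tT414) (.leaf tT1438)) (.leaf tT926)))) (.node (.node (.node (.node (.leaf tT94) (.leaf tT1118)) (.leaf tT606)) (.node (.node (.leaf tT350) (.leaf tT1374)) (.leaf tT862)))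 (.node (.node (.node (.leaf tT222) (.leaf tT1246)) (.leaf tT734)) (.node (.node (.leaf tT478) (.leaf tT1502)) (.leaf tT990))))) (.node (.node (.node (.node (.node (.leaf tT62) (.leaf tT1086)) (.leaf tT574)) (.node (.node (.leaf tT318) (.leaf tT1342)) (.leaf tT830))) (.node (.node (.node (.leaf tT190) (.leaf tT1214)) (.leaf tT702)) (.node (.node (.leaf tT446) (.leaf tT1470)) (.leaf tT958)))) (.node (.node (.node (.node (.leaf tT126) (.leaf tT1150)) (.leaf tT638)) (.node (.node (.leaf tT382) (.leaf tT1406)) (.leaf tT894))) (.node (.node (.node (.leaf tT254) (.leaf tT1278)) (.leaf tT766)) (.node (.node (.leaf tT510) (.leaf tT1534)) (.leaf tT1022)))))))))) (.node (.node (.node (.node (.node (.node (.node (.node (.node (.node (.leaf tT1) (.leaf tT1025))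 (.leaf tT513)) (.node (.node (.leaf tT257) (.leaf tT1281)) (.leaf tT769))) (.node (.node (.node (.leaf tT129) (.leaf tT1153)) (.leaf tT641)) (.node (.node (.leaf tT385) (.leaf tT1409)) (.leaf tT897)))) (.node (.node (.node (.node (.leaf tT65) (.leaf tT1089)) (.leaf tT577)) (.node (.node (.leaf tT321) (.leaf tT1345)) (.leaf tT833))) (.node (.node (.node (.leaf tT193) (.leaf tT1217)) (.leaf tT705)) (.node (.node (.leaf tT449) (.leaf tT1473)) (.leaf tT961))))) (.node (.node (.node (.node (.node (.leaf tT33) (.leaf tT1057)) (.leaf tT545)) (.node (.node (.leaf tT289) (.leaf tT1313)) (.leaf tT801))) (.node (.node (.node (.leaf tT161) (.leaf tT1185)) (.leaf tT673)) (.node (.node (.leaf tT417) (.leaf tT1441)) (.leaf tT929)))) (.node (.node (.node (.node (.leaf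 tT97) (.leaf tT1121)) (.leaf tT609)) (.node (.node (.leaf tT353) (.leaf tT1377)) (.leaf tT865))) (.node (.node (.node (.leaf tT225) (.leaf tT1249)) (.leaf tT737)) (.node (.node (.leaf tT481) (.leaf tT1505)) (.leaf tT993)))))) (.node (.node (.node (.node (.node (.node (.leaf tT17) (.leaf tT1041)) (.leaf tT529)) (.node (.node (.leaf tT273) (.leaf tT1297)) (.leaf tT785))) (.node (.node (.node (.leaf tT145) (.leaf tT1169)) (.leaf tT657)) (.node (.node (.leaf tT401) (.leaf tT1425)) (.leaf tT913)))) (.node (.node (.node (.node (.leaf tT81) (.leaf tT1105)) (.leaf tT593)) (.node (.node (.leaf tT337) (.leaf tT1361)) (.leaf tT849))) (.node (.node (.node (.leaf tT209) (.leaf tT1233)) (.leaf tT721)) (.node (.node (.leaf tT465) (.leaf tT1489)) (.leaf tT977)))))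 (.node (.node (.node (.node (.node (.leaf tT49) (.leaf tT1073)) (.leaf tT561)) (.node (.node (.leaf tT305) (.leaf tT1329)) (.leaf tT817))) (.node (.node (.node (.leaf tT177) (.leaf tT1201)) (.leaf tT689)) (.node (.node (.leaf tT433) (.leaf tT1457)) (.leaf tT945)))) (.node (.node (.node (.node (.leaf tT113) (.leaf tT1137)) (.leaf tT625)) (.node (.node (.leaf tT369) (.leaf tT1393)) (.leaf tT881))) (.node (.node (.node (.leaf tT241) (.leaf tT1265)) (.leaf tT753)) (.node (.node (.leaf tT497) (.leaf tT1521)) (.leaf tT1009))))))) (.node (.node (.node (.node (.node (.node (.node (.leaf tT9) (.leaf tT1033)) (.leaf tT521)) (.node (.node (.leaf tT265) (.leaf tT1289)) (.leaf tT777))) (.node (.node (.node (.leaf tT137) (.leaf tT1161)) (.leaf tT649)) (.node (.node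 (.leaf tT393) (.leaf tT1417)) (.leaf tT905)))) (.node (.node (.node (.node (.leaf tT73) (.leaf tT1097)) (.leaf tT585)) (.node (.node (.leaf tT329) (.leaf tT1353)) (.leaf tT841))) (.node (.node (.node (.leaf tT201) (.leaf tT1225)) (.leaf tT713)) (.node (.node (.leaf tT457) (.leaf tT1481)) (.leaf tT969))))) (.node (.node (.node (.node (.node (.leaf tT41) (.leaf tT1065)) (.leaf tT553)) (.node (.node (.leaf tT297) (.leaf tT1321)) (.leaf tT809))) (.node (.node (.node (.leaf tT169) (.leaf tT1193)) (.leaf tT681)) (.node (.node (.leaf tT425) (.leaf tT1449)) (.leaf tT937)))) (.node (.node (.node (.node (.leaf tT105) (.leaf tT1129)) (.leaf tT617)) (.node (.node (.leaf tT361) (.leaf tT1385)) (.leaf tT873))) (.node (.node (.node (.leaf tT233) (.leaf tT1257))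 (.leaf tT745)) (.node (.node (.leaf tT489) (.leaf tT1513)) (.leaf tT1001)))))) (.node (.node (.node (.node (.node (.node (.leaf tT25) (.leaf tT1049)) (.leaf tT537)) (.node (.node (.leaf tT281) (.leaf tT1305)) (.leaf tT793))) (.node (.node (.node (.leaf tT153) (.leaf tT1177)) (.leaf tT665)) (.node (.node (.leaf tT409) (.leaf tT1433)) (.leaf tT921)))) (.node (.node (.node (.node (.leaf tT89) (.leaf tT1113)) (.leaf tT601)) (.node (.node (.leaf tT345) (.leaf tT1369)) (.leaf tT857))) (.node (.node (.node (.leaf tT217) (.leaf tT1241)) (.leaf tT729)) (.node (.node (.leaf tT473) (.leaf tT1497)) (.leaf tT985))))) (.node (.node (.node (.node (.node (.leaf tT57) (.leaf tT1081)) (.leaf tT569)) (.node (.node (.leaf tT313) (.leaf tT1337)) (.leaf tT825))) (.node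 (.node (.node (.leaf tT185) (.leaf tT1209)) (.leaf tT697)) (.node (.node (.leaf tT441) (.leaf tT1465)) (.leaf tT953)))) (.node (.node (.node (.node (.leaf tT121) (.leaf tT1145)) (.leaf tT633)) (.node (.node (.leaf tT377) (.leaf tT1401)) (.leaf tT889))) (.node (.node (.node (.leaf tT249) (.leaf tT1273)) (.leaf tT761)) (.node (.node (.leaf tT505) (.leaf tT1529)) (.leaf tT1017)))))))) (.node (.node (.node (.node (.node (.node (.node (.node (.leaf tT5) (.leaf tT1029)) (.leaf tT517)) (.node (.node (.leaf tT261) (.leaf tT1285)) (.leaf tT773))) (.node (.node (.node (.leaf tT133) (.leaf tT1157)) (.leaf tT645)) (.node (.node (.leaf tT389) (.leaf tT1413)) (.leaf tT901)))) (.node (.node (.node (.node (.leaf tT69) (.leaf tT1093)) (.leaf tT581)) (.node (.node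 (.leaf tT325) (.leaf tT1349)) (.leaf tT837))) (.node (.node (.node (.leaf tT197) (.leaf tT1221)) (.leaf tT709)) (.node (.node (.leaf tT453) (.leaf tT1477)) (.leaf tT965))))) (.node (.node (.node (.node (.node (.leaf tT37) (.leaf tT1061)) (.leaf tT549)) (.node (.node (.leaf tT293) (.leaf tT1317)) (.leaf tT805))) (.node (.node (.node (.leaf tT165) (.leaf tT1189)) (.leaf tT677)) (.node (.node (.leaf tT421) (.leaf tT1445)) (.leaf tT933)))) (.node (.node (.node (.node (.leaf tT101) (.leaf tT1125)) (.leaf tT613)) (.node (.node (.leaf tT357) (.leaf tT1381)) (.leaf tT869))) (.node (.node (.node (.leaf tT229) (.leaf tT1253)) (.leaf tT741)) (.node (.node (.leaf tT485) (.leaf tT1509)) (.leaf tT997)))))) (.node (.node (.node (.node (.node (.node (.leaf tT21)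 (.leaf tT1045)) (.leaf tT533)) (.node (.node (.leaf tT277) (.leaf tT1301)) (.leaf tT789))) (.node (.node (.node (.leaf tT149) (.leaf tT1173)) (.leaf tT661)) (.node (.node (.leaf tT405) (.leaf tT1429)) (.leaf tT917)))) (.node (.node (.node (.node (.leaf tT85) (.leaf tT1109)) (.leaf tT597)) (.node (.node (.leaf tT341) (.leaf tT1365)) (.leaf tT853))) (.node (.node (.node (.leaf tT213) (.leaf tT1237)) (.leaf tT725)) (.node (.node (.leaf tT469) (.leaf tT1493)) (.leaf tT981))))) (.node (.node (.node (.node (.node (.leaf tT53) (.leaf tT1077)) (.leaf tT565)) (.node (.node (.leaf tT309) (.leaf tT1333)) (.leaf tT821))) (.node (.node (.node (.leaf tT181) (.leaf tT1205)) (.leaf tT693)) (.node (.node (.leaf tT437) (.leaf tT1461)) (.leaf tT949)))) (.node (.node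 (.node (.node (.leaf tT117) (.leaf tT1141)) (.leaf tT629)) (.node (.node (.leaf tT373) (.leaf tT1397)) (.leaf tT885))) (.node (.node (.node (.leaf tT245) (.leaf tT1269)) (.leaf tT757)) (.node (.node (.leaf tT501) (.leaf tT1525)) (.leaf tT1013))))))) (.node (.node (.node (.node (.node (.node (.node (.leaf tT13) (.leaf tT1037)) (.leaf tT525)) (.node (.node (.leaf tT269) (.leaf tT1293)) (.leaf tT781))) (.node (.node (.node (.leaf tT141) (.leaf tT1165)) (.leaf tT653)) (.node (.node (.leaf tT397) (.leaf tT1421)) (.leaf tT909)))) (.node (.node (.node (.node (.leaf tT77) (.leaf tT1101)) (.leaf tT589)) (.node (.node (.leaf tT333) (.leaf tT1357)) (.leaf tT845))) (.node (.node (.node (.leaf tT205) (.leaf tT1229)) (.leaf tT717)) (.node (.node (.leaf tT461) (.leaf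 tT1485)) (.leaf tT973))))) (.node (.node (.node (.node (.node (.leaf tT45) (.leaf tT1069)) (.leaf tT557)) (.node (.node (.leaf tT301) (.leaf tT1325)) (.leaf tT813))) (.node (.node (.node (.leaf tT173) (.leaf tT1197)) (.leaf tT685)) (.node (.node (.leaf tT429) (.leaf tT1453)) (.leaf tT941)))) (.node (.node (.node (.node (.leaf tT109) (.leaf tT1133)) (.leaf tT621)) (.node (.node (.leaf tT365) (.leaf tT1389)) (.leaf tT877))) (.node (.node (.node (.leaf tT237) (.leaf tT1261)) (.leaf tT749)) (.node (.node (.leaf tT493) (.leaf tT1517)) (.leaf tT1005)))))) (.node (.node (.node (.node (.node (.node (.leaf tT29) (.leaf tT1053)) (.leaf tT541)) (.node (.node (.leaf tT285) (.leaf tT1309)) (.leaf tT797))) (.node (.node (.node (.leaf tT157) (.leaf tT1181)) (.leaf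 tT669)) (.node (.node (.leaf tT413) (.leaf tT1437)) (.leaf tT925)))) (.node (.node (.node (.node (.leaf tT93) (.leaf tT1117)) (.leaf tT605)) (.node (.node (.leaf tT349) (.leaf tT1373)) (.leaf tT861))) (.node (.node (.node (.leaf tT221) (.leaf tT1245)) (.leaf tT733)) (.node (.node (.leaf tT477) (.leaf tT1501)) (.leaf tT989))))) (.node (.node (.node (.node (.node (.leaf tT61) (.leaf tT1085)) (.leaf tT573)) (.node (.node (.leaf tT317) (.leaf tT1341)) (.leaf tT829))) (.node (.node (.node (.leaf tT189) (.leaf tT1213)) (.leaf tT701)) (.node (.node (.leaf tT445) (.leaf tT1469)) (.leaf tT957)))) (.node (.node (.node (.node (.leaf tT125) (.leaf tT1149)) (.leaf tT637)) (.node (.node (.leaf tT381) (.leaf tT1405)) (.leaf tT893))) (.node (.node (.node (.leaf tT253)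 (.leaf tT1277)) (.leaf tT765)) (.node (.node (.leaf tT509) (.leaf tT1533)) (.leaf tT1021))))))))) (.node (.node (.node (.node (.node (.node (.node (.node (.node (.leaf tT3) (.leaf tT1027)) (.leaf tT515)) (.node (.node (.leaf tT259) (.leaf tT1283)) (.leaf tT771))) (.node (.node (.node (.leaf tT131) (.leaf tT1155)) (.leaf tT643)) (.node (.node (.leaf tT387) (.leaf tT1411)) (.leaf tT899)))) (.node (.node (.node (.node (.leaf tT67) (.leaf tT1091)) (.leaf tT579)) (.node (.node (.leaf tT323) (.leaf tT1347)) (.leaf tT835))) (.node (.node (.node (.leaf tT195) (.leaf tT1219)) (.leaf tT707)) (.node (.node (.leaf tT451) (.leaf tT1475)) (.leaf tT963))))) (.node (.node (.node (.node (.node (.leaf tT35) (.leaf tT1059)) (.leaf tT547)) (.node (.node (.leaf tT291)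 (.leaf tT1315)) (.leaf tT803))) (.node (.node (.node (.leaf tT163) (.leaf tT1187)) (.leaf tT675)) (.node (.node (.leaf tT419) (.leaf tT1443)) (.leaf tT931)))) (.node (.node (.node (.node (.leaf tT99) (.leaf tT1123)) (.leaf tT611)) (.node (.node (.leaf tT355) (.leaf tT1379)) (.leaf tT867))) (.node (.node (.node (.leaf tT227) (.leaf tT1251)) (.leaf tT739)) (.node (.node (.leaf tT483) (.leaf tT1507)) (.leaf tT995)))))) (.node (.node (.node (.node (.node (.node (.leaf tT19) (.leaf tT1043)) (.leaf tT531)) (.node (.node (.leaf tT275) (.leaf tT1299)) (.leaf tT787))) (.node (.node (.node (.leaf tT147) (.leaf tT1171)) (.leaf tT659)) (.node (.node (.leaf tT403) (.leaf tT1427)) (.leaf tT915)))) (.node (.node (.node (.node (.leaf tT83) (.leaf tT1107)) (.leaf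 tT595)) (.node (.node (.leaf tT339) (.leaf tT1363)) (.leaf tT851))) (.node (.node (.node (.leaf tT211) (.leaf tT1235)) (.leaf tT723)) (.node (.node (.leaf tT467) (.leaf tT1491)) (.leaf tT979))))) (.node (.node (.node (.node (.node (.leaf tT51) (.leaf tT1075)) (.leaf tT563)) (.node (.node (.leaf tT307) (.leaf tT1331)) (.leaf tT819))) (.node (.node (.node (.leaf tT179) (.leaf tT1203)) (.leaf tT691)) (.node (.node (.leaf tT435) (.leaf tT1459)) (.leaf tT947)))) (.node (.node (.node (.node (.leaf tT115) (.leaf tT1139)) (.leaf tT627)) (.node (.node (.leaf tT371) (.leaf tT1395)) (.leaf tT883))) (.node (.node (.node (.leaf tT243) (.leaf tT1267)) (.leaf tT755)) (.node (.node (.leaf tT499) (.leaf tT1523)) (.leaf tT1011))))))) (.node (.node (.node (.node (.node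 (.node (.node (.leaf tT11) (.leaf tT1035)) (.leaf tT523)) (.node (.node (.leaf tT267) (.leaf tT1291)) (.leaf tT779))) (.node (.node (.node (.leaf tT139) (.leaf tT1163)) (.leaf tT651)) (.node (.node (.leaf tT395) (.leaf tT1419)) (.leaf tT907)))) (.node (.node (.node (.node (.leaf tT75) (.leaf tT1099)) (.leaf tT587)) (.node (.node (.leaf tT331) (.leaf tT1355)) (.leaf tT843))) (.node (.node (.node (.leaf tT203) (.leaf tT1227)) (.leaf tT715)) (.node (.node (.leaf tT459) (.leaf tT1483)) (.leaf tT971))))) (.node (.node (.node (.node (.node (.leaf tT43) (.leaf tT1067)) (.leaf tT555)) (.node (.node (.leaf tT299) (.leaf tT1323)) (.leaf tT811))) (.node (.node (.node (.leaf tT171) (.leaf tT1195)) (.leaf tT683)) (.node (.node (.leaf tT427) (.leaf tT1451)) (.leaf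 tT939)))) (.node (.node (.node (.node (.leaf tT107) (.leaf tT1131)) (.leaf tT619)) (.node (.node (.leaf tT363) (.leaf tT1387)) (.leaf tT875))) (.node (.node (.node (.leaf tT235) (.leaf tT1259)) (.leaf tT747)) (.node (.node (.leaf tT491) (.leaf tT1515)) (.leaf tT1003)))))) (.node (.node (.node (.node (.node (.node (.leaf tT27) (.leaf tT1051)) (.leaf tT539)) (.node (.node (.leaf tT283) (.leaf tT1307)) (.leaf tT795))) (.node (.node (.node (.leaf tT155) (.leaf tT1179)) (.leaf tT667)) (.node (.node (.leaf tT411) (.leaf tT1435)) (.leaf tT923)))) (.node (.node (.node (.node (.leaf tT91) (.leaf tT1115)) (.leaf tT603)) (.node (.node (.leaf tT347) (.leaf tT1371)) (.leaf tT859))) (.node (.node (.node (.leaf tT219) (.leaf tT1243)) (.leaf tT731)) (.node (.node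 (.leaf tT475) (.leaf tT1499)) (.leaf tT987))))) (.node (.node (.node (.node (.node (.leaf tT59) (.leaf tT1083)) (.leaf tT571)) (.node (.node (.leaf tT315) (.leaf tT1339)) (.leaf tT827))) (.node (.node (.node (.leaf tT187) (.leaf tT1211)) (.leaf tT699)) (.node (.node (.leaf tT443) (.leaf tT1467)) (.leaf tT955)))) (.node (.node (.node (.node (.leaf tT123) (.leaf tT1147)) (.leaf tT635)) (.node (.node (.leaf tT379) (.leaf tT1403)) (.leaf tT891))) (.node (.node (.node (.leaf tT251) (.leaf tT1275)) (.leaf tT763)) (.node (.node (.leaf tT507) (.leaf tT1531)) (.leaf tT1019)))))))) (.node (.node (.node (.node (.node (.node (.node (.node (.leaf tT7) (.leaf tT1031)) (.leaf tT519)) (.node (.node (.leaf tT263) (.leaf tT1287)) (.leaf tT775))) (.node (.node (.node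 (.leaf tT135) (.leaf tT1159)) (.leaf tT647)) (.node (.node (.leaf tT391) (.leaf tT1415)) (.leaf tT903)))) (.node (.node (.node (.node (.leaf tT71) (.leaf tT1095)) (.leaf tT583)) (.node (.node (.leaf tT327) (.leaf tT1351)) (.leaf tT839))) (.node (.node (.node (.leaf tT199) (.leaf tT1223)) (.leaf tT711)) (.node (.node (.leaf tT455) (.leaf tT1479)) (.leaf tT967))))) (.node (.node (.node (.node (.node (.leaf tT39) (.leaf tT1063)) (.leaf tT551)) (.node (.node (.leaf tT295) (.leaf tT1319)) (.leaf tT807))) (.node (.node (.node (.leaf tT167) (.leaf tT1191)) (.leaf tT679)) (.node (.node (.leaf tT423) (.leaf tT1447)) (.leaf tT935)))) (.node (.node (.node (.node (.leaf tT103) (.leaf tT1127)) (.leaf tT615)) (.node (.node (.leaf tT359) (.leaf tT1383)) (.leaf tT871)))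 (.node (.node (.node (.leaf tT231) (.leaf tT1255)) (.leaf tT743)) (.node (.node (.leaf tT487) (.leaf tT1511)) (.leaf tT999)))))) (.node (.node (.node (.node (.node (.node (.leaf tT23) (.leaf tT1047)) (.leaf tT535)) (.node (.node (.leaf tT279) (.leaf tT1303)) (.leaf tT791))) (.node (.node (.node (.leaf tT151) (.leaf tT1175)) (.leaf tT663)) (.node (.node (.leaf tT407) (.leaf tT1431)) (.leaf tT919)))) (.node (.node (.node (.node (.leaf tT87) (.leaf tT1111)) (.leaf tT599)) (.node (.node (.leaf tT343) (.leaf tT1367)) (.leaf tT855))) (.node (.node (.node (.leaf tT215) (.leaf tT1239)) (.leaf tT727)) (.node (.node (.leaf tT471) (.leaf tT1495)) (.leaf tT983))))) (.node (.node (.node (.node (.node (.leaf tT55) (.leaf tT1079)) (.leaf tT567)) (.node (.node (.leaf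 tT311) (.leaf tT1335)) (.leaf tT823))) (.node (.node (.node (.leaf tT183) (.leaf tT1207)) (.leaf tT695)) (.node (.node (.leaf tT439) (.leaf tT1463)) (.leaf tT951)))) (.node (.node (.node (.node (.leaf tT119) (.leaf tT1143)) (.leaf tT631)) (.node (.node (.leaf tT375) (.leaf tT1399)) (.leaf tT887))) (.node (.node (.node (.leaf tT247) (.leaf tT1271)) (.leaf tT759)) (.node (.node (.leaf tT503) (.leaf tT1527)) (.leaf tT1015))))))) (.node (.node (.node (.node (.node (.node (.node (.leaf tT15) (.leaf tT1039)) (.leaf tT527)) (.node (.node (.leaf tT271) (.leaf tT1295)) (.leaf tT783))) (.node (.node (.node (.leaf tT143) (.leaf tT1167)) (.leaf tT655)) (.node (.node (.leaf tT399) (.leaf tT1423)) (.leaf tT911)))) (.node (.node (.node (.node (.leaf tT79) (.leaf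 tT1103)) (.leaf tT591)) (.node (.node (.leaf tT335) (.leaf tT1359)) (.leaf tT847))) (.node (.node (.node (.leaf tT207) (.leaf tT1231)) (.leaf tT719)) (.node (.node (.leaf tT463) (.leaf tT1487)) (.leaf tT975))))) (.node (.node (.node (.node (.node (.leaf tT47) (.leaf tT1071)) (.leaf tT559)) (.node (.node (.leaf tT303) (.leaf tT1327)) (.leaf tT815))) (.node (.node (.node (.leaf tT175) (.leaf tT1199)) (.leaf tT687)) (.node (.node (.leaf tT431) (.leaf tT1455)) (.leaf tT943)))) (.node (.node (.node (.node (.leaf tT111) (.leaf tT1135)) (.leaf tT623)) (.node (.node (.leaf tT367) (.leaf tT1391)) (.leaf tT879))) (.node (.node (.node (.leaf tT239) (.leaf tT1263)) (.leaf tT751)) (.node (.node (.leaf tT495) (.leaf tT1519)) (.leaf tT1007)))))) (.node (.node (.node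 (.node (.node (.node (.leaf tT31) (.leaf tT1055)) (.leaf tT543)) (.node (.node (.leaf tT287) (.leaf tT1311)) (.leaf tT799))) (.node (.node (.node (.leaf tT159) (.leaf tT1183)) (.leaf tT671)) (.node (.node (.leaf tT415) (.leaf tT1439)) (.leaf tT927)))) (.node (.node (.node (.node (.leaf tT95) (.leaf tT1119)) (.leaf tT607)) (.node (.node (.leaf tT351) (.leaf tT1375)) (.leaf tT863))) (.node (.node (.node (.leaf tT223) (.leaf tT1247)) (.leaf tT735)) (.node (.node (.leaf tT479) (.leaf tT1503)) (.leaf tT991))))) (.node (.node (.node (.node (.node (.leaf tT63) (.leaf tT1087)) (.leaf tT575)) (.node (.node (.leaf tT319) (.leaf tT1343)) (.leaf tT831))) (.node (.node (.node (.leaf tT191) (.leaf tT1215)) (.leaf tT703)) (.node (.node (.leaf tT447) (.leaf tT1471))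 (.leaf tT959)))) (.node (.node (.node (.node (.leaf tT127) (.leaf tT1151)) (.leaf tT639)) (.node (.node (.leaf tT383) (.leaf tT1407)) (.leaf tT895))) (.node (.node (.node (.leaf tT255) (.leaf tT1279)) (.leaf tT767)) (.node (.node (.leaf tT511) (.leaf tT1535)) (.leaf tT1023)))))))))))
noncomputable def tJ : Tr := (.node (.node (.node (.node (.node (.node (.node (.node (.node (.leaf tJ0) (.leaf tJ256)) (.leaf tJ128)) (.node (.node (.leaf tJ64) (.leaf tJ320)) (.leaf tJ192))) (.node (.node (.node (.leaf tJ32) (.leaf tJ288)) (.leaf tJ160)) (.node (.node (.leaf tJ96) (.leaf tJ352)) (.leaf tJ224)))) (.node (.node (.node (.node (.leaf tJ16) (.leaf tJ272)) (.leaf tJ144)) (.node (.node (.leaf tJ80) (.leaf tJ336)) (.leaf tJ208))) (.node (.node (.node (.leaf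 tJ48) (.leaf tJ304)) (.leaf tJ176)) (.node (.node (.leaf tJ112) (.leaf tJ368)) (.leaf tJ240))))) (.node (.node (.node (.node (.node (.leaf tJ8) (.leaf tJ264)) (.leaf tJ136)) (.node (.node (.leaf tJ72) (.leaf tJ328)) (.leaf tJ200))) (.node (.node (.node (.leaf tJ40) (.leaf tJ296)) (.leaf tJ168)) (.node (.node (.leaf tJ104) (.leaf tJ360)) (.leaf tJ232)))) (.node (.node (.node (.node (.leaf tJ24) (.leaf tJ280)) (.leaf tJ152)) (.node (.node (.leaf tJ88) (.leaf tJ344)) (.leaf tJ216))) (.node (.node (.node (.leaf tJ56) (.leaf tJ312)) (.leaf tJ184)) (.node (.node (.leaf tJ120) (.leaf tJ376)) (.leaf tJ248)))))) (.node (.node (.node (.node (.node (.node (.leaf tJ4) (.leaf tJ260)) (.leaf tJ132)) (.node (.node (.leaf tJ68) (.leaf tJ324)) (.leaf tJ196))) (.node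 (.node (.node (.leaf tJ36) (.leaf tJ292)) (.leaf tJ164)) (.node (.node (.leaf tJ100) (.leaf tJ356)) (.leaf tJ228)))) (.node (.node (.node (.node (.leaf tJ20) (.leaf tJ276)) (.leaf tJ148)) (.node (.node (.leaf tJ84) (.leaf tJ340)) (.leaf tJ212))) (.node (.node (.node (.leaf tJ52) (.leaf tJ308)) (.leaf tJ180)) (.node (.node (.leaf tJ116) (.leaf tJ372)) (.leaf tJ244))))) (.node (.node (.node (.node (.node (.leaf tJ12) (.leaf tJ268)) (.leaf tJ140)) (.node (.node (.leaf tJ76) (.leaf tJ332)) (.leaf tJ204))) (.node (.node (.node (.leaf tJ44) (.leaf tJ300)) (.leaf tJ172)) (.node (.node (.leaf tJ108) (.leaf tJ364)) (.leaf tJ236)))) (.node (.node (.node (.node (.leaf tJ28) (.leaf tJ284)) (.leaf tJ156)) (.node (.node (.leaf tJ92) (.leaf tJ348)) (.leaf tJ220)))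 (.node (.node (.node (.leaf tJ60) (.leaf tJ316)) (.leaf tJ188)) (.node (.node (.leaf tJ124) (.leaf tJ380)) (.leaf tJ252))))))) (.node (.node (.node (.node (.node (.node (.node (.leaf tJ2) (.leaf tJ258)) (.leaf tJ130)) (.node (.node (.leaf tJ66) (.leaf tJ322)) (.leaf tJ194))) (.node (.node (.node (.leaf tJ34) (.leaf tJ290)) (.leaf tJ162)) (.node (.node (.leaf tJ98) (.leaf tJ354)) (.leaf tJ226)))) (.node (.node (.node (.node (.leaf tJ18) (.leaf tJ274)) (.leaf tJ146)) (.node (.node (.leaf tJ82) (.leaf tJ338)) (.leaf tJ210))) (.node (.node (.node (.leaf tJ50) (.leaf tJ306)) (.leaf tJ178)) (.node (.node (.leaf tJ114) (.leaf tJ370)) (.leaf tJ242))))) (.node (.node (.node (.node (.node (.leaf tJ10) (.leaf tJ266)) (.leaf tJ138)) (.node (.node (.leaf tJ74)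 (.leaf tJ330)) (.leaf tJ202))) (.node (.node (.node (.leaf tJ42) (.leaf tJ298)) (.leaf tJ170)) (.node (.node (.leaf tJ106) (.leaf tJ362)) (.leaf tJ234)))) (.node (.node (.node (.node (.leaf tJ26) (.leaf tJ282)) (.leaf tJ154)) (.node (.node (.leaf tJ90) (.leaf tJ346)) (.leaf tJ218))) (.node (.node (.node (.leaf tJ58) (.leaf tJ314)) (.leaf tJ186)) (.node (.node (.leaf tJ122) (.leaf tJ378)) (.leaf tJ250)))))) (.node (.node (.node (.node (.node (.node (.leaf tJ6) (.leaf tJ262)) (.leaf tJ134)) (.node (.node (.leaf tJ70) (.leaf tJ326)) (.leaf tJ198))) (.node (.node (.node (.leaf tJ38) (.leaf tJ294)) (.leaf tJ166)) (.node (.node (.leaf tJ102) (.leaf tJ358)) (.leaf tJ230)))) (.node (.node (.node (.node (.leaf tJ22) (.leaf tJ278)) (.leaf tJ150)) (.node (.node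 (.leaf tJ86) (.leaf tJ342)) (.leaf tJ214))) (.node (.node (.node (.leaf tJ54) (.leaf tJ310)) (.leaf tJ182)) (.node (.node (.leaf tJ118) (.leaf tJ374)) (.leaf tJ246))))) (.node (.node (.node (.node (.node (.leaf tJ14) (.leaf tJ270)) (.leaf tJ142)) (.node (.node (.leaf tJ78) (.leaf tJ334)) (.leaf tJ206))) (.node (.node (.node (.leaf tJ46) (.leaf tJ302)) (.leaf tJ174)) (.node (.node (.leaf tJ110) (.leaf tJ366)) (.leaf tJ238)))) (.node (.node (.node (.node (.leaf tJ30) (.leaf tJ286)) (.leaf tJ158)) (.node (.node (.leaf tJ94) (.leaf tJ350)) (.leaf tJ222))) (.node (.node (.node (.leaf tJ62) (.leaf tJ318)) (.leaf tJ190)) (.node (.node (.leaf tJ126) (.leaf tJ382)) (.leaf tJ254)))))))) (.node (.node (.node (.node (.node (.node (.node (.node (.leaf tJ1) (.leaf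 tJ257)) (.leaf tJ129)) (.node (.node (.leaf tJ65) (.leaf tJ321)) (.leaf tJ193))) (.node (.node (.node (.leaf tJ33) (.leaf tJ289)) (.leaf tJ161)) (.node (.node (.leaf tJ97) (.leaf tJ353)) (.leaf tJ225)))) (.node (.node (.node (.node (.leaf tJ17) (.leaf tJ273)) (.leaf tJ145)) (.node (.node (.leaf tJ81) (.leaf tJ337)) (.leaf tJ209))) (.node (.node (.node (.leaf tJ49) (.leaf tJ305)) (.leaf tJ177)) (.node (.node (.leaf tJ113) (.leaf tJ369)) (.leaf tJ241))))) (.node (.node (.node (.node (.node (.leaf tJ9) (.leaf tJ265)) (.leaf tJ137)) (.node (.node (.leaf tJ73) (.leaf tJ329)) (.leaf tJ201))) (.node (.node (.node (.leaf tJ41) (.leaf tJ297)) (.leaf tJ169)) (.node (.node (.leaf tJ105) (.leaf tJ361)) (.leaf tJ233)))) (.node (.node (.node (.node (.leaf tJ25)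 (.leaf tJ281)) (.leaf tJ153)) (.node (.node (.leaf tJ89) (.leaf tJ345)) (.leaf tJ217))) (.node (.node (.node (.leaf tJ57) (.leaf tJ313)) (.leaf tJ185)) (.node (.node (.leaf tJ121) (.leaf tJ377)) (.leaf tJ249)))))) (.node (.node (.node (.node (.node (.node (.leaf tJ5) (.leaf tJ261)) (.leaf tJ133)) (.node (.node (.leaf tJ69) (.leaf tJ325)) (.leaf tJ197))) (.node (.node (.node (.leaf tJ37) (.leaf tJ293)) (.leaf tJ165)) (.node (.node (.leaf tJ101) (.leaf tJ357)) (.leaf tJ229)))) (.node (.node (.node (.node (.leaf tJ21) (.leaf tJ277)) (.leaf tJ149)) (.node (.node (.leaf tJ85) (.leaf tJ341)) (.leaf tJ213))) (.node (.node (.node (.leaf tJ53) (.leaf tJ309)) (.leaf tJ181)) (.node (.node (.leaf tJ117) (.leaf tJ373)) (.leaf tJ245))))) (.node (.node (.node (.node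 (.node (.leaf tJ13) (.leaf tJ269)) (.leaf tJ141)) (.node (.node (.leaf tJ77) (.leaf tJ333)) (.leaf tJ205))) (.node (.node (.node (.leaf tJ45) (.leaf tJ301)) (.leaf tJ173)) (.node (.node (.leaf tJ109) (.leaf tJ365)) (.leaf tJ237)))) (.node (.node (.node (.node (.leaf tJ29) (.leaf tJ285)) (.leaf tJ157)) (.node (.node (.leaf tJ93) (.leaf tJ349)) (.leaf tJ221))) (.node (.node (.node (.leaf tJ61) (.leaf tJ317)) (.leaf tJ189)) (.node (.node (.leaf tJ125) (.leaf tJ381)) (.leaf tJ253))))))) (.node (.node (.node (.node (.node (.node (.node (.leaf tJ3) (.leaf tJ259)) (.leaf tJ131)) (.node (.node (.leaf tJ67) (.leaf tJ323)) (.leaf tJ195))) (.node (.node (.node (.leaf tJ35) (.leaf tJ291)) (.leaf tJ163)) (.node (.node (.leaf tJ99) (.leaf tJ355)) (.leaf tJ227))))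 (.node (.node (.node (.node (.leaf tJ19) (.leaf tJ275)) (.leaf tJ147)) (.node (.node (.leaf tJ83) (.leaf tJ339)) (.leaf tJ211))) (.node (.node (.node (.leaf tJ51) (.leaf tJ307)) (.leaf tJ179)) (.node (.node (.leaf tJ115) (.leaf tJ371)) (.leaf tJ243))))) (.node (.node (.node (.node (.node (.leaf tJ11) (.leaf tJ267)) (.leaf tJ139)) (.node (.node (.leaf tJ75) (.leaf tJ331)) (.leaf tJ203))) (.node (.node (.node (.leaf tJ43) (.leaf tJ299)) (.leaf tJ171)) (.node (.node (.leaf tJ107) (.leaf tJ363)) (.leaf tJ235)))) (.node (.node (.node (.node (.leaf tJ27) (.leaf tJ283)) (.leaf tJ155)) (.node (.node (.leaf tJ91) (.leaf tJ347)) (.leaf tJ219))) (.node (.node (.node (.leaf tJ59) (.leaf tJ315)) (.leaf tJ187)) (.node (.node (.leaf tJ123) (.leaf tJ379)) (.leaf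 tJ251)))))) (.node (.node (.node (.node (.node (.node (.leaf tJ7) (.leaf tJ263)) (.leaf tJ135)) (.node (.node (.leaf tJ71) (.leaf tJ327)) (.leaf tJ199))) (.node (.node (.node (.leaf tJ39) (.leaf tJ295)) (.leaf tJ167)) (.node (.node (.leaf tJ103) (.leaf tJ359)) (.leaf tJ231)))) (.node (.node (.node (.node (.leaf tJ23) (.leaf tJ279)) (.leaf tJ151)) (.node (.node (.leaf tJ87) (.leaf tJ343)) (.leaf tJ215))) (.node (.node (.node (.leaf tJ55) (.leaf tJ311)) (.leaf tJ183)) (.node (.node (.leaf tJ119) (.leaf tJ375)) (.leaf tJ247))))) (.node (.node (.node (.node (.node (.leaf tJ15) (.leaf tJ271)) (.leaf tJ143)) (.node (.node (.leaf tJ79) (.leaf tJ335)) (.leaf tJ207))) (.node (.node (.node (.leaf tJ47) (.leaf tJ303)) (.leaf tJ175)) (.node (.node (.leaf tJ111)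 (.leaf tJ367)) (.leaf tJ239)))) (.node (.node (.node (.node (.leaf tJ31) (.leaf tJ287)) (.leaf tJ159)) (.node (.node (.leaf tJ95) (.leaf tJ351)) (.leaf tJ223))) (.node (.node (.node (.leaf tJ63) (.leaf tJ319)) (.leaf tJ191)) (.node (.node (.leaf tJ127) (.leaf tJ383)) (.leaf tJ255)))))))))
noncomputable def tD : Tr := (.node (.node (.node (.node (.node (.node (.node (.node (.leaf tD0) (.leaf tD128)) (.leaf tD64)) (.node (.node (.leaf tD32) (.leaf tD160)) (.leaf tD96))) (.node (.node (.node (.leaf tD16) (.leaf tD144)) (.leaf tD80)) (.node (.node (.leaf tD48) (.leaf tD176)) (.leaf tD112)))) (.node (.node (.node (.node (.leaf tD8) (.leaf tD136)) (.leaf tD72)) (.node (.node (.leaf tD40) (.leaf tD168)) (.leaf tD104))) (.node (.node (.node (.leaf tD24) (.leaf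 tD152)) (.leaf tD88)) (.node (.node (.leaf tD56) (.leaf tD184)) (.leaf tD120))))) (.node (.node (.node (.node (.node (.leaf tD4) (.leaf tD132)) (.leaf tD68)) (.node (.node (.leaf tD36) (.leaf tD164)) (.leaf tD100))) (.node (.node (.node (.leaf tD20) (.leaf tD148)) (.leaf tD84)) (.node (.node (.leaf tD52) (.leaf tD180)) (.leaf tD116)))) (.node (.node (.node (.node (.leaf tD12) (.leaf tD140)) (.leaf tD76)) (.node (.node (.leaf tD44) (.leaf tD172)) (.leaf tD108))) (.node (.node (.node (.leaf tD28) (.leaf tD156)) (.leaf tD92)) (.node (.node (.leaf tD60) (.leaf tD188)) (.leaf tD124)))))) (.node (.node (.node (.node (.node (.node (.leaf tD2) (.leaf tD130)) (.leaf tD66)) (.node (.node (.leaf tD34) (.leaf tD162)) (.leaf tD98))) (.node (.node (.node (.leaf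 tD18) (.leaf tD146)) (.leaf tD82)) (.node (.node (.leaf tD50) (.leaf tD178)) (.leaf tD114)))) (.node (.node (.node (.node (.leaf tD10) (.leaf tD138)) (.leaf tD74)) (.node (.node (.leaf tD42) (.leaf tD170)) (.leaf tD106))) (.node (.node (.node (.leaf tD26) (.leaf tD154)) (.leaf tD90)) (.node (.node (.leaf tD58) (.leaf tD186)) (.leaf tD122))))) (.node (.node (.node (.node (.node (.leaf tD6) (.leaf tD134)) (.leaf tD70)) (.node (.node (.leaf tD38) (.leaf tD166)) (.leaf tD102))) (.node (.node (.node (.leaf tD22) (.leaf tD150)) (.leaf tD86)) (.node (.node (.leaf tD54) (.leaf tD182)) (.leaf tD118)))) (.node (.node (.node (.node (.leaf tD14) (.leaf tD142)) (.leaf tD78)) (.node (.node (.leaf tD46) (.leaf tD174)) (.leaf tD110))) (.node (.node (.node (.leaf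 tD30) (.leaf tD158)) (.leaf tD94)) (.node (.node (.leaf tD62) (.leaf tD190)) (.leaf tD126))))))) (.node (.node (.node (.node (.node (.node (.node (.leaf tD1) (.leaf tD129)) (.leaf tD65)) (.node (.node (.leaf tD33) (.leaf tD161)) (.leaf tD97))) (.node (.node (.node (.leaf tD17) (.leaf tD145)) (.leaf tD81)) (.node (.node (.leaf tD49) (.leaf tD177)) (.leaf tD113)))) (.node (.node (.node (.node (.leaf tD9) (.leaf tD137)) (.leaf tD73)) (.node (.node (.leaf tD41) (.leaf tD169)) (.leaf tD105))) (.node (.node (.node (.leaf tD25) (.leaf tD153)) (.leaf tD89)) (.node (.node (.leaf tD57) (.leaf tD185)) (.leaf tD121))))) (.node (.node (.node (.node (.node (.leaf tD5) (.leaf tD133)) (.leaf tD69)) (.node (.node (.leaf tD37) (.leaf tD165)) (.leaf tD101))) (.node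 (.node (.node (.leaf tD21) (.leaf tD149)) (.leaf tD85)) (.node (.node (.leaf tD53) (.leaf tD181)) (.leaf tD117)))) (.node (.node (.node (.node (.leaf tD13) (.leaf tD141)) (.leaf tD77)) (.node (.node (.leaf tD45) (.leaf tD173)) (.leaf tD109))) (.node (.node (.node (.leaf tD29) (.leaf tD157)) (.leaf tD93)) (.node (.node (.leaf tD61) (.leaf tD189)) (.leaf tD125)))))) (.node (.node (.node (.node (.node (.node (.leaf tD3) (.leaf tD131)) (.leaf tD67)) (.node (.node (.leaf tD35) (.leaf tD163)) (.leaf tD99))) (.node (.node (.node (.leaf tD19) (.leaf tD147)) (.leaf tD83)) (.node (.node (.leaf tD51) (.leaf tD179)) (.leaf tD115)))) (.node (.node (.node (.node (.leaf tD11) (.leaf tD139)) (.leaf tD75)) (.node (.node (.leaf tD43) (.leaf tD171)) (.leaf tD107)))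 (.node (.node (.node (.leaf tD27) (.leaf tD155)) (.leaf tD91)) (.node (.node (.leaf tD59) (.leaf tD187)) (.leaf tD123))))) (.node (.node (.node (.node (.node (.leaf tD7) (.leaf tD135)) (.leaf tD71)) (.node (.node (.leaf tD39) (.leaf tD167)) (.leaf tD103))) (.node (.node (.node (.leaf tD23) (.leaf tD151)) (.leaf tD87)) (.node (.node (.leaf tD55) (.leaf tD183)) (.leaf tD119)))) (.node (.node (.node (.node (.leaf tD15) (.leaf tD143)) (.leaf tD79)) (.node (.node (.leaf tD47) (.leaf tD175)) (.leaf tD111))) (.node (.node (.node (.leaf tD31) (.leaf tD159)) (.leaf tD95)) (.node (.node (.leaf tD63) (.leaf tD191)) (.leaf tD127))))))))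

def rels : List (List ℕ) := [[0,0],
  [1,1],
  [2,2],
  [3,3],
  [4,4],
  [5,5],
  [6,6],
  [7,7],
  [8,8],
  [9,9],
  [3,6,3,6],
  [2,8,2,8],
  [3,7,3,7],
  [0,1,0,1],
  [8,9,8,9],
  [2,7,2,7],
  [3,9,3,9],
  [5,8,5,8],
  [2,9,2,9],
  [5,7,5,7],
  [1,8,1,8],
  [5,6,5,6],
  [1,7,1,7],
  [0,8,0,8],
  [2,6,2,6],
  [0,7,0,7],
  [2,3,2,3],
  [7,8,7,8],
  [0,8,9,0,9],
  [4,5,4,5,4,5],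
  [6,7,6,7,6,7],
  [1,8,1,9,8,9],
  [0,5,4,2,4,5],
  [0,4,0,4,0,4],
  [5,8,5,9,8,9],
  [7,8,7,9,8,9],
  [1,5,4,3,4,5],
  [2,5,2,5,2,5],
  [3,7,3,8,7,8],
  [0,2,8,9,2,0,9],
  [0,7,8,9,0,9,7],
  [0,3,0,3,5,1,5],
  [0,3,9,3,8,0,9],
  [0,1,8,9,0,9,1],
  [0,7,8,7,9,0,9],
  [0,5,3,8,3,8,5],
  [0,3,0,3,4,3,4],
  [0,5,3,8,3,5,8],
  [0,2,0,2,5,0,5],
  [2,4,3,8,3,8,4],
  [1,2,1,2,4,3,4],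
  [0,1,8,1,9,0,9],
  [1,2,1,2,5,1,5],
  [0,2,0,2,4,2,4],
  [0,5,8,5,9,0,9],
  [5,9,5,9,5,9,5,9],
  [1,5,9,8,9,5,1,8],
  [1,9,1,9,1,9,1,9],
  [0,3,8,3,0,3,8,3],
  [0,3,0,4,0,3,0,4],
  [1,5,2,4,3,4,2,5],
  [0,9,1,9,0,9,1,9],
  [1,3,8,7,8,3,1,7],
  [2,4,7,4,2,4,7,4],
  [0,1,3,2,1,3,0,2],
  [1,4,3,4,1,5,1,5],
  [7,9,7,9,7,9,7,9],
  [2,4,8,4,2,4,8,4],
  [1,2,1,4,8,3,8,4],
  [1,5,8,5,1,9,8,9],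
  [0,1,5,3,1,3,1,5],
  [0,1,8,3,0,8,1,3],
  [0,5,1,5,0,5,1,5],
  [0,9,5,3,8,3,5,9],
  [6,8,6,9,6,8,6,9],
  [0,2,0,2,8,3,8,3],
  [1,4,5,4,5,3,4,5],
  [0,1,5,1,3,1,3,5],
  [0,2,5,2,0,2,5,2],
  [0,1,2,0,3,1,3,2],
  [0,1,8,3,1,8,0,3],
  [1,2,8,2,1,9,8,9],
  [1,2,3,1,8,3,8,2],
  [0,6,8,6,0,6,8,6],
  [6,7,6,7,6,8,7,8],
  [0,1,2,3,0,2,1,3],
  [0,2,0,4,0,2,0,4],
  [1,4,6,4,1,4,6,4],
  [0,5,9,5,0,5,9,5],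
  [0,3,8,7,8,3,0,7],
  [0,3,0,9,1,3,1,9],
  [0,5,2,4,2,4,2,5],
  [1,3,1,3,1,3,1,3],
  [0,1,3,2,0,2,1,3],
  [0,1,8,3,8,1,0,3],
  [1,2,3,1,2,8,3,8],
  [1,2,5,2,1,2,5,2],
  [0,1,3,1,2,0,2,3],
  [0,5,1,4,2,4,1,5],
  [0,3,1,3,0,3,1,3],
  [0,1,3,1,2,0,3,2],
  [5,7,8,7,5,9,8,9],
  [1,6,7,6,7,6,1,7],
  [1,3,8,3,1,3,8,3],
  [0,9,7,9,0,9,7,9],
  [4,9,4,9,4,9,4,9],
  [1,2,3,8,1,3,8,2],
  [0,1,2,3,1,3,0,2],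
  [3,4,8,4,3,4,8,4],
  [1,9,7,9,1,9,7,9],
  [1,4,3,4,1,4,3,4],
  [0,5,3,5,0,5,3,5],
  [0,2,0,2,3,8,3,8],
  [4,5,4,5,4,6,5,6],
  [0,5,8,4,2,4,8,5],
  [1,6,1,6,1,6,1,6],
  [3,5,7,5,3,8,7,8],
  [1,5,3,5,1,5,3,5],
  [0,1,3,0,1,8,3,8],
  [1,3,1,3,4,2,3,4],
  [4,6,4,8,4,6,4,8],
  [0,4,5,4,5,2,4,5],
  [4,8,4,8,4,8,4,8],
  [0,1,3,0,2,3,1,2],
  [1,5,8,4,3,4,8,5],
  [0,5,4,2,4,6,5,6],
  [0,4,0,6,0,4,0,6],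
  [0,1,2,1,3,2,0,3],
  [0,1,3,8,1,0,3,8],
  [6,9,6,9,6,9,6,9],
  [0,5,9,8,9,5,0,8],
  [3,4,7,4,3,4,7,4],
  [0,5,3,4,2,4,3,5],
  [0,2,1,2,1,3,0,3],
  [0,4,2,4,0,5,0,5],
  [0,6,7,6,7,6,0,7],
  [2,5,9,8,9,5,2,8],
  [4,6,4,7,4,6,4,7],
  [0,6,0,6,0,6,0,6],
  [0,1,3,0,3,2,1,2],
  [0,2,8,0,3,8,2,3],
  [0,4,3,4,0,5,1,5],
  [1,7,8,7,1,9,8,9],
  [0,2,5,2,0,5,2,5],
  [4,6,4,6,4,6,4,6],
  [4,7,4,7,4,7,4,7],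
  [1,5,3,4,3,4,3,5],
  [0,5,9,4,2,4,9,5],
  [1,3,1,3,4,3,2,4],
  [0,2,1,2,0,2,1,2],
  [0,1,3,0,8,1,3,8],
  [0,2,4,0,4,2,0,4],
  [1,5,4,3,4,6,5,6],
  [1,4,2,4,1,4,2,4],
  [4,5,4,5,4,8,5,8],
  [0,2,0,3,0,2,0,3],
  [0,4,0,6,4,0,4,6],
  [0,1,3,1,8,0,3,8],
  [0,2,8,0,3,2,8,3],
  [2,4,9,4,2,4,9,4],
  [0,4,6,4,0,4,6,4],
  [1,2,5,2,1,5,2,5],
  [1,2,8,3,1,2,8,3],
  [4,8,4,9,4,8,4,9],
  [0,3,4,0,4,3,0,4],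
  [0,2,0,9,0,2,0,9],
  [6,8,6,8,6,8,6,8],
  [1,3,8,1,3,8,4,3,4],
  [0,2,0,2,9,4,2,4,9],
  [2,9,4,3,8,3,8,4,9],
  [0,2,9,0,3,8,3,9,2],
  [0,3,8,0,4,3,4,8,3],
  [0,1,3,0,5,1,5,3,1],
  [0,1,4,2,4,1,2,0,2],
  [0,2,0,4,2,5,0,5,4],
  [1,3,8,3,8,1,4,2,4],
  [0,2,0,2,7,4,2,4,7],
  [0,3,0,4,3,5,1,5,4],
  [0,3,5,1,5,0,6,3,6],
  [0,1,7,8,7,1,9,0,9],
  [1,2,1,2,4,2,3,2,4],
  [0,2,3,4,3,4,2,0,3],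
  [0,1,4,3,4,1,3,0,3],
  [0,1,3,1,9,0,9,3,8],
  [2,4,3,7,8,3,8,7,4],
  [0,1,9,8,3,0,9,1,3],
  [0,5,3,5,8,5,3,8,5],
  [0,1,3,0,3,1,5,1,5],
  [1,2,1,3,4,1,3,1,4],
  [0,5,3,7,8,3,8,7,5],
  [0,2,0,2,9,5,0,5,9],
  [0,2,4,1,3,1,4,0,3],
  [0,2,1,2,5,3,1,3,5],
  [0,1,3,0,5,0,5,1,3],
  [0,4,0,9,4,0,8,4,9],
  [2,6,4,3,8,3,8,4,6],
  [0,1,5,0,5,1,2,0,2],
  [0,1,8,3,9,3,0,9,1],
  [0,5,1,8,1,5,9,0,9],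
  [0,1,2,1,2,0,5,1,5],
  [0,2,5,0,5,0,9,2,9],
  [0,3,4,3,4,0,6,3,6],
  [0,1,2,0,2,1,4,2,4],
  [0,2,0,2,4,9,2,9,4],
  [0,2,0,2,4,3,2,3,4],
  [0,5,1,3,8,3,8,1,5],
  [0,1,5,0,2,0,2,5,1],
  [0,1,2,0,2,1,5,0,5],
  [0,1,3,0,1,3,4,2,4],
  [0,1,3,0,4,3,4,3,1],
  [0,1,3,1,0,3,5,0,5],
  [0,2,3,8,3,9,0,9,2],
  [0,2,7,8,7,9,2,0,9],
  [0,3,4,3,4,0,9,3,9],
  [0,2,3,8,9,3,0,9,2],
  [0,2,3,5,1,5,2,0,3],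
  [0,1,0,5,1,2,1,2,5],
  [0,5,3,8,3,8,6,5,6],
  [1,2,1,2,8,4,3,4,8],
  [1,2,1,2,4,9,3,9,4],
  [1,3,4,2,4,8,3,1,8],
  [0,3,8,3,0,5,0,8,5],
  [0,2,8,2,5,3,8,3,5],
  [0,5,2,1,3,2,1,3,5],
  [1,2,5,1,5,1,6,2,6],
  [0,2,3,2,0,3,5,1,5],
  [2,4,3,8,6,3,6,8,4],
  [0,5,3,7,8,3,5,8,7],
  [2,4,3,8,7,3,7,8,4],
  [1,3,1,5,8,1,5,3,8],
  [1,5,9,4,2,3,4,9,5],
  [0,2,9,0,2,9,3,8,3],
  [2,4,3,5,8,5,3,8,4],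
  [0,5,1,2,3,1,3,2,5],
  [0,1,3,0,3,1,4,3,4],
  [0,2,0,2,4,8,2,8,4],
  [0,1,2,8,9,2,0,9,1],
  [0,5,2,8,2,5,9,0,9],
  [0,3,0,3,8,4,3,4,8],
  [0,1,3,9,0,9,1,3,8],
  [0,6,5,3,6,8,3,5,8],
  [1,3,1,9,3,5,1,5,9],
  [1,2,1,5,1,5,9,2,9],
  [0,1,0,2,1,4,3,4,2],
  [0,2,0,2,3,4,2,4,3],
  [1,3,5,1,8,5,1,3,8],
  [0,3,1,5,3,1,3,5,3],
  [0,3,0,3,4,7,3,7,4],
  [0,1,8,3,9,0,9,1,3],
  [0,3,8,0,8,3,4,3,4],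
  [1,2,5,1,4,3,4,5,2],
  [1,2,1,5,1,6,5,2,6],
  [0,3,8,0,8,3,5,1,5],
  [0,2,1,8,1,9,2,0,9],
  [0,1,3,1,9,0,3,8,9],
  [0,3,8,0,5,1,5,8,3],
  [0,1,8,3,1,9,0,3,9],
  [0,2,3,9,8,3,0,2,9],
  [1,5,2,4,8,3,8,4,5],
  [1,2,1,2,7,4,3,4,7],
  [1,2,1,2,3,5,1,5,3],
  [0,2,0,3,2,4,2,4,3],
  [1,3,1,9,3,4,3,4,9],
  [0,1,0,2,1,5,1,5,2],
  [0,3,8,9,8,3,8,0,9],
  [0,3,0,5,1,6,5,3,6],
  [1,2,5,1,5,1,9,2,9],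
  [0,2,0,5,0,6,5,2,6],
  [0,2,3,9,3,8,2,0,9],
  [0,2,5,8,5,9,2,0,9],
  [2,4,6,3,6,8,3,8,4],
  [0,2,9,0,3,8,2,3,9],
  [0,1,0,5,0,3,0,3,5],
  [0,2,7,8,9,2,0,9,7],
  [0,1,2,8,2,1,9,0,9],
  [0,3,5,1,5,0,9,3,9],
  [0,3,0,3,4,9,3,9,4],
  [0,5,9,3,8,3,8,9,5],
  [0,2,0,2,4,6,2,6,4],
  [0,1,2,0,2,4,2,4,1],
  [1,2,1,2,5,1,6,5,6],
  [0,1,2,0,4,2,4,2,1],
  [0,5,1,3,2,1,2,3,5],
  [0,1,2,1,2,0,4,3,4],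
  [1,3,8,3,1,4,2,4,8],
  [1,2,4,3,4,1,6,2,6],
  [0,2,0,2,3,5,0,5,3],
  [1,2,3,1,2,4,2,4,3],
  [2,4,9,3,8,3,8,9,4],
  [0,2,5,0,4,2,4,5,2],
  [2,8,4,3,8,3,8,4,8],
  [0,1,3,4,2,4,1,0,3],
  [1,3,1,8,3,4,3,4,8],
  [1,2,4,3,4,1,9,2,9],
  [1,3,1,3,9,4,3,4,9],
  [0,2,4,3,4,2,3,0,3],
  [0,1,3,5,0,5,1,0,3],
  [0,2,9,0,9,3,8,2,3],
  [0,1,4,3,4,0,2,1,2],
  [0,2,0,9,2,4,2,4,9],
  [0,2,4,2,4,0,9,2,9],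
  [0,2,3,8,9,3,0,2,9],
  [1,2,1,3,2,5,1,5,3],
  [0,3,0,3,7,4,3,4,7],
  [1,3,4,3,4,1,8,3,8],
  [1,2,1,2,4,6,3,6,4],
  [0,1,5,9,5,1,5,9,5],
  [0,2,0,2,8,4,2,4,8],
  [0,3,8,3,0,4,2,4,8],
  [0,4,9,4,0,4,9,4,8],
  [1,3,1,3,9,5,1,5,9],
  [2,7,4,3,8,3,8,4,7],
  [2,3,4,9,4,3,4,9,4],
  [0,2,5,0,5,0,6,2,6],
  [1,2,1,4,3,4,9,2,9],
  [0,1,3,1,0,3,4,2,4],
  [2,3,8,3,8,2,4,2,4],
  [0,3,8,3,8,0,4,2,4],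
  [0,5,7,8,7,5,9,0,9],
  [1,3,8,1,3,8,5,1,5],
  [0,2,0,2,4,7,2,7,4],
  [0,2,0,3,2,5,0,5,3],
  [1,2,3,1,3,2,4,2,4],
  [0,5,9,8,9,5,9,0,9],
  [0,2,4,2,4,0,6,2,6],
  [0,5,2,3,8,3,8,2,5],
  [1,2,3,1,4,2,4,3,2],
  [1,2,1,2,3,4,3,4,3],
  [0,3,0,3,4,6,3,6,4],
  [1,2,1,4,3,4,6,2,6],
  [0,1,5,9,4,3,4,9,5],
  [0,1,7,8,9,0,9,7,1],
  [0,1,3,0,4,2,4,1,3],
  [0,5,3,4,1,2,1,4,5],
  [0,1,3,1,4,2,4,0,3],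
  [0,1,2,0,5,0,5,2,1],
  [0,2,0,2,5,0,6,5,6],
  [0,2,0,9,2,5,0,5,9],
  [0,2,3,9,8,3,0,9,2],
  [0,2,0,4,2,4,6,2,6],
  [1,2,1,2,4,7,3,7,4],
  [0,1,5,3,8,3,8,5,1],
  [0,3,0,3,5,1,6,5,6],
  [0,3,5,1,4,2,4,5,3],
  [0,3,0,4,3,4,6,3,6],
  [0,9,5,4,2,4,5,8,9],
  [0,5,8,3,8,6,3,5,6],
  [0,2,5,1,5,2,3,0,3],
  [0,6,7,5,9,6,9,5,6,7,6],
  [2,4,9,4,5,9,8,2,5,2,9,5],
  [0,1,9,1,4,8,4,1,9,1,0,4,2,9,8,4],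
  [0,6,1,4,6,4,6,0,6,1,6],
  [0,6,1,9,6,0,6,9,1,6,8],
  [0,4,6,4,5,9,6,9,5,0,6],
  [0,1,6,1,0,4,1,6,1,4],
  [4,5,4,8,4,5,9,5,4,8,4,5,4,9],
  [1,4,1,4,1,4,1,4,1,4],
  [0,1,4,1,8,4,0,8,3,1,4,8,1,4,8],
  [1,3,5,9,5,3,1,5,9,5,3,5,9,5,9],
  [0,5,7,9,7,6,9,5,0,6],
  [0,1,7,6,1,6,7,0,6,1,6],
  [0,5,7,6,9,7,6,7,9,5,6],
  [4,6,4,9,4,9,6,9,4,9],
  [4,6,8,6,8,4,6,8,6,8],
  [0,1,9,1,5,1,9,0,1,9,5,9],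
  [0,5,3,8,6,3,5,6,8],
  [4,5,9,4,9,4,5,9,4,9],
  [0,1,4,1,3,5,3,2,5,3,5,4,1,4],
  [1,2,1,2,6,8,3,8,6,1,3,1,6,9,6,9],
  [0,1,6,7,9,2,7,1,3,2,1,6,9,1,0,3],
  [0,4,9,4,1,8,4,9,4,9,1,9],
  [0,1,2,3,5,3,1,3,5,3,2],
  [0,1,6,9,1,9,6,1,0,6,1,9,1,9,1,6],
  [0,4,1,8,9,4,9,4,1,4,8,0,4,8],
  [1,6,1,7,8,6,8,1,6,7,6,8],
  [0,4,8,0,6,8,4,0,4,8,6,8],
  [0,3,0,4,7,0,3,0,7,4],
  [0,1,4,8,4,1,0,9,1,4,2,9,8,4,1,9],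
  [0,1,4,9,4,9,1,9,4,9,4],
  [1,4,2,6,9,6,9,4,1,4,9,6,9,6,2,4],
  [4,7,4,7,9,7,4,7,4,9],
  [0,1,4,1,2,1,4,1,0,3],
  [0,1,6,0,7,6,1,0,6,1,7,6],
  [2,4,2,4,9,7,6,2,9,4,2,4,6,7]]
def subs : List (List ℕ) := [[0],
  [1],
  [2],
  [3],
  [4],
  [5],
  [6],
  [7],
  [8]]
def iv (a : ℕ) : ℕ := [0,1,2,3,4,5,6,7,8,9,10].getD a 0
noncomputable def RR0 : List Rule := [.bwd [0] 0 0 0,
  .bwd [9,0,8,9] 28 3 0,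
  .bwd [5,4,2,4,5] 32 0 0,
  .bwd [1,0,1] 13 2 0,
  .bwd [8,0,8] 23 2 0,
  .bwd [3,5,1,5,0,3] 41 2 0,
  .bwd [4,0,4,0,4] 33 2 0,
  .bwd [6,8,6,0,6,8,6] 83 4 0,
  .bwd [7,0,7] 25 2 0,
  .bwd [5,4,2,4,6,5,6] 125 0 0,
  .bwd [2,5,0,5,0,2] 48 2 0,
  .bwd [4,0,6,0,4,0,6] 126 4 0,
  .bwd [9,0,2,8,9,2] 39 5 0,
  .bwd [3,0,3,4,3,4] 46 0 0,
  .bwd [2,0,2,4,2,4] 53 0 0,
  .bwd [9,0,2,9,8,2] 39 6 1,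
  .bwd [7,0,6,7,6,7,6] 135 6 0,
  .bwd [5,4,2,5,4,5,4] 121 7 1,
  .bwd [8,9,0,9] 28 0 0,
  .bwd [6,0,6,0,6,0,6] 138 2 0,
  .bwd [3,0,3,5,1,5] 41 0 0,
  .bwd [3,5,1,5,0,6,3,6] 178 0 0,
  .bwd [6,0,4,0,6,0,4] 126 2 0,
  .bwd [6,7,5,9,6,9,5,6,7,6] 348 0 0,
  .bwd [3,0,5,1,5,3] 41 4 1,
  .bwd [5,3,8,3,8,5] 45 0 0,
  .bwd [2,0,5,0,6,5,2,6] 267 0 0,
  .bwd [3,4,3,4,0,3] 46 2 0,
  .bwd [3,0,4,0,3,0,4] 59 4 0,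
  .bwd [5,1,5,3,0,3] 41 6 1,
  .bwd [9,0,8,3,9,3] 42 6 1,
  .bwd [2,0,4,0,2,0,4] 86 4 0,
  .bwd [2,4,2,4,0,2] 53 2 0,
  .bwd [5,0,5,2,0,2] 48 6 1,
  .bwd [5,1,5,0,4,3,4] 141 4 0,
  .bwd [3,0,9,1,3,1,9] 90 0 0,
  .bwd [5,3,8,3,8,6,5,6] 217 0 0,
  .bwd [1,8,3,0,8,1,3] 71 0 0,
  .bwd [8,1,3,0,1,8,3] 71 4 0,
  .bwd [3,4,3,4,0,6,3,6] 201 0 0,
  .bwd [8,6,1,9,6,0,6,9,1,6] 352 10 1,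
  .bwd [5,8,3,8,3,5] 45 6 1,
  .bwd [1,3,2,1,3,0,2] 64 0 0,
  .bwd [5,0,5,0,4,2,4] 134 4 0,
  .bwd [1,6,1,0,4,1,6,1,4] 354 0 0,
  .bwd [6,1,6,0,6,1,4,6,4,6] 351 7 0,
  .bwd [6,1,4,6,4,6,0,6,1,6] 351 0 0,
  .bwd [1,0,1] 13 0 0,
  .bwd [4,3,4,3,0,3] 46 6 1,
  .bwd [7,0,7] 25 0 0,
  .bwd [2,8,9,2,0,9] 39 0 0,
  .bwd [2,0,5,0,5,2] 48 4 1,
  .bwd [8,5,3,8,6,3,5,6] 240 8 1,
  .bwd [3,0,5,1,6,5,3,6] 265 0 0,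
  .bwd [4,0,6,4,0,4,6] 156 0 0,
  .bwd [8,4,9,0,4,0,9,4] 194 5 0,
  .bwd [3,8,3,0,3,8,3] 58 4 0,
  .bwd [9,0,9,5,8,5] 54 6 1,
  .bwd [4,0,3,0,4,0,3] 59 2 0,
  .bwd [5,0,2,0,2,5] 48 5 0,
  .bwd [2,0,2,5,0,5] 48 0 0,
  .bwd [4,6,0,4,0,6,4] 156 5 0,
  .bwd [4,0,9,4,0,8,4,9] 194 0 0,
  .bwd [4,5,4,5,2,4,5] 121 0 0,
  .bwd [2,4,2,4,0,6,2,6] 324 0 0,
  .bwd [5,0,2,0,6,2,5,6] 267 4 1,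
  .bwd [2,0,1,3,2,1,3] 64 6 0,
  .bwd [5,1,5,3,0,6,3,6] 178 3 1,
  .bwd [3,0,4,3,4,3] 46 4 1,
  .bwd [6,9,1,6,8,0,6,1,9,6] 352 5 0,
  .bwd [8,0,8] 23 0 0,
  .bwd [9,4,0,8,4,9,0,4] 194 2 0,
  .bwd [2,9,8,2,0,9] 39 1 1,
  .bwd [2,5,0,5,0,6,2,6] 313 0 0,
  .bwd [4,2,4,2,0,2] 53 6 1,
  .bwd [1,9,5,9,0,1,9,1,5,1,9] 364 7 0,
  .bwd [1,3,0,3,1,4,3,4] 234 0 0,
  .bwd [2,0,4,2,4,2] 53 4 1,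
  .bwd [2,0,4,2,4,6,2,6] 339 0 0,
  .bwd [1,4,1,3,5,3,2,5,3,5,4,1,4] 367 0 0,
  .bwd [1,2,0,2,1,4,2,4] 202 0 0,
  .bwd [2,0,2,9,5,0,5,9] 190 0 0,
  .bwd [4,0,2,0,4,0,2] 86 2 0,
  .bwd [8,3,0,3,8,4,3,4] 171 5 1,
  .bwd [5,9,6,7,9,7,5,0,6] 359 1 1,
  .bwd [3,1,2,3,1,0,2] 64 1 1,
  .bwd [1,3,0,1,3,4,2,4] 208 0 0,
  .bwd [2,5,0,5,0,9,2,9] 200 0 0,
  .bwd [8,5,3,8,3,5] 47 6 1,
  .bwd [2,0,4,2,5,0,5,4] 174 0 0,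
  .bwd [1,6,9,1,9,6,1,0,6,1,9,1,9,1,6] 372 0 0,
  .bwd [1,5,3,1,3,1,5] 70 0 0,
  .bwd [5,9,5,0,5,9,5] 88 4 0,
  .bwd [1,7,6,1,6,7,0,6,1,6] 360 0 0,
  .bwd [2,0,2,9,4,2,4,9] 168 0 0,
  .bwd [3,4,0,4,3,0,4] 164 0 0,
  .bwd [5,2,5,0,2,5,2] 143 4 0,
  .bwd [6,8,6,0,6,8,6] 83 0 0,
  .bwd [8,4,0,8,6,8,4,0,4,8,6] 375 8 1,
  .bwd [2,0,9,0,2,0,9] 165 4 0,
  .bwd [4,3,0,4,0,3,4] 164 3 0,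
  .bwd [5,9,6,9,5,4,6,4,0,6] 353 1 1,
  .bwd [1,2,3,0,2,1,3] 85 0 0,
  .bwd [2,4,0,4,2,0,4] 151 0 0,
  .bwd [9,1,9,4,9,4,8,1,4,9,4] 370 11 1,
  .bwd [3,0,4,3,5,1,5,4] 177 0 0,
  .bwd [7,0,3,8,7,8,3] 89 6 0,
  .bwd [5,2,0,2,0,5] 48 1 1,
  .bwd [5,7,9,7,6,9,5,0,6] 359 0 0,
  .bwd [3,0,2,4,1,3,1,4] 191 7 0,
  .bwd [5,3,1,3,5,2,1,2] 192 8 1,
  .bwd [4,1,4,5,3,5,2,3,5,3,1,4,1] 367 13 1,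
  .bwd [7,6,1,0,6,1,7,6,0,1,6] 382 3 0,
  .bwd [6,5,6,4,2,4,5] 125 7 1,
  .bwd [3,2,1,0,3,1,2] 85 3 1,
  .bwd [1,2,1,2,0,4,3,4] 283 0 0,
  .bwd [1,6,0,7,6,1,0,6,1,7,6] 382 0 0,
  .bwd [1,3,1,9,0,3,8,9] 254 0 0,
  .bwd [6,2,5,6,0,5,0,2] 267 8 1,
  .bwd [9,1,3,1,9,0,3] 90 2 0,
  .bwd [4,0,4,0,4] 33 0 0,
  .bwd [4,1,6,1,4,0,1,6,1] 354 4 0,
  .bwd [4,3,4,3,0,9,3,9] 213 3 1,
  .bwd [7,8,5,3,8,7,3,5] 227 8 1,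
  .bwd [6,4,6,4,1,6,0,6,1,6] 351 3 1,
  .bwd [4,3,4,3,0,6,3,6] 201 3 1,
  .bwd [3,8,9,1,0,3,1,9] 185 3 1,
  .bwd [4,2,4,0,5,0,5] 134 0 0,
  .bwd [5,8,3,8,6,3,5,6] 346 0 0,
  .bwd [1,4,2,4,1,2,0,2] 173 0 0,
  .bwd [6,0,5,7,9,7,6,9,5] 359 8 0,
  .bwd [6,4,0,4,6,0,4] 156 2 0,
  .bwd [8,4,1,4,9,4,9,8,1,4,0,8,4] 373 2 1,
  .bwd [5,1,5,0,5,1,5] 72 4 0,
  .bwd [8,0,5,9,8,9,5] 130 6 0,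
  .bwd [6,3,5,6,1,5,0,3] 265 8 1,
  .bwd [1,3,1,0,3,4,2,4] 315 0 0,
  .bwd [1,9,1,5,1,9,0,1,9,5,9] 364 0 0,
  .bwd [2,7,4,2,4,7,0,2] 176 2 0,
  .bwd [3,4,3,4,0,9,3,9] 213 0 0,
  .bwd [3,0,3,5,1,6,5,6] 342 0 0,
  .bwd [1,8,3,1,9,0,3,9] 256 0 0,
  .bwd [3,0,4,3,4,6,3,6] 344 0 0,
  .bwd [4,0,2,4,0,4,2] 151 6 0,
  .bwd [5,1,3,1,3,5,1] 70 7 1,
  .bwd [3,8,3,8,0,4,2,4] 317 0 0,
  .bwd [3,8,0,4,3,4,8,3] 171 0 0,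
  .bwd [1,3,1,4,2,4,0,3] 334 0 0,
  .bwd [5,0,5,2,0,6,2,6] 313 3 1,
  .bwd [1,2,0,3,1,3,2] 79 0 0,
  .bwd [6,8,4,0,4,8,6,8,0,4,8] 375 3 0,
  .bwd [4,3,4,0,5,1,5] 141 0 0,
  .bwd [2,0,4,5,0,5,2,4] 174 6 1,
  .bwd [1,5,1,3,1,3,5] 77 0 0,
  .bwd [6,7,6,7,6,0,7] 135 0 0,
  .bwd [6,1,6,0,6,4,6,4,1,6] 351 10 1,
  .bwd [3,0,4,7,0,3,0,7,4] 376 0 0,
  .bwd [4,0,9,4,8,0,4,9] 194 6 1,
  .bwd [4,6,4,0,4,6,4] 160 4 0,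
  .bwd [3,8,3,0,8,4,2,4] 308 4 1,
  .bwd [2,4,2,4,1,0,1,2] 279 3 0,
  .bwd [4,2,0,4,0,2,4] 151 3 0,
  .bwd [5,9,5,1,5,9,5,1] 306 8 1,
  .bwd [4,9,4,1,8,4,9,4,9,1,9] 370 0 0,
  .bwd [1,3,0,2,3,1,2] 123 0 0,
  .bwd [3,2,0,1,3,1,2] 100 5 0,
  .bwd [2,3,1,0,3,1,2] 93 3 1,
  .bwd [5,0,8,5,0,3,8,3] 221 4 0,
  .bwd [3,5,1,5,0,9,3,9] 275 0 0,
  .bwd [2,0,2,5,0,6,5,6] 336 0 0,
  .bwd [3,1,5,3,1,3,5,3] 246 0 0,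
  .bwd [1,2,3,1,3,0,2] 107 0 0,
  .bwd [1,4,9,4,9,1,9,4,9,4] 378 0 0,
  .bwd [6,9,1,6,0,8,6,1,9,6] 352 5 1,
  .bwd [3,1,0,2,1,3,2] 123 4 1,
  .bwd [3,1,0,3,1,5,0,5] 193 5 1,
  .bwd [2,0,2,8,3,8,3] 75 0 0,
  .bwd [1,0,2,1,5,1,5,2] 263 0 0,
  .bwd [9,4,8,0,4,9,0,4] 194 8 1,
  .bwd [2,1,2,1,0,4,3,4] 283 3 1,
  .bwd [3,1,8,0,3,8,1] 71 7 1,
  .bwd [1,3,1,2,0,3,2] 100 0 0,
  .bwd [7,4,0,3,0,4,7,0,3] 376 7 0,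
  .bwd [4,2,4,2,0,9,2,9] 300 3 1,
  .bwd [6,7,1,6,0,1,6,7,0,6,1] 382 11 1,
  .bwd [9,5,3,8,3,5,9] 73 0 0,
  .bwd [4,2,4,2,0,6,2,6] 324 3 1,
  .bwd [5,2,0,2,5,4,2,4] 289 5 1,
  .bwd [2,3,9,8,3,0,2,9] 257 0 0,
  .bwd [4,1,3,1,4,2,0,3] 191 1 1,
  .bwd [4,1,8,9,4,9,4,1,4,8,0,4,8] 373 0 0,
  .bwd [7,6,1,6,7,1,0,6,1,6] 360 3 1,
  .bwd [3,0,4,5,1,5,3,4] 177 6 1,
  .bwd [8,6,8,4,0,4,8,6,0,8,4] 375 11 1,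
  .bwd [9,0,9,8] 28 4 1,
  .bwd [6,5,6,1,5,3,0,3] 342 8 1,
  .bwd [6,5,2,6,0,2,0,5] 267 4 0,
  .bwd [2,0,9,5,0,5,2,9] 337 6 1,
  .bwd [3,1,0,1,3,4,3,4] 209 5 1,
  .bwd [4,3,4,8,3,0,3,8] 171 3 0,
  .bwd [7,9,0,2,9,8,7,2] 273 8 1,
  .bwd [2,1,0,2,3,1,3] 79 4 1,
  .bwd [5,1,4,2,4,1,5] 98 0 0,
  .bwd [3,0,5,0,1,0,5,3] 272 2 1,
  .bwd [9,5,4,2,4,5,8,9] 345 0 0,
  .bwd [2,5,2,0,5,2,5] 143 0 0,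
  .bwd [1,3,0,5,0,5,1,3] 193 0 0,
  .bwd [5,1,5,0,2,1,2,1] 199 8 1,
  .bwd [6,0,5,9,6,9,5,4,6,4] 353 10 1,
  .bwd [4,5,1,5,3,4,0,3] 177 8 1,
  .bwd [4,8,1,4,1,0,8,4,1,8,4,1,3,8] 357 8 1,
  .bwd [4,8,6,0,8,4,0,8,6,8,4] 375 4 1,
  .bwd [6,0,4,6,4,5,9,6,9,5] 353 9 0,
  .bwd [6,1,9,1,9,1,6,0,1,6,9,1,9,6,1] 372 8 0,
  .bwd [6,1,9,6,0,6,9,1,6,8] 352 0 0,
  .bwd [7,8,9,0,9,7] 40 0 0,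
  .bwd [2,0,2,3,4,2,4,3] 244 0 0,
  .sub [] [] 0 0,
  .bwd [9,0,3,8,9,8,3,8] 264 7 0,
  .bwd [3,9,3,8,0,9] 42 0 0,
  .bwd [3,0,8,1,3,8,1] 80 7 1,
  .bwd [2,1,0,1,4,2,4,2] 279 5 1,
  .bwd [1,8,3,8,1,0,3] 94 0 0,
  .bwd [2,0,1,5,0,5,1,2] 196 7 0,
  .bwd [5,1,2,0,2,0,1,5] 196 3 0,
  .bwd [2,0,2,1,5,0,5,1] 196 8 1,
  .bwd [2,0,5,1,0,1,5,2] 206 3 1,
  .bwd [3,5,4,2,4,1,5,3] 343 8 1,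
  .bwd [6,5,3,6,8,3,8,5] 346 8 1,
  .bwd [2,4,6,2,6,4,0,2] 278 2 0,
  .bwd [3,8,3,0,5,0,8,5] 221 0 0,
  .bwd [6,0,6,0,6,0,6] 138 0 0,
  .bwd [2,9,3,8,3,0,2,9] 231 3 0,
  .bwd [1,2,1,2,0,5,1,5] 199 0 0,
  .bwd [3,1,2,1,2,0,3] 133 1 1,
  .bwd [1,8,3,1,8,0,3] 80 0 0,
  .bwd [8,1,3,8,0,1,3] 150 3 0,
  .bwd [2,0,9,4,2,4,2,9] 299 6 1,
  .bwd [4,0,3,4,0,4,3] 164 6 0,
  .bwd [4,5,0,5,2,4,0,2] 174 8 1,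
  .bwd [5,0,5,2,0,9,2,9] 200 3 1,
  .bwd [8,4,0,8,4,1,4,9,4,9,8,1,4] 373 13 1,
  .bwd [1,3,2,0,2,1,3] 93 0 0,
  .bwd [3,1,0,1,3,5,1,5] 172 5 1,
  .bwd [4,6,4,5,9,6,9,5,0,6] 353 0 0,
  .bwd [1,3,0,1,8,3,8] 118 0 0]
noncomputable def RR1 : List Rule := [.bwd [1] 1 0 0,
  .bwd [5,4,3,4,5] 36 0 0,
  .bwd [8,1,8] 20 2 0,
  .bwd [8,1,9,8,9] 31 0 0,
  .bwd [0,1,0] 13 1 0,
  .bwd [7,1,7] 22 2 0,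
  .bwd [2,1,2,4,3,4] 50 0 0,
  .bwd [6,1,6,1,6,1,6] 115 2 0,
  .bwd [7,1,6,7,6,7,6] 102 6 0,
  .bwd [2,4,3,4,1,2] 50 2 0,
  .bwd [7,1,3,8,7,8,3] 62 6 0,
  .bwd [2,3,1,0,2,0,3] 64 3 1,
  .bwd [9,1,9,1,9,1,9] 57 2 0,
  .bwd [5,4,3,4,6,5,6] 152 0 0,
  .bwd [3,1,5,0,1,5,3] 70 4 0,
  .bwd [5,4,3,5,4,5,4] 76 7 1,
  .bwd [3,1,9,0,3,0,9] 90 4 0,
  .bwd [0,1,8,9,0,9] 43 6 0,
  .bwd [4,6,4,1,4,6,4] 87 4 0,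
  .bwd [5,1,5,1,4,3,4] 65 4 0,
  .bwd [2,1,4,8,3,8,4] 68 0 0,
  .bwd [8,1,9,0,9,0] 51 1 0,
  .bwd [2,5,1,5,1,6,2,6] 224 0 0,
  .bwd [2,5,1,5,1,2] 52 2 0,
  .bwd [5,0,3,0,3,5] 41 5 0,
  .bwd [3,2,1,3,0,2,0] 64 1 0,
  .bwd [2,1,4,3,4,2] 50 4 1,
  .bwd [5,3,1,3,1,5,0] 70 1 0,
  .bwd [3,1,3,4,2,3,4] 119 0 0,
  .bwd [4,0,1,6,1,0,4,1,6] 354 8 0,
  .bwd [0,2,0,3,1,2,3] 64 6 1,
  .bwd [0,4,1,6,1,4,0,1,6] 354 3 0,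
  .bwd [8,3,0,8,1,3,0] 71 1 0,
  .bwd [4,3,4,1,4,3,4] 110 4 0,
  .bwd [6,1,4,0,1,6,1,0,4] 354 6 0,
  .bwd [9,7,9,1,9,7,9] 109 4 0,
  .bwd [6,7,0,6,1,6,0,1,7,6] 360 4 0,
  .bwd [2,4,3,4,1,6,2,6] 285 0 0,
  .bwd [5,1,2,1,6,2,5,6] 251 4 1,
  .bwd [2,1,5,1,6,5,2,6] 251 0 0,
  .bwd [3,5,1,0,5,1,3] 70 3 1,
  .bwd [9,6,0,6,9,1,6,8,0,6] 352 2 0,
  .bwd [4,2,4,1,4,2,4] 153 4 0,
  .bwd [2,1,5,1,5,9,2,9] 242 0 0,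
  .bwd [5,0,1,5,3,1,3] 70 6 0,
  .bwd [9,0,9,1,9,0,9] 61 2 0,
  .bwd [5,0,5,1,4,2,4] 98 6 0,
  .bwd [4,3,4,2,1,2] 50 6 1,
  .bwd [3,1,4,1,2,1,3,4] 188 5 0,
  .bwd [5,0,3,0,6,3,5,6] 265 4 1,
  .bwd [6,0,6,1,4,6,4,6,0,6] 351 9 0,
  .bwd [6,8,0,6,1,9,6,0,6,9] 352 8 0,
  .bwd [6,1,0,4,1,6,1,4,0] 354 1 0,
  .bwd [3,0,2,0,1,3,2] 64 4 0,
  .bwd [5,1,5,2,1,6,2,6] 224 3 1,
  .bwd [2,1,2,5,1,5] 52 0 0,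
  .bwd [4,1,4,1,4,1,4,1,4] 356 2 0,
  .bwd [5,1,9,0,1,9,5,9,0,1,9] 364 3 0,
  .bwd [8,1,5,9,8,9,5] 56 6 0,
  .bwd [8,0,3,8,1,0,3] 71 1 1,
  .bwd [2,3,0,2,1,3,0] 85 1 0,
  .bwd [2,0,3,1,3,2,0] 79 1 0,
  .bwd [0,9,1,5,1,9,1,0,9,5,9] 364 3 1,
  .bwd [4,5,4,5,3,4,5] 76 0 0,
  .bwd [0,1,0] 13 3 0,
  .bwd [3,1,2,0,2,3,0] 97 1 0,
  .bwd [5,3,0,3,0,5] 41 1 1,
  .bwd [3,8,1,3,8,4,3,4] 167 0 0,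
  .bwd [7,1,7] 22 0 0,
  .bwd [9,1,9,1,6,0,1,6,9,1,9,6,1,0,6] 372 10 0,
  .bwd [4,3,4,2,1,6,2,6] 285 3 1,
  .bwd [5,1,2,1,2,5] 52 5 0,
  .bwd [6,7,6,7,6,1,7] 102 0 0,
  .bwd [4,6,4,6,0,6,1,6,0,6] 351 2 0,
  .bwd [5,1,3,1,3,5,0] 77 1 0,
  .bwd [8,1,8] 20 0 0,
  .bwd [0,3,1,9,0,3,8,9] 185 7 1,
  .bwd [6,0,6,4,6,4,1,6,0,6] 351 1 1,
  .bwd [9,0,3,0,9,1,3] 90 6 0,
  .bwd [9,5,9,0,1,9,1,5,1,9,0] 364 8 0,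
  .bwd [9,1,5,1,9,0,1,9,5,9,0] 364 1 0,
  .bwd [3,1,4,3,1,2,1,4] 188 1 1,
  .bwd [2,0,2,0,1,4,2,4] 173 5 0,
  .bwd [4,9,4,9,1,9,4,9,4,0] 378 1 0,
  .bwd [2,1,4,3,4,6,2,6] 329 0 0,
  .bwd [5,2,1,2,5,4,3,4] 250 5 1,
  .bwd [3,2,0,2,1,3,0] 93 1 0,
  .bwd [6,0,1,6,9,1,9,6,1,0,6,1,9,1,9] 372 14 0,
  .bwd [5,1,5,2,1,2] 52 6 1,
  .bwd [9,6,1,0,6,1,9,1,9,1,6,0,1,6,9] 372 4 0,
  .bwd [4,8,4,1,9,1,0,4,2,9,8,4,0,1,9] 350 3 0,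
  .bwd [9,4,9,4,0,1,4,9,4,9] 378 6 0,
  .bwd [3,1,6,9,6,9,1,2,1,2,6,8,3,8,6] 368 9 0,
  .bwd [5,1,5,2,1,9,2,9] 266 3 1,
  .bwd [7,6,1,6,7,0,6,1,6,0] 360 1 0,
  .bwd [2,5,1,5,1,9,2,9] 266 0 0,
  .bwd [3,0,1,9,8,3,0,9] 185 7 0,
  .bwd [4,0,1,4,1,3,5,3,2,5,3,5,4] 367 12 0,
  .bwd [4,1,3,5,3,2,5,3,5,4,1,4,0] 367 1 0,
  .bwd [4,2,4,1,2,0,2,0] 173 1 0,
  .bwd [8,4,0,8,3,1,4,8,1,4,8,0,1,4] 357 3 0,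
  .bwd [9,1,0,4,2,9,8,4,0,1,9,1,4,8,4] 350 7 0,
  .bwd [0,4,9,4,9,1,9,4,9,4] 378 9 1,
  .bwd [3,4,2,3,4,1,3] 119 2 0,
  .bwd [0,2,3,1,3,0,2] 79 6 1,
  .bwd [0,1,2,0,2,4,2,4] 279 8 0,
  .bwd [5,3,0,3,5,4,2,4] 343 5 1,
  .bwd [9,1,9,1,9,1,9] 57 0 0,
  .bwd [4,5,3,5,2,3,5,3,1,4,1,0,4] 367 1 1,
  .bwd [3,8,3,8,1,4,2,4] 175 0 0,
  .bwd [2,3,1,3,2,4,2,4] 322 0 0,
  .bwd [0,4,2,9,8,4,0,1,9,1,4,8,4,1,9] 350 9 0,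
  .bwd [4,3,4,1,5,1,5] 65 0 0,
  .bwd [5,9,4,2,3,4,9,5] 230 0 0,
  .bwd [3,1,9,3,5,1,5,9] 241 0 0,
  .bwd [6,1,6,1,6,1,6] 115 0 0,
  .bwd [2,4,3,4,1,9,2,9] 293 0 0,
  .bwd [3,0,1,3,4,2,4,0] 208 1 0,
  .bwd [2,0,3,2,1,0,3] 85 1 1,
  .bwd [7,8,6,8,1,6,7,6,8,1,6] 374 2 0,
  .bwd [8,3,8,3,1,4,2,4] 175 3 1,
  .bwd [4,2,9,8,4,1,9,0,1,4,8,4,1,0,9] 377 8 0,
  .bwd [4,8,3,8,4,1,2] 68 2 0,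
  .bwd [3,2,0,1,2,0,3] 79 5 0,
  .bwd [4,6,4,1,4,6,4] 87 0 0,
  .bwd [0,3,0,1,4,1,2,1,4] 381 7 0,
  .bwd [2,1,3,4,1,3,1,4] 188 0 0,
  .bwd [4,3,4,0,2,1,2,0] 298 1 0,
  .bwd [0,3,0,1,3,4,2,4] 291 6 0,
  .bwd [8,6,8,7,1,6,1,8,6,7,6] 374 4 1,
  .bwd [4,3,2,4,3,1,3] 119 7 1,
  .bwd [9,1,9,1,9,1,9] 57 4 0,
  .bwd [6,2,5,6,1,5,1,2] 251 8 1,
  .bwd [6,0,7,6,1,0,6,1,7,6,0] 382 1 0,
  .bwd [7,4,3,4,7,2,1,2] 259 8 1,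
  .bwd [4,2,4,1,4,2,4] 153 0 0,
  .bwd [0,1,2,8,9,2,0,9] 236 8 0,
  .bwd [5,2,1,2,1,6,5,6] 280 3 1,
  .bwd [3,1,9,5,1,5,3,9] 241 6 1,
  .bwd [0,6,1,9,1,9,1,6,0,1,6,9,1,9,6] 372 7 0,
  .bwd [3,1,9,3,4,3,4,9] 262 0 0,
  .bwd [2,1,4,3,4,9,2,9] 314 0 0,
  .bwd [3,0,3,0,1,4,3,4] 182 5 0,
  .bwd [3,8,1,0,3,8,0] 128 1 0,
  .bwd [6,5,6,4,3,4,5] 152 7 1,
  .bwd [6,0,6,1,6,0,6,4,6,4] 351 8 1,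
  .bwd [7,6,0,1,6,0,7,6,1,0,6] 382 9 0,
  .bwd [8,4,9,4,9,1,9,0,4,9,4] 370 4 0,
  .bwd [5,2,5,1,2,5,2] 161 4 0,
  .bwd [0,3,1,2,0,2,3] 93 6 1,
  .bwd [5,9,5,1,5,9,5,0] 306 1 0,
  .bwd [8,3,1,8,0,3,0] 80 1 0,
  .bwd [2,1,2,0,4,3,4,0] 283 1 0,
  .bwd [8,9,4,9,4,1,4,8,0,4,8,0,4] 373 2 0,
  .bwd [0,4,1,4,5,3,5,2,3,5,3,1,4] 367 12 1,
  .bwd [9,8,9,1,8] 31 2 0,
  .bwd [4,1,4,1,4,1,4,1,4] 356 6 0,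
  .bwd [2,1,2,5,1,6,5,6] 280 0 0,
  .bwd [3,1,0,8,3,9,0,9] 183 5 1,
  .bwd [0,3,1,8,0,3,8] 71 6 1,
  .bwd [0,2,0,2,1,4,2,4] 173 7 1,
  .bwd [3,4,2,4,0,1,3,0] 208 4 0,
  .bwd [4,2,6,9,6,9,4,1,4,9,6,9,6,2,4] 379 0 0,
  .bwd [4,3,4,1,3,0,3,0] 182 1 0,
  .bwd [2,1,2,0,3,0,3] 133 3 1,
  .bwd [6,0,8,6,1,9,6,0,6,9] 352 8 1,
  .bwd [3,1,4,0,3,0,2,4] 191 3 0,
  .bwd [2,0,2,1,0,4,2,4] 202 3 1,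
  .bwd [3,1,5,1,0,5,3] 77 2 1,
  .bwd [8,3,8,2,1,2,3] 82 3 0,
  .bwd [2,0,2,1,4,2,4,0] 202 1 0,
  .bwd [5,9,4,3,4,9,5,0] 330 1 0,
  .bwd [8,3,8,1,0,3,0] 94 1 0,
  .bwd [3,1,3,5,1,0,5] 70 1 1,
  .bwd [9,4,9,4,8,1,4,9,4,0,9] 370 1 1,
  .bwd [8,6,7,6,1,8,6,8,7,1,6] 374 11 1,
  .bwd [3,0,1,2,3,0,2] 85 6 0,
  .bwd [5,2,1,2,1,5] 52 1 1,
  .bwd [3,2,1,2,3,4,2,4] 326 5 1,
  .bwd [8,3,8,1,3,4,3,4] 304 5 0,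
  .bwd [5,0,5,1,2,0,2,0] 196 1 0,
  .bwd [2,5,2,1,5,2,5] 161 0 0,
  .bwd [3,0,1,8,3,8,0] 118 1 0,
  .bwd [2,1,2,4,2,3,2,4] 180 0 0,
  .bwd [2,3,5,3,1,3,5,3,2,0] 371 1 0,
  .bwd [4,1,4,1,4,1,4,1,4] 356 0 0,
  .bwd [2,1,3,2,0,3,0] 127 1 0,
  .bwd [4,1,2,1,3,4,1,3] 188 7 0,
  .bwd [3,1,3,1,3,1,3] 92 2 0,
  .bwd [2,3,1,7,2,9,7,6,1,0,3,0,1,9,6] 369 5 1,
  .bwd [8,0,3,0,1,8,3] 80 4 0,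
  .bwd [3,1,6,8,3,8,6,2,1,2,1,9,6,9,6] 368 4 1,
  .bwd [0,9,5,9,1,0,9,1,5,1,9] 364 10 1,
  .bwd [4,9,6,9,6,2,4,1,4,2,6,9,6,9,4] 379 8 0,
  .bwd [3,8,3,1,8,4,2,4] 284 4 1,
  .bwd [5,3,0,6,3,6,0,5] 178 5 1,
  .bwd [9,3,5,1,5,9,1,3] 241 2 0,
  .bwd [4,2,4,0,1,2,0,2] 202 5 0,
  .bwd [3,8,1,0,9,3,0,9] 256 4 1,
  .bwd [9,7,9,1,9,7,9] 109 0 0,
  .bwd [3,5,0,1,5,1,3] 77 5 0,
  .bwd [5,3,1,3,5,3,0,3] 246 2 0,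
  .bwd [5,2,4,3,4,2,5] 60 0 0,
  .bwd [2,3,1,3,0,2,0] 107 1 0,
  .bwd [5,8,4,3,4,8,5] 124 0 0,
  .bwd [3,5,3,2,5,3,5,4,1,4,0,1,4] 367 3 0,
  .bwd [3,1,4,2,0,3,0,4] 191 3 1,
  .bwd [0,6,1,7,6,0,1,6,0,7,6] 382 6 0,
  .bwd [0,5,1,3,1,3,5] 70 6 1,
  .bwd [6,5,2,6,1,2,1,5] 251 4 0,
  .bwd [9,8,9,1,2,8,2] 81 4 0,
  .bwd [3,0,3,1,0,4,3,4] 234 3 1,
  .bwd [9,1,6,0,1,6,9,1,9,6,1,0,6,1,9] 372 12 0,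
  .bwd [9,4,3,4,9,3,1,3] 294 8 1,
  .bwd [0,1,3,4,3,4,0,3] 209 7 1,
  .bwd [3,1,8,3,5,1,8,5] 229 6 1,
  .bwd [3,5,9,5,3,1,9,5,9,5,3,5,9,5] 358 8 1,
  .bwd [2,0,4,2,4,2,1,0] 281 1 0,
  .bwd [9,8,3,0,9,1,3,0] 185 1 0,
  .bwd [9,0,1,4,8,4,1,0,9,1,4,2,9,8,4] 377 14 0,
  .bwd [3,0,3,1,3,0,3] 99 2 0,
  .bwd [0,5,9,5,1,5,9,5] 306 7 1,
  .bwd [3,1,4,3,2,4,3] 119 5 1,
  .bwd [3,0,2,1,0,2,3] 79 2 1,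
  .bwd [9,0,1,9,5,9,0,1,9,1,5] 364 5 0,
  .bwd [5,3,0,3,0,6,5,6] 342 3 1,
  .bwd [3,2,0,3,1,0,2] 123 1 1,
  .bwd [4,1,8,4,0,8,3,1,4,8,1,4,8,0] 357 1 0,
  .bwd [3,8,0,1,3,9,0,9] 239 6 0,
  .bwd [0,5,3,1,3,1,5] 77 6 1,
  .bwd [2,1,4,1,3,1,4,3] 188 6 1,
  .bwd [0,9,0,9,1,8] 51 5 1,
  .bwd [5,9,2,9,1,2,1,5] 242 4 0,
  .bwd [2,1,0,3,0,2,3] 127 4 1,
  .bwd [0,3,1,2,0,3,2] 85 6 1,
  .bwd [4,2,4,3,2,1,2,3] 326 3 0,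
  .bwd [2,8,3,8,1,2,3] 95 3 0,
  .bwd [0,3,0,1,6,7,9,2,7,1,3,2,1,6,9] 369 13 0,
  .bwd [3,0,3,2,1,2,0] 139 1 0,
  .bwd [9,1,4,8,4,1,9,1,0,4,2,9,8,4,0] 350 1 0,
  .bwd [2,1,4,1,0,3,0,1,4] 381 3 0,
  .bwd [6,0,1,7,6,1,6,7,0,6] 360 9 0,
  .bwd [4,3,4,2,1,9,2,9] 293 3 1,
  .bwd [3,0,4,3,4,3,1,0] 209 1 0,
  .bwd [0,3,1,4,2,4,0,3] 332 7 1,
  .bwd [4,8,0,4,8,0,4,1,8,9,4,9,4] 373 8 0,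
  .bwd [2,1,3,0,3,0,2] 133 2 0,
  .bwd [9,0,4,9,4,1,8,4,9,4,9] 370 10 0,
  .bwd [3,2,1,3,4,2,4,2] 287 5 1,
  .bwd [0,8,4,1,8,4,1,3,8,0,4,8,1,4] 357 13 1,
  .bwd [3,1,3,9,5,1,5,9] 310 0 0,
  .bwd [2,0,1,0,2,4,3,4] 243 4 1,
  .bwd [5,1,0,5,3,1,3] 77 4 1,
  .bwd [6,9,1,9,6,1,0,6,1,9,1,9,1,6,0] 372 1 0,
  .bwd [2,1,2,6,8,3,8,6,1,3,1,6,9,6,9] 368 0 0,
  .bwd [3,0,2,3,1,2,0] 123 1 0,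
  .bwd [3,8,0,4,8,1,4,1,0,8,4,1,8,4] 357 5 1,
  .bwd [0,1,5,0,2,0,2,5] 206 8 0,
  .bwd [8,5,1,3,8,1,3,5] 245 3 0,
  .bwd [2,3,1,8,3,8,2] 82 0 0,
  .bwd [0,3,0,3,1,4,3,4] 182 7 1,
  .bwd [9,0,3,8,9,1,0,3] 185 1 1,
  .bwd [4,8,9,2,4,1,9,0,1,4,8,4,1,0,9] 377 1 1,
  .bwd [3,4,3,4,0,3,1,0] 209 0 1,
  .bwd [9,5,9,5,3,5,9,5,1,3,5,9,5,3] 358 14 1,
  .bwd [0,1,2,4,2,4,0,2] 281 7 1,
  .bwd [2,1,4,5,0,5,3,4] 333 4 0,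
  .bwd [9,0,1,4,8,4,1,0,9,1,4,8,9,2,4] 377 7 1,
  .bwd [9,0,9,1,9,0,9] 61 6 0,
  .bwd [3,8,1,0,3,0,8] 80 3 1,
  .bwd [9,4,9,4,1,0,4,9,4,9] 378 4 1,
  .bwd [0,2,0,3,1,3,2] 107 6 1,
  .bwd [4,2,4,5,3,0,3,5] 343 3 0,
  .bwd [3,8,7,8,3,1,7] 62 0 0,
  .bwd [3,1,9,0,3,8,9,0] 254 1 0,
  .bwd [0,3,2,0,2,1,3] 97 6 1,
  .bwd [9,0,9,8,1,0] 43 0 1,
  .bwd [0,3,1,0,8,3,8] 118 3 1,
  .bwd [8,1,9,2,0,9,0,2] 253 2 0,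
  .bwd [8,1,3,8,4,2,4,3] 220 8 1,
  .bwd [4,3,1,2,1,4,1,3] 188 3 1,
  .bwd [9,1,0,4,8,9,2,4,0,1,9,1,4,8,4] 350 12 1,
  .bwd [2,0,2,1,5,0,5,0] 207 1 0,
  .bwd [9,0,9,0,1,8] 51 3 0,
  .bwd [4,1,0,4,1,4,5,3,5,2,3,5,3] 367 10 1,
  .bwd [0,9,1,4,8,9,2,4,1,9,0,1,4,8,4] 377 14 1,
  .bwd [8,4,3,4,8,2,1,2] 218 8 1,
  .bwd [3,8,3,1,4,2,4,8] 284 0 0,
  .bwd [4,2,4,3,1,0,3,0] 291 2 1,
  .bwd [2,1,0,4,3,4,0,2] 283 5 1,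
  .bwd [8,3,1,4,3,4,8,3] 167 5 1,
  .bwd [5,3,5,1,5,3,5] 117 4 0,
  .bwd [8,4,1,3,8,0,4,8,1,4,1,0,8,4] 357 2 1,
  .bwd [0,2,1,2,0,4,3,4] 298 7 1,
  .bwd [0,5,9,4,3,4,9,5] 330 7 1,
  .bwd [4,3,4,0,1,3,0,3] 234 5 0,
  .bwd [3,9,4,3,4,9,1,3] 294 2 0,
  .bwd [0,6,1,6,0,7,6,1,6,7] 360 9 1,
  .bwd [0,6,7,1,6,0,1,6,7,0,6] 382 10 1,
  .bwd [4,2,0,3,0,4,1,3] 191 5 1,
  .bwd [5,1,6,2,6,1,2,5] 224 3 0,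
  .bwd [5,2,0,3,0,2,3,5] 215 4 0,
  .bwd [5,9,0,9,0,5,1,8] 198 4 0,
  .bwd [9,2,9,5,1,5,1,2] 242 8 1,
  .bwd [0,8,3,0,1,8,3] 128 6 1,
  .bwd [0,3,1,5,0,5,0,3] 193 7 1,
  .bwd [4,8,1,4,8,0,1,4,1,8,4,0,8,3] 357 9 0,
  .bwd [4,8,4,1,0,9,1,4,2,9,8,4,1,9,0] 377 1 0,
  .bwd [5,9,4,3,2,4,9,5] 230 8 1,
  .bwd [2,1,2,0,5,1,5,0] 199 1 0,
  .bwd [2,8,2,1,9,0,9,0] 274 1 0,
  .bwd [5,0,8,3,0,3,8,5] 255 3 1,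
  .bwd [2,3,1,2,8,3,8] 95 0 0,
  .bwd [3,2,1,4,2,4,2,3] 322 5 1,
  .bwd [4,1,4,1,4,1,4,1,4] 356 4 0,
  .bwd [6,1,6,1,6,1,6] 115 6 0,
  .bwd [3,1,0,4,2,4,3,0] 315 5 1,
  .bwd [3,4,2,4,2,1,3,2] 287 8 1,
  .sub [] [] 1 0,
  .bwd [5,9,8,9,5,1,8] 56 0 0,
  .bwd [2,1,2,4,9,3,9,4] 219 0 0,
  .bwd [3,0,3,5,3,1,3,5] 246 6 1,
  .bwd [3,5,3,0,3,1,5,3] 246 5 0,
  .bwd [0,5,1,5,0,2,1,2] 199 7 1,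
  .bwd [2,1,6,2,6,4,3,4] 329 6 1,
  .bwd [3,8,2,1,2,3,8] 106 4 0,
  .bwd [3,1,0,5,0,5,3,0] 210 5 1,
  .bwd [4,9,4,0,9,1,9,4,9,4,8] 370 7 1,
  .bwd [3,2,4,2,4,1,2,3] 322 3 0,
  .bwd [0,3,8,0,1,3,8] 128 4 0,
  .bwd [9,6,9,6,1,3,1,6,8,3,8,6,2,1,2] 368 15 1,
  .bwd [6,7,1,0,6,1,6,0,7,6] 360 6 1,
  .bwd [5,1,2,1,9,2,9,5] 242 4 1,
  .bwd [0,8,3,8,1,0,3] 118 6 1,
  .bwd [0,2,1,3,2,0,3] 123 6 1,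
  .bwd [3,0,3,0,2,1,2] 133 4 0,
  .bwd [3,5,9,5,3,1,5,9,5,3,5,9,5,9] 358 0 0,
  .bwd [6,7,0,6,1,0,6,7,1,6,0] 382 5 1,
  .bwd [4,1,0,3,0,1,4,1,2] 381 5 0,
  .bwd [0,3,0,2,3,1,2] 127 6 1,
  .bwd [2,0,1,3,0,2,3] 123 6 0,
  .bwd [3,1,0,3,4,2,4,0] 315 1 0,
  .bwd [0,4,2,4,3,1,0,3] 208 7 1,
  .bwd [2,1,0,5,1,5,0,2] 199 5 1,
  .bwd [2,1,4,3,5,0,5,4] 333 2 1,
  .bwd [4,8,0,1,4,1,8,4,0,8,3,1,4,8] 357 12 0,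
  .bwd [8,3,2,1,2,8,3] 106 3 1,
  .bwd [0,1,9,0,9,8] 43 5 1,
  .bwd [4,2,4,1,5,0,5] 98 2 0,
  .bwd [5,9,5,0,1,5,9,5] 306 5 0,
  .bwd [9,0,3,9,0,1,8,3] 256 4 0,
  .bwd [3,2,1,0,2,0,3] 107 3 1,
  .bwd [8,3,1,0,8,3,0] 128 3 1,
  .bwd [0,2,1,4,3,4,2,0] 243 1 0,
  .bwd [0,3,0,8,1,3,8] 80 6 1,
  .bwd [3,1,3,9,4,3,4,9] 294 0 0,
  .bwd [3,0,1,3,0,5,0,5] 193 7 0,
  .bwd [0,3,1,0,4,2,4,3] 208 4 1]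
noncomputable def RR2 : List Rule := [.bwd [2] 2 0 0,
  .bwd [9,2,9] 18 2 0,
  .bwd [6,2,6] 24 2 0,
  .bwd [4,5,0,5,4] 32 3 0,
  .bwd [8,2,8] 11 2 0,
  .bwd [3,2,3] 26 2 0,
  .bwd [1,2,4,3,4,1] 50 1 0,
  .bwd [7,2,7] 15 2 0,
  .bwd [5,2,5,2,5] 37 2 0,
  .bwd [8,9,2,0,9,0] 39 1 0,
  .bwd [4,3,8,3,8,4] 49 0 0,
  .bwd [0,2,5,0,5,0] 48 1 0,
  .bwd [0,2,0,5,0,5] 48 3 1,
  .bwd [4,3,4,1,2,1] 50 3 0,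
  .bwd [1,4,3,4,2,1] 50 5 1,
  .bwd [1,2,1,5,1,5] 52 3 1,
  .bwd [5,0,5,0,2,0] 48 3 0,
  .bwd [0,2,4,2,4,0] 53 1 0,
  .bwd [5,1,5,1,2,1] 52 3 0,
  .bwd [9,8,2,0,9,0] 39 2 1,
  .bwd [3,1,0,2,0,3,1] 64 4 1,
  .bwd [0,5,0,5,2,0] 48 5 1,
  .bwd [4,8,3,8,3,4] 49 6 1,
  .bwd [1,2,5,1,5,1] 52 1 0,
  .bwd [4,5,0,4,5,4,5] 121 5 0,
  .bwd [1,2,1,4,3,4] 50 3 1,
  .bwd [4,0,2,0,2,4] 53 5 0,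
  .bwd [9,5,2,4,9,4,5,9,8,2,5] 349 9 0,
  .bwd [0,2,5,2,0,2,5] 78 3 0,
  .bwd [0,3,1,3,2,0,1] 79 2 0,
  .bwd [4,3,4,2,5,1,5] 60 2 0,
  .bwd [3,5,3,1,4,1,0,4,1,4,5,3,5] 367 6 1,
  .bwd [8,2,5,9,8,9,5] 136 6 0,
  .bwd [1,2,5,2,1,2,5] 96 3 0,
  .bwd [4,2,4,2,5,0,5] 91 2 0,
  .bwd [4,7,4,2,4,7,4] 63 4 0,
  .bwd [8,2,1,9,8,9,1] 81 1 0,
  .bwd [4,2,4,0,2,0] 53 3 0,
  .bwd [9,2,9] 18 0 0,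
  .bwd [1,5,1,5,2,1] 52 5 1,
  .bwd [6,1,2,1,5,1,6,5] 251 7 0,
  .bwd [4,2,0,2,0,4] 53 1 1,
  .bwd [5,2,0,2,5,2,0] 78 1 0,
  .bwd [0,2,0,4,2,4] 53 3 1,
  .bwd [6,2,6] 24 0 0,
  .bwd [0,1,3,2,1,3,0] 64 7 0,
  .bwd [6,0,2,0,5,0,6,5] 267 7 0,
  .bwd [5,2,1,2,5,2,1] 96 1 0,
  .bwd [3,4,1,3,1,3,4] 119 5 0,
  .bwd [0,4,2,4,2,0] 53 5 1,
  .bwd [5,2,8,9,5,4,9,4,2,5,9] 349 2 1,
  .bwd [1,3,2,0,3,0,1] 127 2 0,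
  .bwd [5,4,5,4,0,5,4] 121 2 1,
  .bwd [0,3,0,2,3,5,1,5] 215 6 0,
  .bwd [0,3,2,1,0,3,1] 85 2 1,
  .bwd [5,1,5,2,4,3,4] 60 6 0,
  .bwd [4,1,5,0,5,1,4] 98 4 0,
  .bwd [5,0,2,5,2,0,5] 143 6 0,
  .bwd [4,9,5,0,5,9,4] 147 4 0,
  .bwd [1,3,0,1,2,3,0] 85 5 0,
  .bwd [5,0,5,2,4,2,4] 91 6 0,
  .bwd [0,4,0,2,4,0,4] 151 5 0,
  .bwd [1,0,2,3,1,3,0] 79 5 1,
  .bwd [7,2,7] 15 0 0,
  .bwd [3,4,3,1,3,1,4] 148 1 1,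
  .bwd [5,2,1,5,2,5,1] 161 1 0,
  .bwd [1,3,2,1,3,5,0,5] 223 2 0,
  .bwd [8,2,8] 11 0 0,
  .bwd [4,0,4,2,0,4,0] 151 1 0,
  .bwd [8,3,8,1,3,2,1] 82 0 1,
  .bwd [3,2,3] 26 0 0,
  .bwd [5,3,5,4,1,4,0,1,4,1,3,5,3] 367 7 0,
  .bwd [1,4,8,3,8,4,1] 68 1 0,
  .bwd [3,0,2,1,3,0,1] 85 2 0,
  .bwd [3,1,2,0,1,3,0] 123 4 0,
  .bwd [3,1,3,2,1,5,0,5] 233 1 1,
  .bwd [0,5,2,5,0,2,5] 143 3 0,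
  .bwd [3,1,8,3,8,2,1] 82 1 0,
  .bwd [3,0,2,1,3,1,0] 100 0 1,
  .bwd [9,0,2,0,9,5,0,5] 337 4 1,
  .bwd [4,9,4,2,4,9,4] 159 4 0,
  .bwd [4,2,5,0,5,2,4] 91 4 0,
  .bwd [3,1,2,1,3,5,1,5] 302 4 1,
  .bwd [3,1,0,3,1,2,0] 93 4 1,
  .bwd [7,4,3,4,7,1,2,1] 259 3 0,
  .bwd [4,8,4,2,4,8,4] 67 4 0,
  .bwd [0,2,0,1,5,0,5,1] 196 6 0,
  .bwd [5,9,2,5,2,8,9,5,4,9,4] 349 11 1,
  .bwd [1,2,5,1,4,3,4,5] 250 8 0,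
  .bwd [8,9,5,4,9,4,2,5,9,2,5] 349 4 1,
  .bwd [4,1,4,2,4,1,4] 153 2 0,
  .bwd [8,9,2,0,9,1,0,1] 236 2 0,
  .bwd [0,2,1,2,0,2,1] 149 3 0,
  .bwd [0,2,8,3,8,3,0] 75 1 0,
  .bwd [8,2,0,5,3,8,3,5] 222 5 1,
  .bwd [1,2,7,4,3,4,7,1] 259 1 0,
  .bwd [1,5,2,5,1,2,5] 161 3 0,
  .bwd [5,0,5,4,0,2,0,4] 174 4 0,
  .bwd [4,0,2,0,4,5,0,5] 174 4 1,
  .bwd [5,1,2,5,2,1,5] 161 6 0,
  .bwd [0,4,0,2,0,4,0] 86 1 0,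
  .bwd [0,2,0,1,4,2,4,1] 173 6 0,
  .bwd [1,3,2,0,3,1,0] 123 0 1,
  .bwd [1,3,0,2,0,1,3] 64 3 0,
  .bwd [0,3,1,2,3,1,0] 64 0 1,
  .bwd [3,0,2,0,3,5,0,5] 321 4 1,
  .bwd [8,2,5,3,8,3,5,0] 222 1 0,
  .bwd [3,1,2,8,3,8,1] 95 1 0,
  .bwd [9,1,2,5,1,5,1,9] 266 7 0,
  .bwd [6,9,6,9,4,1,4,9,6,9,6,2,4,1,4] 379 2 0,
  .bwd [1,2,5,3,1,3,5,0] 192 1 0,
  .bwd [0,2,3,1,0,3,1] 93 2 1,
  .bwd [4,2,4,3,1,2,3,1] 287 4 0,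
  .bwd [3,4,9,5,1,5,9,4] 230 4 0,
  .bwd [7,8,9,2,0,9,7,0] 273 1 0,
  .bwd [0,1,3,0,2,3,1] 123 7 0,
  .bwd [8,3,8,3,0,2,0] 75 3 0,
  .bwd [3,5,0,5,1,3,2,1] 282 6 0,
  .bwd [0,9,4,2,4,9,2,0] 168 7 1,
  .bwd [9,4,2,4,9,0,2,0] 168 3 0,
  .bwd [0,2,1,4,2,4,1,0] 173 0 1,
  .bwd [1,2,8,4,3,4,8,1] 218 1 0,
  .bwd [5,2,0,5,2,5,0] 143 1 0,
  .bwd [3,2,4,1,2,1,2,4] 180 5 0,
  .bwd [0,2,5,0,4,2,4,5] 289 8 0,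
  .bwd [3,2,0,3,5,1,5,0] 225 1 0,
  .bwd [3,0,1,3,1,2,0] 97 6 0,
  .bwd [5,1,5,4,8,3,8,4] 258 6 1,
  .bwd [1,3,2,1,3,4,2,4] 287 4 1,
  .bwd [0,2,1,4,2,4,0,1] 202 2 0,
  .bwd [8,4,3,4,8,1,2,1] 218 3 0,
  .bwd [9,0,3,8,3,9,2,0] 170 1 0,
  .bwd [4,7,4,2,4,7,4] 63 0 0,
  .bwd [5,2,9,5,2,4,9,4,5,9,8] 349 7 0,
  .bwd [5,1,5,3,2,0,3,0] 215 2 1,
  .bwd [1,2,5,4,3,4,1,5] 250 7 1,
  .bwd [4,6,5,6,0,5,4] 125 3 0,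
  .bwd [9,0,3,9,8,3,2,0] 214 0 1,
  .bwd [1,2,3,0,3,1,0] 139 0 1,
  .bwd [4,9,2,6,7,9,4,2,4,2,7,6,4] 383 3 1,
  .bwd [3,9,8,3,0,2,9,0] 257 1 0,
  .bwd [1,4,1,3,1,4,3,1] 188 7 1,
  .bwd [3,2,4,2,1,2,1,4] 180 1 1,
  .bwd [4,3,4,3,2,0,3,0] 181 2 1,
  .bwd [3,0,2,0,3,4,2,4] 261 4 1,
  .bwd [4,9,4,5,9,8,2,5,2,9,5] 349 0 0,
  .bwd [1,0,3,0,2,3,1] 127 5 1,
  .bwd [0,2,9,4,2,4,9,0] 168 1 0,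
  .bwd [3,1,3,0,2,1,0] 79 0 1,
  .bwd [3,1,3,0,2,0,1] 107 2 0,
  .bwd [0,1,0,2,1,5,1,5] 263 8 0,
  .bwd [1,3,1,0,3,2,0] 97 3 1,
  .bwd [1,6,2,6,1,5,1,5] 224 7 1,
  .bwd [0,4,2,4,6,2,6,0] 339 1 0,
  .bwd [0,8,3,8,3,2,0] 112 6 1,
  .bwd [0,9,0,2,9,5,8,5] 269 7 1,
  .sub [] [] 2 0,
  .bwd [0,9,0,2,8,9] 39 4 0,
  .bwd [4,9,0,2,0,2,9,4] 168 6 0,
  .bwd [0,2,9,0,3,9,8,3] 214 7 1,
  .bwd [5,2,5,2,5] 37 4 0,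
  .bwd [0,2,9,0,3,8,3,9] 170 8 0,
  .bwd [5,0,5,3,0,2,0,3] 321 4 0,
  .bwd [1,4,2,4,1,0,2,0] 173 2 1,
  .bwd [4,2,3,2,4,1,2,1] 180 3 0,
  .bwd [4,8,4,2,4,8,4] 67 0 0,
  .bwd [0,2,1,5,0,5,0,1] 207 2 0,
  .bwd [4,9,2,9,4,0,2,0] 203 3 0,
  .bwd [1,2,1,3,0,3,0] 133 1 0,
  .bwd [1,2,0,2,1,2,0] 149 1 0,
  .bwd [8,3,8,1,2,3,1] 95 4 0,
  .bwd [3,1,3,2,4,2,4,1] 322 1 0,
  .bwd [5,9,8,9,5,2,8] 136 0 0,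
  .bwd [3,0,3,1,0,2,1] 139 2 1,
  .bwd [4,1,2,0,2,0,1,4] 173 3 0,
  .bwd [0,3,0,2,0,3,0] 155 1 0,
  .bwd [9,1,2,4,3,4,1,9] 293 7 0,
  .bwd [8,3,1,8,3,2,1] 106 0 1,
  .bwd [3,4,3,4,2,0,3,0] 181 1 0,
  .bwd [3,1,3,2,5,0,5,1] 233 3 0,
  .bwd [5,0,5,0,6,2,6,0] 313 1 0,
  .bwd [1,2,0,5,3,1,3,5] 192 5 1]
noncomputable def RR3 : List Rule := [.bwd [3] 3 0 0,
  .bwd [6,3,6] 10 2 0,
  .bwd [9,3,9] 16 2 0,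
  .bwd [4,5,1,5,4] 36 3 0,
  .bwd [7,3,7] 12 2 0,
  .bwd [7,3,8,7,8] 38 0 0,
  .bwd [0,3,5,1,5,0] 41 1 0,
  .bwd [2,1,3,0,2,0,1] 64 2 0,
  .bwd [8,7,8,3,1,7,1] 62 1 0,
  .bwd [0,3,0,5,1,5] 41 3 1,
  .bwd [4,0,3,0,3,4] 46 5 0,
  .bwd [5,1,5,0,3,0] 41 3 0,
  .bwd [2,3,2] 26 1 0,
  .bwd [8,5,0,5,3,8] 45 4 0,
  .bwd [9,3,0,9,0,8] 42 3 1,
  .bwd [0,2,0,1,3,2,1] 64 5 0,
  .bwd [8,3,8,5,0,5] 45 2 0,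
  .bwd [1,5,0,1,5,3,1] 70 5 0,
  .bwd [0,3,4,3,4,0] 46 1 0,
  .bwd [1,3,1,5,0,1,5] 70 3 0,
  .bwd [4,5,1,4,5,4,5] 76 5 0,
  .bwd [9,3,8,0,9,0] 42 1 0,
  .bwd [0,5,1,5,3,0] 41 5 1,
  .bwd [8,3,5,8,0,5] 47 2 0,
  .bwd [8,4,2,4,3,8] 49 4 0,
  .bwd [1,0,2,0,3,1,2] 64 5 1,
  .bwd [8,3,5,0,5,8] 45 2 1,
  .bwd [1,9,0,3,0,9,1] 90 5 0,
  .bwd [0,1,8,3,0,8,1] 71 7 0,
  .bwd [4,3,0,3,0,4] 46 1 1,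
  .bwd [4,1,2,1,2,4] 50 5 0,
  .bwd [1,3,5,1,0,5,1] 70 2 1,
  .bwd [0,3,0,4,3,4] 46 3 1,
  .bwd [8,3,8,4,2,4] 49 2 0,
  .bwd [5,0,5,3,5,0,5] 111 2 0,
  .bwd [5,1,0,5,1,3,1] 70 4 1,
  .bwd [5,1,5,3,5,1,5] 117 2 0,
  .bwd [5,4,5,4,1,5,4] 76 2 1,
  .bwd [8,7,8,3,5,7,5] 116 4 0,
  .bwd [1,3,0,2,1,0,2] 79 1 1,
  .bwd [4,1,3,1,3,4,2] 119 6 0,
  .bwd [6,3,6] 10 0 0,
  .bwd [5,0,5,8,3,8] 45 4 1,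
  .bwd [2,4,3,1,3,1,4] 119 1 1,
  .bwd [6,8,3,5,8,0,6,5] 240 3 0,
  .bwd [2,0,1,2,3,5,3,1,3,5] 371 9 0,
  .bwd [1,3,4,2,3,4,1] 119 1 0,
  .bwd [9,3,9] 16 0 0,
  .bwd [7,8,3,5,8,7,0,5] 227 2 0,
  .bwd [1,2,3,1,0,2,0] 64 2 1,
  .bwd [8,1,0,3,0,8,1] 80 4 1,
  .bwd [0,2,1,3,0,1,2] 85 3 0,
  .bwd [2,0,1,2,0,3,1] 79 6 0,
  .bwd [4,2,1,2,1,4] 50 1 1,
  .bwd [1,3,5,0,2,1,2,5] 192 5 0,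
  .bwd [1,5,1,0,5,3,1] 77 3 1,
  .bwd [5,3,1,3,5,3,2,0,1,2] 371 3 0,
  .bwd [2,3,2] 26 3 0,
  .bwd [4,3,4,0,3,0] 46 3 0,
  .bwd [4,2,4,8,3,8] 49 4 1,
  .bwd [5,8,0,5,3,8] 47 4 0,
  .bwd [2,1,2,8,3,8,1] 82 5 1,
  .bwd [0,3,8,3,0,3,8] 58 3 0,
  .bwd [4,1,3,1,4,1,2,1] 188 3 0,
  .bwd [8,3,0,3,8,3,0] 58 1 0,
  .bwd [1,3,5,0,1,5,1] 77 4 0,
  .bwd [5,4,1,4,0,1,4,1,3,5,3,2,5] 367 9 0,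
  .bwd [7,8,3,8,7,5,0,5] 189 2 0,
  .bwd [5,3,1,4,1,0,4,1,4,5,3,5,2] 367 7 1,
  .bwd [0,8,1,3,0,1,8] 71 3 0,
  .bwd [8,5,0,5,3,5,8,5] 186 6 0,
  .bwd [0,1,2,3,0,2,1] 85 7 0,
  .bwd [1,3,1,3,1,3,1] 92 1 0,
  .bwd [1,8,3,8,2,1,2] 82 2 0,
  .bwd [1,3,1,4,3,2,4] 119 4 1,
  .bwd [0,4,0,3,4,0,4] 164 5 0,
  .bwd [7,3,7] 12 0 0,
  .bwd [5,2,3,5,3,1,4,1,0,4,1,4,5] 367 4 1,
  .bwd [5,0,5,3,4,2,4] 132 6 0,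
  .bwd [1,5,9,5,3,5,9,5,9,1,3,5,9,5] 358 5 0,
  .bwd [4,7,4,3,4,7,4] 131 4 0,
  .bwd [1,8,0,3,8,1,0] 71 0 1,
  .bwd [0,4,3,4,3,0] 46 5 1,
  .bwd [4,2,3,4,1,3,1] 119 3 0,
  .bwd [4,9,1,3,1,9,3,4] 262 6 0,
  .bwd [0,9,1,3,1,9,0] 90 1 0,
  .bwd [1,2,0,2,3,0,1] 97 2 0,
  .bwd [4,2,5,1,5,2,4] 60 4 0,
  .bwd [9,1,3,1,9,5,1,5] 241 4 1,
  .bwd [8,1,3,8,2,1,2] 106 2 0,
  .bwd [8,1,0,3,1,8,0] 71 4 1,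
  .bwd [5,0,1,5,1,3,1] 77 6 0,
  .bwd [6,0,3,0,5,1,6,5] 265 7 0,
  .bwd [8,4,1,2,1,4,8] 68 5 0,
  .bwd [8,3,8,0,2,0,2] 112 4 0,
  .bwd [2,0,2,1,3,0,1] 93 2 0,
  .bwd [5,1,5,3,4,3,4] 146 6 0,
  .bwd [0,3,1,5,3,1,3,5] 246 8 0,
  .bwd [1,3,5,2,1,2,0,5] 192 1 1,
  .bwd [2,5,3,5,4,1,4,0,1,4,1,3,5] 367 6 0,
  .bwd [2,4,9,5,1,5,9,4] 230 3 1,
  .bwd [0,2,1,0,2,3,1] 79 3 1,
  .bwd [1,0,3,1,2,0,2] 93 5 1,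
  .bwd [8,3,1,3,8,3,1] 103 1 0,
  .bwd [1,2,0,3,2,0,1] 100 2 0,
  .bwd [8,3,4,2,4,8] 49 2 1,
  .bwd [2,0,3,0,2,5,1,5] 215 6 1,
  .bwd [4,0,3,0,4,5,1,5] 177 4 1,
  .bwd [2,4,1,3,1,3,4] 148 5 0,
  .bwd [2,1,0,3,1,2,0] 85 4 1,
  .bwd [1,3,2,5,0,5,1,2] 233 4 0,
  .bwd [5,9,5,9,1,3,5,9,5,3,1,5,9,5] 358 10 0,
  .bwd [0,1,3,1,2,0,2] 97 7 0,
  .bwd [2,1,8,3,8,2,1] 95 5 1,
  .bwd [8,3,8,2,0,2,0] 75 0 1,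
  .bwd [1,0,2,1,3,2,0] 123 5 1,
  .bwd [0,1,8,3,8,0,1] 118 2 0,
  .bwd [0,2,3,1,2,0,1] 123 2 0,
  .bwd [1,3,5,3,0,3,1,5] 246 4 0,
  .bwd [4,3,4,3,5,1,5] 146 2 0,
  .bwd [5,1,5,4,0,3,0,4] 177 4 0,
  .bwd [4,0,4,3,0,4,0] 164 1 0,
  .bwd [5,3,1,3,5,1,3,0] 246 0 1,
  .bwd [4,8,4,3,4,8,4] 108 4 0,
  .bwd [0,3,5,1,4,2,4,5] 343 8 0,
  .bwd [8,2,1,2,3,8,1] 106 5 0,
  .bwd [0,1,3,1,0,5,0,5] 210 3 1,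
  .bwd [1,8,0,3,0,1,8] 80 3 0,
  .bwd [0,1,3,0,5,0,5,1] 193 8 0,
  .bwd [5,9,5,3,1,5,9,5,3,5,9,5,9,1] 358 1 0,
  .bwd [2,5,0,5,1,2,3,1] 233 6 0,
  .bwd [4,3,1,3,1,4,2] 148 2 1,
  .bwd [1,3,2,0,1,2,0] 79 4 0,
  .bwd [4,8,5,1,5,8,4] 124 4 0,
  .bwd [0,3,1,3,0,3,1] 99 3 0,
  .bwd [0,1,3,2,0,2,1] 93 7 0,
  .bwd [5,1,5,3,1,2,1,2] 260 4 0,
  .bwd [5,1,5,2,0,3,0,2] 215 2 0,
  .bwd [2,0,9,2,0,3,8,9] 257 6 1,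
  .bwd [1,3,8,3,1,3,8] 103 3 0,
  .bwd [1,2,3,1,2,5,0,5] 223 1 1,
  .bwd [4,2,4,3,5,0,5] 132 2 0,
  .bwd [8,0,2,0,2,3,8] 112 6 0,
  .bwd [2,1,2,8,3,1,8] 106 5 1,
  .bwd [8,6,3,5,6,0,8,5] 240 2 1,
  .bwd [1,4,3,2,4,3,1] 119 6 1,
  .bwd [5,0,5,3,5,0,5] 111 6 0,
  .bwd [5,0,2,1,2,5,3,1] 192 7 0,
  .bwd [8,1,3,1,5,8,1,5] 229 7 0,
  .bwd [6,8,3,5,0,8,6,5] 365 3 1,
  .bwd [5,7,5,3,8,7,8] 116 0 0,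
  .bwd [1,4,1,0,4,1,4,5,3,5,2,3,5] 367 9 1,
  .bwd [0,2,8,0,3,8,2] 140 7 0,
  .bwd [1,9,3,5,1,5,9,1] 241 1 0,
  .bwd [1,7,1,3,8,7,8] 62 5 0,
  .bwd [8,1,3,5,1,8,5,1] 245 7 0,
  .bwd [1,2,1,4,1,3,1,4] 188 5 1,
  .bwd [5,0,5,8,3,5,8,5] 186 6 1,
  .bwd [1,9,5,9,5,3,5,9,5,1,3,5,9,5] 358 13 1,
  .bwd [9,4,3,4,9,1,3,1] 294 3 0,
  .bwd [5,6,0,8,5,3,8,6] 240 5 1,
  .bwd [4,2,4,3,0,2,0,2] 244 4 0,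
  .bwd [1,2,8,3,8,1,2] 95 2 0,
  .bwd [0,1,8,3,1,0,8] 128 1 1,
  .bwd [8,7,8,3,7] 38 2 0,
  .bwd [8,7,8,3,0,7,0] 89 1 0,
  .bwd [0,1,8,3,1,8,0] 80 7 0,
  .bwd [9,0,9,1,3,8,0,1] 239 2 0,
  .bwd [0,9,0,8,3,9] 42 5 1,
  .bwd [8,3,8,2,5,0,5,2] 325 3 0,
  .bwd [0,4,0,3,0,4,0] 59 1 0,
  .bwd [2,3,4,0,2,0,2,4] 204 5 0,
  .bwd [9,8,3,0,2,9,0,2] 257 2 0,
  .bwd [0,6,3,5,6,1,5,0] 265 7 1,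
  .bwd [5,1,5,9,1,3,1,9] 241 4 0,
  .bwd [1,2,0,1,3,0,2] 123 5 0,
  .bwd [1,8,0,3,8,0,1] 157 2 0,
  .bwd [2,8,3,0,8,2,0] 140 0 1,
  .bwd [5,0,7,8,5,3,8,7] 227 6 1,
  .bwd [8,1,3,8,4,3,4,1] 167 1 0,
  .bwd [5,1,4,2,4,5,3,0] 343 1 0,
  .bwd [8,2,1,3,8,2,1] 162 4 1,
  .bwd [9,1,3,1,9,4,3,4] 262 4 1,
  .bwd [0,4,7,0,3,0,7,4,0] 376 1 0,
  .bwd [4,3,4,0,3,8,0,8] 249 5 0,
  .bwd [1,2,0,3,2,1,0] 85 0 1,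
  .bwd [8,2,1,2,3,1,8] 82 5 0,
  .bwd [4,1,4,3,4,1,4] 110 2 0,
  .bwd [0,5,0,5,1,3,0,1] 193 2 0,
  .bwd [8,3,8,1,4,2,4,1] 175 1 0,
  .bwd [9,3,8,2,0,9,0,2] 268 2 0,
  .bwd [8,3,0,2,0,2,8] 75 5 0,
  .bwd [1,2,1,2,3,4,3,4] 327 8 0,
  .bwd [1,3,4,3,2,4,1] 148 1 0,
  .bwd [0,7,4,0,3,0,4,7,0] 376 6 0,
  .bwd [4,2,4,2,1,3,2,1] 287 0 1,
  .bwd [2,0,1,3,1,2,0] 100 6 0,
  .bwd [0,2,4,3,4,3,2,0] 181 0 1,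
  .bwd [8,9,5,0,5,9,3,8] 277 5 0,
  .bwd [5,1,3,0,3,5,3,1] 246 4 1,
  .bwd [8,7,3,5,0,7,8,5] 227 3 1,
  .bwd [0,7,0,3,8,7,8] 89 5 0,
  .bwd [5,0,5,1,3,2,1,2] 282 7 0,
  .bwd [4,2,4,7,8,3,8,7] 184 6 1,
  .bwd [1,3,0,3,1,3,0] 99 1 0,
  .bwd [5,0,5,2,1,3,2,1] 223 7 0,
  .bwd [0,5,1,5,3,1,0,1] 172 2 0,
  .bwd [2,0,3,0,1,2,1] 127 4 0,
  .bwd [8,2,0,2,0,3,8] 75 2 1,
  .bwd [1,9,0,3,8,9,0,1] 254 2 0,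
  .bwd [5,9,5,3,1,9,5,9,5,3,5,9,5,1] 358 9 1,
  .bwd [0,1,9,8,3,0,9,1] 185 8 0,
  .bwd [1,4,8,1,4,8,0,1,4,1,8,4,0,8] 357 8 0,
  .bwd [1,0,3,2,0,2,1] 97 5 1,
  .bwd [5,0,5,7,8,3,8,7] 189 6 1,
  .bwd [5,0,5,1,0,3,0,1] 296 2 0,
  .bwd [4,3,4,8,1,3,1,8] 292 4 0,
  .bwd [8,7,4,2,4,3,7,8] 184 5 0,
  .bwd [0,3,5,4,2,4,1,5] 343 7 1,
  .bwd [5,1,5,3,5,1,5] 117 6 0,
  .bwd [1,2,8,3,1,2,8] 162 3 0,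
  .bwd [9,0,1,8,3,1,9,0] 256 7 0,
  .bwd [8,3,1,4,2,4,8,1] 284 1 0,
  .bwd [2,1,3,5,0,5,2,1] 223 4 0,
  .bwd [2,1,2,3,1,5,0,5] 282 1 1,
  .bwd [4,1,2,1,4,5,0,5] 333 2 0,
  .bwd [2,8,3,0,9,2,0,9] 271 1 1,
  .bwd [4,3,9,1,3,1,9,4] 262 2 1,
  .bwd [5,1,5,0,6,3,6,0] 178 1 0,
  .bwd [4,1,5,1,5,1,4] 65 2 0,
  .sub [] [] 3 0,
  .bwd [4,9,2,9,4,8,3,8] 169 5 1,
  .bwd [8,0,9,0,3,9] 42 3 0,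
  .bwd [8,9,1,0,3,1,9,0] 185 4 1,
  .bwd [8,2,1,3,8,2,1] 162 0 1,
  .bwd [0,3,1,0,2,1,2] 139 3 1,
  .bwd [0,3,0,2,5,1,5,2] 347 6 0,
  .bwd [8,4,2,4,3,1,8,1] 220 2 1,
  .bwd [2,1,2,3,4,2,4,1] 326 6 1,
  .bwd [6,0,3,0,4,3,4,6] 344 7 0,
  .bwd [9,8,3,2,0,2,9,0] 214 3 1,
  .bwd [5,1,5,0,3,1,0,1] 172 1 1,
  .bwd [8,1,3,1,8,4,3,4] 292 4 1,
  .bwd [8,3,9,2,0,2,9,0] 170 4 0,
  .bwd [5,4,2,4,1,5,3,0] 343 0 1,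
  .bwd [0,2,0,3,2,5,0,5] 321 8 0,
  .bwd [1,3,1,9,5,1,5,9] 310 5 1,
  .bwd [5,0,5,0,1,3,1,0] 210 5 0,
  .bwd [2,1,2,0,1,3,0] 139 4 0,
  .bwd [0,9,2,0,2,9,3,8] 170 4 1,
  .bwd [8,3,5,0,8,5] 47 2 1,
  .bwd [0,3,0,1,4,3,4,1] 182 6 0,
  .bwd [0,3,8,0,4,3,4,8] 171 8 0,
  .bwd [8,5,1,5,0,8,3,0] 255 0 1,
  .bwd [0,3,5,3,1,3,5,1] 246 7 1,
  .bwd [0,2,0,2,8,3,8] 75 7 0,
  .bwd [1,5,1,5,0,1,3,0] 187 4 0,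
  .bwd [5,1,5,3,2,1,2,1] 260 0 1,
  .bwd [8,0,4,8,1,4,1,0,8,4,1,8,4,1] 357 6 1,
  .bwd [1,4,1,2,1,3,4,1] 188 6 0,
  .bwd [5,0,8,5,3,8] 47 4 1,
  .bwd [6,4,0,3,0,3,4,6] 328 6 0]
noncomputable def RR4 : List Rule := [.bwd [4] 4 0 0,
  .bwd [1,4,6,4,1,4,6] 87 3 0,
  .bwd [0,4,0,4,0] 33 1 0,
  .bwd [9,4,9,4,9,4,9] 105 2 0,
  .bwd [5,4,5,4,5] 29 2 0,
  .bwd [5,1,5,4,3] 36 4 0,
  .bwd [3,4,2,1,2,1] 50 0 1,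
  .bwd [2,4,3,8,3,8] 49 6 0,
  .bwd [5,0,5,4,2] 32 4 0,
  .bwd [2,4,9,5,0,5,9] 147 3 0,
  .bwd [8,4,6,4,8,4,6] 120 2 0,
  .bwd [8,4,9,4,8,4,9] 163 4 0,
  .bwd [5,4,5,4,6,5,6] 113 0 0,
  .bwd [2,4,7,4,2,4,7] 63 3 0,
  .bwd [2,4,5,0,5] 32 2 0,
  .bwd [3,4,0,3,0,3] 46 4 0,
  .bwd [5,4,5,3,4,5,1] 76 1 0,
  .bwd [6,4,1,4,6,4,1] 87 1 0,
  .bwd [7,4,6,4,7,4,6] 137 2 0,
  .bwd [3,4,8,4,3,4,8] 108 3 0,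
  .bwd [2,4,8,4,2,4,8] 67 3 0,
  .bwd [3,4,5,1,5] 36 2 0,
  .bwd [1,2,1,4,8,3,8] 68 7 0,
  .bwd [6,4,8,4,6,4,8] 120 4 0,
  .bwd [2,4,9,4,2,4,9] 159 3 0,
  .bwd [6,4,6,4,6,4,6] 144 2 0,
  .bwd [8,3,8,4,1,2,1] 68 3 0,
  .bwd [3,4,7,4,3,4,7] 131 3 0,
  .bwd [3,8,3,8,4,2] 49 1 0,
  .bwd [0,8,4,9,0,4,0,9] 194 4 0,
  .bwd [7,4,7,4,7,4,7] 145 2 0,
  .bwd [3,4,3,0,3,0] 46 0 1,
  .bwd [8,4,8,4,8,4,8] 122 2 0,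
  .bwd [9,6,9,4,9,4,6,4,9] 362 4 0,
  .bwd [6,4,7,4,6,4,7] 137 4 0,
  .bwd [3,4,1,5,1,5,1] 65 1 0,
  .bwd [0,3,0,3,4,3] 46 6 0,
  .bwd [3,4,1,2,1,2] 50 4 0,
  .bwd [3,8,3,8,4,9,2,9] 169 2 0,
  .bwd [2,4,8,3,8,3] 49 5 1,
  .bwd [9,4,5,9,4,9,4,5,9] 366 3 0,
  .bwd [2,4,2,0,2,0] 53 0 1,
  .bwd [0,4,6,0,4,0,6] 156 4 0,
  .bwd [0,1,6,1,0,4,1,6,1] 354 9 0,
  .bwd [2,4,5,0,6,5,6] 125 3 1,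
  .bwd [3,4,1,4,3,4,1] 110 1 0,
  .bwd [1,2,1,2,4,9,3,9] 219 8 0,
  .bwd [2,4,0,2,0,2] 53 4 0,
  .bwd [5,4,5,4,8,5,8] 154 0 0,
  .bwd [2,4,1,5,0,5,1] 98 3 0,
  .bwd [3,2,4,9,5,1,5,9] 230 2 1,
  .bwd [2,3,4,9,5,1,5,9] 230 3 0,
  .bwd [1,2,1,3,4,1,3,1] 188 8 0,
  .bwd [7,4,7,9,7,4,7,4,9] 380 0 0,
  .bwd [5,1,4,5,4,5,3] 76 6 0,
  .bwd [9,4,8,4,9,4,8] 163 2 0,
  .bwd [9,1,9,4,9,4,0,1,4,9] 378 4 0,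
  .bwd [5,4,5,2,4,5,0] 121 1 0,
  .bwd [3,2,4,3,1,3,1] 119 0 1,
  .bwd [0,6,0,4,0,6,0] 126 1 0,
  .bwd [9,4,6,4,9,4,9,6,9] 362 8 0,
  .bwd [2,4,1,4,2,4,1] 153 1 0,
  .bwd [1,2,1,2,4,3] 50 6 0,
  .bwd [9,4,9,6,9,4,9,4,6] 362 2 0,
  .bwd [0,3,0,4,0,3,0] 59 3 0,
  .bwd [0,4,9,4,8,0,4,9] 309 3 0,
  .bwd [3,4,3,9,1,3,1,9] 262 1 1,
  .bwd [3,4,5,1,6,5,6] 152 3 1,
  .bwd [0,2,0,2,4,9,2,9] 203 8 0,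
  .bwd [1,4,1,4,1,4,1,4,1] 356 1 0,
  .bwd [8,3,8,3,4,2] 49 0 1,
  .bwd [9,0,4,0,9,4,0,8] 194 7 0,
  .bwd [6,4,9,4,9,6,9,4,9] 362 0 0,
  .bwd [8,0,4,9,0,4,0,9] 194 1 1,
  .bwd [2,3,4,3,1,3,1] 148 0 1,
  .bwd [5,9,4,9,4,5,9,4,9] 366 5 0,
  .bwd [0,9,4,0,8,4,9,0] 194 1 0,
  .bwd [1,3,1,3,4,2,3] 119 7 0,
  .bwd [5,0,4,5,4,5,2] 121 6 0,
  .bwd [7,9,7,4,7,4,9,4,7] 380 2 0,
  .bwd [0,2,0,4,0,2,0] 86 3 0,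
  .bwd [3,0,3,0,4,3] 46 2 1,
  .bwd [3,4,0,5,1,5,0] 141 1 0,
  .bwd [3,5,4,5,4,1,5] 76 1 1,
  .bwd [7,4,7,4,7,4,7] 145 0 0,
  .bwd [8,3,8,3,4,9,2,9] 169 1 1,
  .bwd [2,3,4,1,3,1,3] 119 4 0,
  .bwd [3,4,9,1,3,1,3,9] 294 5 0,
  .bwd [1,6,1,4,0,1,6,1,0] 354 5 0,
  .bwd [1,5,4,3,5,4,5] 76 6 1,
  .bwd [5,9,6,9,5,0,6,0,4,6] 353 3 0,
  .bwd [0,1,4,1,3,5,3,2,5,3,5,4,1] 367 13 0,
  .bwd [1,9,1,0,4,2,9,8,4,0,1,9,1,4,8] 350 6 0,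
  .bwd [1,3,1,4,3,1,2,1] 188 0 1,
  .bwd [9,4,9,1,9,4,9,4,0,1] 378 2 0,
  .bwd [3,4,3,5,1,5,3] 146 3 0,
  .bwd [1,2,1,4,1,0,3,0,1] 381 2 0,
  .bwd [0,4,0,4,0] 33 5 0,
  .bwd [6,8,6,8,4,6,8,6,8] 363 5 0,
  .bwd [6,0,4,0,6,4,0] 156 6 0,
  .bwd [5,4,5,4,5] 29 0 0,
  .bwd [9,5,4,9,4,9,5,4,9] 366 1 1,
  .bwd [6,4,7,4,6,4,7] 137 0 0,
  .bwd [3,4,8,5,1,5,8] 124 3 0,
  .bwd [8,4,1,9,1,0,4,2,9,8,4,0,1,9,1] 350 4 0,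
  .bwd [3,4,2,5,1,5,2] 60 3 0,
  .bwd [2,4,1,2,0,2,0,1] 173 2 0,
  .bwd [8,4,5,9,5,4,8,4,5,4,9,4,5] 355 2 0,
  .bwd [6,0,6,1,6,0,6,1,4,6] 351 5 0,
  .bwd [5,9,5,4,8,4,5,4,9,4,5,4,8] 355 4 0,
  .bwd [2,4,8,5,0,5,8] 114 3 0,
  .bwd [0,2,0,2,4,2] 53 6 0,
  .bwd [3,4,9,4,2,3,4,9] 312 4 0,
  .bwd [0,5,4,2,5,4,5] 121 6 1,
  .bwd [1,2,1,2,4,6,3,6] 305 8 0,
  .bwd [2,0,2,0,4,9,2,9] 203 4 1,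
  .bwd [0,6,0,4,0,6,0] 126 5 0,
  .bwd [2,4,2,5,0,5,2] 91 3 0,
  .bwd [2,1,2,1,4,9,3,9] 219 4 1,
  .bwd [0,4,3,0,4,0,3] 164 2 0,
  .bwd [6,4,6,0,6,1,6,0,6,1] 351 3 0,
  .bwd [2,5,4,5,4,0,5] 121 1 1,
  .bwd [7,4,3,4,7,4,3] 131 1 0,
  .bwd [3,8,3,8,4,6,2,6] 195 2 0,
  .bwd [0,8,4,1,4,9,4,9,8,1,4,0,8] 373 1 1,
  .bwd [6,4,6,4,6,4,6] 144 4 0,
  .bwd [9,1,3,1,9,3,4,3] 262 7 0,
  .bwd [5,1,5,3,4,0,3,0] 177 0 1,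
  .bwd [1,4,6,4,1,4,6] 87 7 0,
  .bwd [2,4,0,5,0,5,0] 134 1 0,
  .bwd [6,4,0,6,0,5,9,6,9,5] 353 7 1,
  .bwd [8,0,4,9,4,0,4,9] 309 7 0,
  .bwd [1,3,1,4,1,2,1,3] 188 4 0,
  .bwd [7,4,9,4,7,4,7,9,7] 380 6 0,
  .bwd [7,4,2,4,7,4,2] 63 1 0,
  .bwd [0,3,0,2,4,1,3,1] 191 6 0,
  .bwd [0,4,8,6,8,0,4,8,0,6,8] 375 6 0,
  .bwd [9,4,9,5,4,9,4,9,5] 366 4 1,
  .bwd [9,4,8,0,4,9,4,0] 309 5 0,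
  .bwd [6,4,8,4,6,4,8] 120 0 0,
  .bwd [9,4,0,1,4,9,4,9,1,9] 378 8 0,
  .bwd [9,0,2,0,9,2,4,2] 299 7 0,
  .bwd [2,1,2,1,4,6,3,6] 305 4 1,
  .bwd [5,9,8,2,5,2,9,5,2,4,9] 349 3 0,
  .bwd [2,0,4,0,2,4,0] 151 4 0,
  .bwd [8,4,3,4,8,4,3] 108 1 0,
  .bwd [3,4,1,3,8,1,3,8] 167 6 0,
  .bwd [0,3,0,4,7,0,3,0,7] 376 9 0,
  .bwd [1,8,4,0,8,3,1,4,8,1,4,8,0,1] 357 2 0,
  .bwd [9,4,5,9,8,2,5,2,9,5,2] 349 1 0,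
  .bwd [8,6,8,6,4,8,6,8,6] 363 4 1,
  .bwd [0,2,0,2,4,8,2,8] 235 8 0,
  .bwd [0,8,6,8,4,0,4,8,6,0,8] 375 10 1,
  .bwd [2,4,9,0,2,0,2,9] 168 5 0,
  .bwd [0,3,0,4,5,1,5,3] 177 5 1,
  .bwd [6,5,6,0,5,4,2] 125 4 0,
  .bwd [2,4,8,3,8,6,3,6] 270 7 1,
  .bwd [5,0,5,3,4,1,2,1] 333 7 0,
  .bwd [5,1,5,2,4,8,3,8] 258 7 0,
  .bwd [0,4,6,4,0,4,6] 160 3 0,
  .bwd [9,5,1,5,9,4,2,3] 230 6 0,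
  .bwd [6,4,6,4,6,4,6] 144 0 0,
  .bwd [2,4,2,9,0,2,0,9] 299 1 1,
  .bwd [3,0,3,0,4,9,3,9] 276 4 1,
  .bwd [2,3,4,9,4,3,4,9] 312 8 0,
  .bwd [0,3,0,3,4,7,3,7] 247 8 0,
  .bwd [6,5,6,4,5,4,5] 113 4 0,
  .bwd [9,0,4,0,9,4,8,0] 194 4 1,
  .bwd [6,4,5,9,6,9,5,0,6,0] 353 1 0,
  .bwd [9,4,2,5,9,2,5,2,8,9,5] 349 8 1,
  .bwd [9,4,7,4,7,9,7,4,7] 380 8 0,
  .bwd [5,3,4,5,1,4,5] 76 3 0,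
  .bwd [8,0,4,8,0,4,1,8,9,4,9,4,1] 373 9 0,
  .bwd [1,2,1,4,5,0,5,3] 333 3 0,
  .bwd [0,3,0,3,4,9,3,9] 276 8 0,
  .bwd [0,8,3,1,4,8,1,4,8,0,1,4,1,8] 357 5 0,
  .bwd [0,3,0,3,4,6,3,6] 328 8 0,
  .bwd [0,1,4,9,4,9,1,9,4,9] 378 10 0,
  .bwd [3,0,3,0,4,6,3,6] 328 4 1,
  .bwd [1,4,9,4,9,8,1,4,0,8,4,0,8] 373 4 1,
  .bwd [2,5,1,5,2,4,3] 60 5 0,
  .bwd [3,1,2,1,4,1,3,1] 188 4 1,
  .bwd [0,4,9,4,0,8,4,9] 309 3 1,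
  .bwd [3,2,4,1,3,1,3] 148 4 0,
  .bwd [5,4,8,4,5,9,5,4,8,4,5,4,9] 355 0 0,
  .bwd [1,4,0,1,4,1,3,5,3,2,5,3,5] 367 11 0,
  .bwd [0,3,0,4,3,5,1,5] 177 8 0,
  .bwd [6,4,1,6,0,6,1,6,0,6] 351 5 1,
  .bwd [1,4,1,4,1,4,1,4,1] 356 9 0,
  .bwd [0,2,0,2,4,6,2,6] 278 8 0,
  .bwd [2,4,3,5,0,5,3] 132 3 0,
  .bwd [2,1,2,1,4,3] 50 2 1,
  .bwd [0,2,0,4,5,0,5,2] 174 5 1,
  .bwd [5,2,4,5,0,4,5] 121 3 0,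
  .bwd [8,1,4,8,0,1,4,1,8,4,0,8,3,1] 357 10 0,
  .bwd [1,8,4,1,3,8,0,4,8,1,4,1,0,8] 357 1 1,
  .bwd [3,0,9,3,9,0,4,3] 213 6 1,
  .bwd [1,3,1,3,4,3,2] 148 7 0,
  .bwd [2,0,2,0,4,7,2,7] 320 4 1,
  .bwd [9,5,0,5,9,4,2] 147 5 0,
  .bwd [3,0,4,0,3,4,0] 164 4 0,
  .bwd [3,4,8,3,1,8,3,1] 167 0 1,
  .bwd [1,4,3,4,1,4,3] 110 3 0,
  .bwd [8,3,8,4,2,5,1,5] 258 1 1,
  .bwd [3,8,3,8,4,8,2,8] 290 2 0,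
  .bwd [2,0,2,0,4,6,2,6] 278 4 1,
  .bwd [3,4,0,1,2,1,2,0] 283 6 0,
  .bwd [2,4,1,3,8,3,8,1] 175 6 0,
  .bwd [8,4,8,4,8,4,8] 122 0 0,
  .bwd [2,4,0,1,2,0,2,1] 202 6 0,
  .bwd [5,0,5,2,4,0,2,0] 174 0 1,
  .bwd [1,6,0,6,1,6,0,6,4,6] 351 7 1,
  .bwd [3,5,0,5,4,1,2,1] 333 5 1,
  .bwd [1,0,4,1,4,5,3,5,2,3,5,3,1] 367 11 1,
  .bwd [8,0,1,4,1,8,4,0,8,3,1,4,8,1] 357 13 0,
  .bwd [1,3,5,3,2,5,3,5,4,1,4,0,1] 367 2 0,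
  .bwd [9,4,5,4,8,4,5,9,5,4,8,4,5] 355 12 0,
  .bwd [0,5,1,5,0,4,3] 141 3 0,
  .bwd [3,5,1,5,3,4,3] 146 5 0,
  .bwd [9,4,9,1,9,0,4,9,4,1,8] 370 6 0,
  .bwd [0,6,0,5,9,6,9,5,4,6] 353 9 1,
  .bwd [0,4,2,0,4,0,2] 151 2 0,
  .bwd [8,4,2,4,8,4,2] 67 1 0,
  .bwd [0,2,4,0,4,2,0] 151 7 0,
  .bwd [6,4,1,4,6,4,1] 87 5 0,
  .bwd [0,1,9,1,4,8,4,1,9,1,0,4,2,9,8] 350 15 0,
  .bwd [1,2,1,4,3,5,0,5] 333 1 1,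
  .bwd [0,2,0,4,2,5,0,5] 174 8 0,
  .bwd [3,4,0,6,3,6,0,3] 201 2 0,
  .bwd [1,4,5,3,5,2,3,5,3,1,4,1,0] 367 0 1,
  .bwd [0,8,4,0,8,4,1,4,9,4,9,8,1] 373 12 1,
  .bwd [3,4,1,2,1,9,2,9] 314 3 1,
  .bwd [1,3,8,0,4,8,1,4,1,0,8,4,1,8] 357 4 1,
  .bwd [1,2,1,2,4,2,3,2] 180 8 0,
  .bwd [3,5,1,5,4,0,3,0] 177 3 0,
  .bwd [3,4,9,1,3,1,9,3] 262 5 0,
  .bwd [3,2,4,9,4,3,4,9] 312 6 1,
  .bwd [2,0,2,0,4,8,2,8] 235 4 1,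
  .bwd [1,0,8,4,1,8,4,1,3,8,0,4,8,1] 357 12 1,
  .bwd [2,4,3,1,0,3,0,1] 291 3 1,
  .bwd [9,6,9,6,2,4,1,4,2,6,9,6,9,4,1] 379 9 0,
  .bwd [3,4,9,3,1,3,1,9] 294 1 1,
  .bwd [2,5,0,5,4,0,2,0] 174 3 0,
  .bwd [6,5,6,1,5,4,3] 152 4 0,
  .bwd [3,4,1,3,0,3,0,1] 182 2 0,
  .bwd [9,4,0,9,1,9,4,9,4,8,1] 370 8 1,
  .bwd [2,4,7,4,2,4,7] 63 7 0,
  .bwd [9,5,4,9,4,9,5,4,9] 366 6 1,
  .bwd [2,0,2,0,4,2] 53 2 1,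
  .bwd [8,0,6,8,4,0,4,8,6,8,0] 375 1 0,
  .bwd [5,3,5,2,3,5,3,1,4,1,0,4,1] 367 2 1,
  .bwd [0,2,0,2,4,3,2,3] 204 8 0,
  .bwd [2,4,7,0,2,0,2,7] 176 5 0,
  .bwd [2,4,1,2,0,2,1,0] 202 0 1,
  .bwd [3,4,9,5,0,1,5,9] 330 4 0,
  .bwd [3,4,3,0,9,3,9,0] 213 4 1,
  .bwd [9,4,2,4,9,4,2] 159 1 0,
  .bwd [2,4,7,2,0,2,0,7] 176 1 1,
  .bwd [1,2,1,2,4,7,3,7] 340 8 0,
  .bwd [2,4,2,3,1,3,2,1] 322 0 1,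
  .bwd [2,4,0,3,8,3,0,8] 308 1 1,
  .bwd [3,4,8,2,1,2,1,8] 218 1 1,
  .bwd [9,5,1,5,9,4,3,2] 230 5 1,
  .bwd [1,8,4,9,4,9,1,9,0,4,9] 370 3 0,
  .bwd [2,5,1,5,4,8,3,8] 258 5 1,
  .bwd [1,5,1,5,1,4,3] 65 3 0,
  .bwd [6,4,0,4,6,4,0] 160 1 0,
  .bwd [1,5,0,5,1,4,2] 98 5 0,
  .bwd [2,9,8,4,1,9,0,1,4,8,4,1,0,9,1] 377 9 0,
  .bwd [3,4,5,2,1,2,5,1] 250 4 0,
  .bwd [3,4,7,4,3,4,7] 131 7 0,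
  .bwd [3,1,3,1,4,3,2] 119 3 1,
  .bwd [2,1,2,1,4,2,3,2] 180 4 1,
  .bwd [3,4,0,1,3,0,3,1] 234 6 0,
  .bwd [3,9,1,3,1,9,4,3] 262 3 1,
  .bwd [3,1,3,1,4,2,3] 148 3 1,
  .bwd [9,4,9,1,9,4,9,4,1,0] 378 0 1,
  .bwd [6,4,6,4,6,4,6] 144 6 0,
  .bwd [3,4,8,4,3,4,8] 108 7 0,
  .bwd [7,0,3,0,7,4,0,3,0] 376 3 0,
  .bwd [7,4,7,4,7,4,7] 145 4 0,
  .bwd [7,4,6,4,7,4,6] 137 6 0,
  .bwd [3,4,3,1,8,3,8,1] 304 4 1,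
  .bwd [1,0,3,0,1,4,1,2,1] 381 6 0,
  .bwd [5,4,9,4,5,4,8,4,5,9,5,4,8] 355 10 0,
  .bwd [0,6,4,0,4,6,0] 156 1 0,
  .bwd [2,4,9,2,0,2,0,9] 168 1 1,
  .bwd [5,4,5,4,5] 29 4 0,
  .bwd [1,0,9,1,4,2,9,8,4,1,9,0,1,4,8] 377 4 0,
  .bwd [1,3,1,4,2,0,3,0] 191 2 1,
  .bwd [2,0,3,0,4,1,3,1] 191 6 1,
  .bwd [2,4,9,2,6,7,9,4,2,4,2,7,6] 383 2 1,
  .bwd [2,4,3,1,0,3,1,0] 208 0 1,
  .bwd [3,4,0,3,0,6,3,6] 344 3 1,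
  .bwd [2,4,1,3,8,3,1,8] 284 1 1,
  .bwd [8,3,8,3,4,8,2,8] 290 1 1,
  .bwd [0,3,0,4,0,3,0] 59 7 0,
  .bwd [2,4,2,0,6,2,6,0] 324 4 1,
  .bwd [3,2,0,2,0,3,4,2] 244 3 1,
  .bwd [2,4,9,3,8,3,8,9] 288 8 0,
  .bwd [3,0,6,3,6,0,4,3] 201 6 1,
  .bwd [3,5,0,5,3,4,2] 132 5 0,
  .bwd [3,0,3,0,4,7,3,7] 247 4 1,
  .bwd [3,8,3,8,4,7,2,7] 311 2 0,
  .bwd [3,4,0,8,3,0,3,8] 171 2 1,
  .bwd [2,4,0,2,0,6,2,6] 339 3 1,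
  .bwd [9,4,9,4,9,4,9] 105 0 0,
  .bwd [2,4,5,3,0,3,5,1] 343 4 0,
  .bwd [3,4,1,0,2,1,2,0] 298 4 1,
  .bwd [8,1,2,1,2,8,4,3] 218 7 0,
  .bwd [2,4,1,8,3,8,3,1] 175 0 1,
  .bwd [3,4,3,2,0,3,0,2] 181 3 1,
  .bwd [3,4,0,2,1,2,0,1] 298 2 0,
  .bwd [9,4,2,3,4,9,4,3] 312 6 0,
  .bwd [2,4,1,3,0,1,3,0] 332 4 0,
  .bwd [6,3,6,4,2,1,2,1] 305 0 1,
  .bwd [2,3,0,3,0,2,4,3] 295 4 0,
  .bwd [5,9,4,9,4,5,9,4,9] 366 0 0,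
  .bwd [8,5,1,5,8,4,3] 124 5 0,
  .bwd [0,6,3,6,0,3,4,3] 201 4 0,
  .bwd [9,4,1,8,4,9,4,9,1,9,0] 370 1 0,
  .bwd [8,9,2,4,0,1,9,1,4,8,4,1,9,1,0] 350 0 1,
  .bwd [0,2,0,2,4,7,2,7] 320 8 0,
  .bwd [3,8,1,3,1,8,4,3] 292 3 1,
  .bwd [5,2,1,2,5,1,4,3] 250 6 0,
  .bwd [1,2,0,1,0,2,4,3] 243 3 1,
  .bwd [2,4,0,2,1,0,1,2] 281 2 1,
  .bwd [3,4,2,0,3,0,2,3] 181 3 0,
  .bwd [1,4,1,4,1,4,1,4,1] 356 5 0,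
  .bwd [0,1,2,1,2,0,4,3] 283 8 0,
  .bwd [3,0,2,0,3,2,4,2] 261 7 0,
  .bwd [2,0,3,0,3,2,4,3] 295 6 1,
  .bwd [9,5,0,1,5,9,4,3] 330 6 0,
  .bwd [3,2,3,4,0,2,0,2] 204 4 0,
  .bwd [2,5,9,2,5,2,8,9,5,4,9] 349 10 1,
  .bwd [2,4,1,0,2,0,2,1] 173 4 1,
  .bwd [2,4,6,5,6,0,5] 125 2 0,
  .bwd [9,4,0,4,9,4,8,0] 309 1 0,
  .bwd [9,4,9,4,9,4,9] 105 4 0,
  .sub [] [] 4 0,
  .bwd [3,4,0,9,3,9,0,3] 213 2 0,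
  .bwd [2,0,9,2,9,0,4,2] 300 6 1,
  .bwd [0,8,3,0,3,8,4,3] 171 4 1,
  .bwd [2,1,0,1,2,0,4,2] 281 6 0,
  .bwd [2,3,8,3,8,2,4,2] 316 8 0,
  .bwd [0,3,4,0,4,3,0] 164 7 0,
  .bwd [3,4,3,8,1,3,1,8] 292 1 1,
  .bwd [3,4,1,2,1,6,2,6] 329 3 1,
  .bwd [1,4,9,6,9,6,2,4,1,4,2,6,9,6,9] 379 7 0,
  .bwd [7,4,3,4,7,4,3] 131 5 0,
  .bwd [8,4,8,4,8,4,8] 122 4 0,
  .bwd [7,4,2,4,7,4,2] 63 5 0,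
  .bwd [7,1,2,1,2,7,4,3] 259 7 0,
  .bwd [1,4,3,4,1,4,3] 110 7 0,
  .bwd [8,3,8,3,4,7,2,7] 311 1 1,
  .bwd [8,2,8,4,2,0,2,0] 235 0 1,
  .bwd [9,4,8,4,9,4,8] 163 6 0,
  .bwd [3,4,2,1,6,2,6,1] 285 4 1,
  .bwd [2,5,0,5,2,4,2] 91 5 0,
  .bwd [1,0,4,9,4,9,1,9,4,9] 378 8 1,
  .bwd [1,3,1,4,0,3,0,2] 191 2 0,
  .bwd [8,6,8,6,4,8,6,8,6] 363 9 1,
  .bwd [8,3,8,3,4,6,2,6] 195 1 1,
  .bwd [1,4,1,4,1,4,1,4,1] 356 3 0,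
  .bwd [9,4,9,5,4,9,4,9,5] 366 9 1,
  .bwd [3,4,0,3,1,0,1,3] 209 2 1,
  .bwd [8,4,5,4,9,4,5,4,8,4,5,9,5] 355 8 0,
  .bwd [3,4,8,3,0,3,8,0] 171 4 0,
  .bwd [6,8,6,8,4,6,8,6,8] 363 0 0,
  .bwd [2,4,8,1,3,8,3,1] 284 5 0,
  .bwd [3,4,6,5,6,1,5] 152 2 0,
  .bwd [5,4,8,5,8,4,5] 154 2 0]
noncomputable def RR5 : List Rule := [.bwd [5] 5 0 0,
  .bwd [6,5,6] 21 2 0,
  .bwd [8,5,8] 17 2 0,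
  .bwd [4,5,4,5,4] 29 1 0,
  .bwd [4,3,4,5,1] 36 1 0,
  .bwd [8,5,9,8,9] 34 0 0,
  .bwd [4,2,4,5,0] 32 1 0,
  .bwd [2,5,2,5,2] 37 1 0,
  .bwd [1,5,0,3,0,3] 41 4 0,
  .bwd [9,5,9,5,9,5,9] 55 2 0,
  .bwd [7,5,7] 19 2 0,
  .bwd [0,5,4,2,4] 32 5 0,
  .bwd [1,5,4,3,4] 36 5 0,
  .bwd [0,3,0,3,5,1] 41 6 0,
  .bwd [0,5,8,3,8,3] 45 5 1,
  .bwd [1,2,1,2,5,1] 52 6 0,
  .bwd [1,5,3,0,3,0] 41 0 1,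
  .bwd [4,5,4,1,5,4,3] 76 3 1,
  .bwd [3,8,3,5,9,0,9] 73 2 0,
  .bwd [8,0,5,3,8,3] 47 5 0,
  .bwd [3,8,3,8,5,0] 45 1 0,
  .bwd [0,5,9,5,0,5,9] 88 3 0,
  .bwd [0,5,0,2,0,2] 48 4 0,
  .bwd [1,0,5,1,3,1,3] 70 5 1,
  .bwd [1,5,1,2,1,2] 52 4 0,
  .bwd [0,2,0,2,5,0] 48 6 0,
  .bwd [1,5,9,4,2,3,4,9] 230 8 0,
  .bwd [7,5,3,8,7,8,3] 116 1 0,
  .bwd [0,5,9,4,2,4,9] 147 7 0,
  .bwd [9,8,9,5,1,8,1] 56 1 0,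
  .bwd [3,0,3,0,5,1] 41 2 1,
  .bwd [9,0,1,9,1,5,1,9,0,1,9] 364 10 0,
  .bwd [1,5,2,1,2,1] 52 0 1,
  .bwd [0,6,0,5,7,9,7,6,9] 359 7 0,
  .bwd [7,5,7] 19 0 0,
  .bwd [0,5,3,5,0,5,3] 111 3 0,
  .bwd [8,5,9,0,9,0] 54 1 0,
  .bwd [6,7,6,0,6,7,5,9,6,9] 348 7 0,
  .bwd [6,5,6] 21 0 0,
  .bwd [8,5,1,9,8,9,1] 69 1 0,
  .bwd [8,3,8,3,5,0] 45 0 1,
  .bwd [6,0,8,5,3,8,6,3] 240 6 1,
  .bwd [1,4,5,4,5,3,4] 76 7 0,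
  .bwd [3,4,5,1,4,5,4] 76 4 0,
  .bwd [3,8,3,5,8,0] 47 1 0,
  .bwd [0,5,3,8,3,8] 45 6 0,
  .bwd [4,3,5,4,5,4,1] 76 0 1,
  .bwd [0,4,5,4,5,2,4] 121 7 0,
  .bwd [2,1,2,1,5,1] 52 2 1,
  .bwd [8,5,3,8,5,0,5,3] 186 3 0,
  .bwd [3,1,3,1,5,0,1] 70 2 0,
  .bwd [0,1,5,9,5,1,5,9] 306 8 0,
  .bwd [4,2,5,4,5,4,0] 121 0 1,
  .bwd [2,4,9,4,5,9,8,2,5,2,9] 349 11 0,
  .bwd [1,5,1,4,3,4,1] 65 5 0,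
  .bwd [9,4,9,4,5,9,4,9,4] 366 1 0,
  .bwd [3,1,5,9,5,3,5,9,5,9,1,3,5,9] 358 4 0,
  .bwd [2,0,2,0,5,0] 48 2 1,
  .bwd [4,9,4,9,5,4,9,4,9] 366 3 1,
  .bwd [2,3,5,3,1,4,1,0,4,1,4,5,3] 367 5 1,
  .bwd [4,5,3,4,5,1,4] 76 2 0,
  .bwd [9,5,0,5,9,5,0] 88 1 0,
  .bwd [4,5,4,5,4] 29 5 0,
  .bwd [1,5,0,5,1,5,0] 72 1 0,
  .bwd [4,5,2,4,5,0,4] 121 2 0,
  .bwd [4,8,4,5,4,9,4,5,4,8,4,5,9] 355 7 0,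
  .bwd [4,2,4,5,8,9,0,9] 345 2 0,
  .bwd [0,5,2,0,2,0] 48 0 1,
  .bwd [1,5,3,5,1,5,3] 117 3 0,
  .bwd [9,6,9,5,0,6,0,4,6,4] 353 4 0,
  .bwd [0,1,5,3,1,3,1] 70 7 0,
  .bwd [8,5,8] 17 0 0,
  .bwd [2,5,1,2,5,2,1] 161 5 0,
  .bwd [4,5,4,0,5,4,2] 121 3 1,
  .bwd [0,1,5,1,3,1,3] 77 7 0,
  .bwd [1,5,3,9,1,3,1,9] 241 1 1,
  .bwd [3,1,4,1,0,4,1,4,5,3,5,2,3] 367 8 1,
  .bwd [9,5,3,1,5,9,5,3,5,9,5,9,1,3] 358 2 0,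
  .bwd [9,0,9,5,3,8,3] 73 6 0,
  .bwd [1,9,0,1,9,5,9,0,1,9,1] 364 4 0,
  .bwd [0,1,5,9,4,3,4,9] 330 8 0,
  .bwd [0,6,0,4,6,4,5,9,6,9] 353 8 0,
  .bwd [0,5,9,0,2,0,2,9] 190 5 0,
  .bwd [1,5,2,4,3,4,2] 60 7 0,
  .bwd [4,1,5,4,3,5,4] 76 5 1,
  .bwd [1,5,1,2,1,9,2,9] 242 3 1,
  .bwd [0,5,0,4,2,4,0] 134 5 0,
  .bwd [0,5,9,3,8,3,8,9] 277 8 0,
  .bwd [9,5,4,8,4,5,4,9,4,5,4,8,4] 355 5 0,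
  .bwd [3,1,3,5,3,2,0,1,2,3] 371 4 0,
  .bwd [3,5,4,1,4,0,1,4,1,3,5,3,2] 367 8 0,
  .bwd [2,1,2,0,5,3,1,3] 192 4 1,
  .bwd [2,5,0,2,5,2,0] 143 5 0,
  .bwd [4,6,4,0,6,0,5,9,6,9] 353 6 1,
  .bwd [3,2,5,3,5,4,1,4,0,1,4,1,3] 367 5 0,
  .bwd [0,8,5,3,8,3] 47 5 1,
  .bwd [3,5,9,5,9,1,3,5,9,5,3,1,5,9] 358 9 0,
  .bwd [9,5,1,5,9,5,0,1] 306 2 0,
  .bwd [0,5,2,4,2,4,2] 91 7 0,
  .bwd [6,0,5,7,6,9,7,6,7,9] 361 9 0,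
  .bwd [4,5,4,5,4] 29 3 0,
  .bwd [2,1,2,5,2,1,2] 96 2 0,
  .bwd [9,8,2,5,2,9,5,2,4,9,4] 349 4 0,
  .bwd [3,1,3,5,1,3,0,3] 246 1 1,
  .bwd [2,1,2,5,4,3,4,1] 250 6 1,
  .bwd [9,1,0,9,1,5,1,9,1,0,9] 364 1 1,
  .bwd [4,8,4,5,9,5,4,8,4,5,4,9,4] 355 1 0,
  .bwd [2,4,3,4,2,5,1] 60 1 0,
  .bwd [3,5,2,3,5,3,1,4,1,0,4,1,4] 367 3 1,
  .bwd [4,9,4,2,5,9,2,5,2,8,9] 349 7 1,
  .bwd [1,5,9,5,0,1,5,9] 306 4 0,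
  .bwd [4,6,5,6,4,5,4] 113 3 0,
  .bwd [2,4,5,0,4,5,4] 121 4 0,
  .bwd [1,5,9,1,3,1,3,9] 310 5 0,
  .bwd [4,0,5,4,2,5,4] 121 5 1,
  .bwd [3,7,8,3,5,8,7,0] 227 1 0,
  .bwd [9,4,2,3,4,9,5,1] 230 1 0,
  .bwd [1,5,9,4,3,2,4,9] 230 7 1,
  .bwd [3,0,3,1,5,3,1,3] 246 7 0,
  .bwd [4,2,4,6,5,6,0] 125 1 0,
  .bwd [8,0,6,5,3,6,8,3] 240 7 0,
  .bwd [0,7,8,5,3,8,7,3] 227 7 1,
  .bwd [1,4,2,4,1,5,0] 98 1 0,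
  .bwd [1,3,1,3,5,1,0] 70 0 1,
  .bwd [2,0,9,2,9,0,5,0] 200 6 1,
  .bwd [0,5,1,4,2,4,1] 98 7 0,
  .bwd [1,4,3,4,1,5,1] 65 7 0,
  .bwd [1,3,1,3,5,0,1] 77 2 0,
  .bwd [0,5,9,2,0,2,0,9] 190 1 1,
  .bwd [7,6,0,6,7,6,5,9,6,9] 348 7 1,
  .bwd [2,0,2,5,2,0,2] 78 2 0,
  .bwd [8,7,0,5,3,7,8,3] 227 6 0,
  .bwd [1,5,3,4,3,4,3] 146 7 0,
  .bwd [6,1,5,0,3,0,6,3] 265 2 1,
  .bwd [9,4,9,4,5,9,4,9,4] 366 6 0,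
  .bwd [2,4,2,4,2,5,0] 91 1 0,
  .bwd [1,5,0,4,3,4,0] 141 5 0,
  .bwd [1,0,5,9,5,1,5,9] 306 6 1,
  .bwd [3,6,8,3,5,8,0,6] 240 2 0,
  .bwd [9,6,7,9,7,5,0,6,0] 359 2 1,
  .bwd [4,3,4,6,5,6,1] 152 1 0,
  .bwd [3,1,3,5,3,0,3,1] 246 3 0,
  .bwd [0,5,3,4,2,4,3] 132 7 0,
  .bwd [1,6,5,3,6,0,3,0] 265 3 0,
  .bwd [3,8,3,5,0,8] 47 1 1,
  .bwd [8,5,3,5,0,5,8,3] 186 3 1,
  .bwd [3,2,0,1,2,3,5,3,1,3] 371 8 0,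
  .bwd [9,8,9,5,8] 34 2 0,
  .bwd [1,3,0,3,5,3,1,3] 246 5 1,
  .bwd [3,5,1,5,3,5,1] 117 1 0,
  .bwd [9,6,9,5,7,6,0,6,7,6] 348 3 1,
  .bwd [0,2,1,2,5,3,1,3] 192 8 0,
  .bwd [0,6,5,6,4,2,4] 125 6 1,
  .bwd [4,8,5,8,4,5,4] 154 3 0,
  .bwd [2,5,2,5,2] 37 5 0,
  .bwd [9,4,2,4,9,5,0] 147 1 0,
  .bwd [3,5,9,5,1,3,5,9,5,3,1,9,5,9] 358 3 1,
  .bwd [0,5,3,7,8,3,8,7] 189 8 0,
  .bwd [9,6,9,5,4,6,4,0,6,0] 353 2 1,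
  .bwd [0,5,2,9,0,2,0,9] 337 1 1,
  .bwd [1,5,8,4,3,4,8] 124 7 0,
  .bwd [9,5,1,5,9,5,1,0] 306 0 1,
  .bwd [2,1,2,5,1,4,3,4] 250 7 0,
  .bwd [0,5,1,5,0,5,1] 72 3 0,
  .bwd [9,5,3,5,9,5,1,3,5,9,5,3,1,9] 358 1 1,
  .bwd [9,5,9,5,9,5,9] 55 0 0,
  .bwd [4,9,4,9,5,4,9,4,9] 366 8 1,
  .bwd [3,0,3,5,1,4,2,4] 343 7 0,
  .bwd [3,8,1,3,1,5,8,1] 229 6 0,
  .bwd [4,1,4,0,1,4,1,3,5,3,2,5,3] 367 10 0,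
  .bwd [2,1,9,2,9,1,5,1] 266 6 1,
  .bwd [6,1,5,1,2,1,6,2] 251 2 1,
  .bwd [0,6,5,2,6,0,2,0] 267 3 0,
  .bwd [1,0,5,9,4,3,4,9] 330 6 1,
  .bwd [1,3,5,9,5,3,1,9,5,9,5,3,5,9] 358 7 1,
  .bwd [3,1,3,5,0,2,1,2] 192 4 0,
  .bwd [1,6,5,2,6,1,2,1] 251 3 0,
  .bwd [1,5,2,0,3,0,2,3] 215 3 0,
  .bwd [0,6,0,5,9,6,7,9,7] 359 8 1,
  .bwd [9,4,3,4,9,5,0,1] 330 2 0,
  .bwd [3,1,9,5,9,5,3,5,9,5,1,3,5,9] 358 12 1,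
  .bwd [3,8,3,8,6,5,6,0] 217 1 0,
  .bwd [3,8,7,3,5,0,7,8] 227 2 1,
  .bwd [9,5,0,5,9,5,0] 88 5 0,
  .bwd [9,5,9,1,3,5,9,5,3,1,5,9,5,3] 358 11 0,
  .bwd [8,4,3,4,8,5,1] 124 1 0,
  .bwd [2,0,2,0,5,1,0,1] 206 1 1,
  .bwd [1,4,3,4,5,2,1,2] 250 2 0,
  .bwd [0,9,3,9,0,3,5,1] 275 4 0,
  .bwd [9,5,3,5,9,5,9,1,3,5,9,5,3,1] 358 7 0,
  .bwd [1,4,2,4,5,3,0,3] 343 2 0,
  .bwd [3,5,0,5,3,5,0] 111 1 0,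
  .bwd [1,5,9,3,1,3,1,9] 310 1 1,
  .bwd [2,6,1,2,1,5,1,6] 251 6 0,
  .bwd [2,6,0,2,0,5,0,6] 267 6 0,
  .bwd [0,5,0,3,1,0,3,1] 193 2 1,
  .bwd [3,1,3,5,2,1,2,0] 192 0 1,
  .bwd [1,8,5,1,3,1,8,3] 229 2 1,
  .bwd [6,8,0,5,3,8,6,3] 365 6 0,
  .bwd [3,6,0,3,0,5,1,6] 265 6 0,
  .bwd [9,7,6,7,9,6,7,5,0,6] 361 1 1,
  .bwd [6,0,5,0,2,0,6,2] 267 2 1,
  .bwd [9,8,9,5,2,8,2] 136 1 0,
  .bwd [3,1,3,1,5,1,0] 77 0 1,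
  .bwd [3,8,7,8,3,5,7] 116 3 0,
  .bwd [2,3,1,3,2,1,5,0] 233 0 1,
  .bwd [6,4,5,4,5,4,6] 113 6 0,
  .bwd [3,0,3,5,4,2,4,1] 343 6 1,
  .bwd [3,8,3,8,5,1,0,1] 341 2 0,
  .bwd [1,5,9,1,3,1,9,3] 241 5 0,
  .bwd [9,1,3,5,9,5,3,1,5,9,5,3,5,9] 358 13 0,
  .bwd [9,5,1,3,5,9,5,3,1,9,5,9,5,3] 358 5 1,
  .bwd [9,8,9,5,0,8,0] 130 1 0,
  .bwd [9,4,3,2,4,9,5,1] 230 0 1,
  .bwd [4,2,4,1,5,3,0,3] 343 1 1,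
  .bwd [9,5,9,5,9,5,9] 55 4 0,
  .bwd [2,8,2,0,5,3,8,3] 222 4 1,
  .bwd [9,1,3,1,9,3,5,1] 241 7 0,
  .bwd [3,6,8,3,5,0,8,6] 365 2 1,
  .bwd [1,2,1,6,2,5,6,1] 251 5 1,
  .bwd [8,1,5,3,1,8,3,1] 245 3 1,
  .bwd [4,2,4,0,5,2,0,2] 289 1 1,
  .bwd [1,9,2,9,1,2,5,1] 266 4 0,
  .bwd [0,5,1,2,0,2,0,1] 196 2 0,
  .bwd [1,5,0,1,2,1,2,0] 199 6 0,
  .bwd [1,5,3,2,0,3,0,2] 215 3 1,
  .bwd [4,2,4,5,9,0,9,8] 345 2 1,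
  .bwd [7,9,7,6,9,5,0,6,0] 359 1 0,
  .bwd [1,6,5,6,4,3,4] 152 6 1,
  .bwd [0,5,3,1,2,3,1,2] 223 7 1,
  .bwd [9,5,3,1,9,5,9,5,3,5,9,5,1,3] 358 10 1,
  .bwd [8,3,8,3,5,1,0,1] 341 1 1,
  .bwd [3,0,2,0,2,3,5,0] 286 7 0,
  .bwd [7,8,7,5,9,8,9] 101 0 0,
  .bwd [3,0,6,3,6,0,5,1] 178 6 1,
  .bwd [9,8,9,5,7,8,7] 101 4 0,
  .bwd [0,6,5,3,6,8,3,8] 346 7 1,
  .bwd [1,0,5,3,1,3,1] 77 5 1,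
  .bwd [0,5,2,0,6,2,6,0] 313 4 1,
  .bwd [0,4,2,4,5,2,0,2] 289 2 0,
  .bwd [9,0,9,8,5,4,2,4] 345 6 1,
  .bwd [0,5,2,1,3,2,1,3] 223 8 0,
  .bwd [6,0,5,4,2,4,6] 125 6 0,
  .bwd [1,2,0,2,1,0,5,0] 207 2 1,
  .bwd [0,5,1,3,8,3,8,1] 205 8 0,
  .bwd [0,5,3,4,1,2,1,4] 333 8 0,
  .bwd [0,3,8,3,0,5,8,0] 221 3 1,
  .bwd [0,1,2,1,2,0,5,1] 199 8 0,
  .bwd [1,5,2,1,6,2,6,1] 224 4 1,
  .bwd [0,5,3,0,2,0,3,2] 321 5 0,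
  .bwd [2,3,0,2,0,3,5,0] 321 3 1,
  .bwd [2,1,2,5,2,1,2] 96 6 0,
  .bwd [4,5,4,6,5,6,4] 113 1 0,
  .bwd [1,2,1,2,5,0,1,0] 216 3 0,
  .bwd [0,8,6,5,3,6,8,3] 365 7 1,
  .bwd [8,5,3,8,4,2,4,3] 232 3 0,
  .bwd [9,5,9,5,9,5,9] 55 6 0,
  .bwd [0,5,9,5,0,5,9] 88 7 0,
  .bwd [2,9,5,2,4,9,4,5,9,8,2] 349 8 0,
  .bwd [3,8,6,3,5,6,0,8] 240 1 1,
  .bwd [0,8,5,0,3,8,3,0] 221 5 0,
  .sub [] [] 5 0,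
  .bwd [8,4,5,4,5,4,8] 154 6 0,
  .bwd [0,3,8,0,8,3,5,1] 252 8 0,
  .bwd [1,5,9,2,9,1,2,1] 242 3 0,
  .bwd [0,5,2,1,0,1,2,0] 335 4 0,
  .bwd [1,5,3,4,0,3,0,4] 177 1 1,
  .bwd [3,9,1,3,1,9,5,1] 241 3 1,
  .bwd [0,3,0,6,3,5,6,1] 265 5 1,
  .bwd [6,0,5,8,3,8,6,3] 346 7 0,
  .bwd [9,6,9,5,6,7,6,0,6,7] 348 3 0,
  .bwd [0,2,0,2,5,1,0,1] 206 2 0,
  .bwd [0,2,0,6,2,5,6,0] 267 5 1,
  .bwd [2,0,2,0,6,5,6,0] 336 4 1,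
  .bwd [3,8,6,3,5,6,8,0] 365 1 0,
  .bwd [1,5,0,1,3,0,3,1] 187 6 0,
  .bwd [3,4,2,4,3,5,0] 132 1 0,
  .bwd [4,3,4,1,5,2,1,2] 250 1 1,
  .bwd [2,0,2,5,4,2,4,0] 289 6 1,
  .bwd [1,9,1,0,9,5,9,1,0,9,1] 364 7 1,
  .bwd [3,8,3,5,0,2,8,2] 222 4 0,
  .bwd [9,0,2,0,2,9,5,0] 190 7 0,
  .bwd [0,5,1,2,3,1,3,2] 233 8 0,
  .bwd [3,1,2,1,3,2,5,1] 302 7 0,
  .bwd [9,5,0,1,5,9,5,1] 306 6 0,
  .bwd [1,3,2,1,2,3,5,0] 282 1 0,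
  .bwd [0,5,8,4,2,4,8] 114 7 0]
noncomputable def RR6 : List Rule := [.bwd [6] 6 0 0,
  .bwd [5,6,5] 21 1 0,
  .bwd [4,1,4,6,4,1,4] 87 2 0,
  .bwd [3,6,3] 10 1 0,
  .bwd [8,6,9,6,8,6,9] 74 4 0,
  .bwd [2,6,2] 24 1 0,
  .bwd [9,6,8,6,9,6,8] 74 2 0,
  .bwd [8,6,0,6,8,6,0] 83 1 0,
  .bwd [1,6,1,6,1,6,1] 115 1 0,
  .bwd [7,6,7,6,1,7,1] 102 1 0,
  .bwd [9,6,9,6,9,6,9] 129 2 0,
  .bwd [0,6,8,6,0,6,8] 83 3 0,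
  .bwd [4,8,4,6,4,8,4] 120 1 0,
  .bwd [7,6,7,6,7] 30 2 0,
  .bwd [0,4,0,6,0,4,0] 126 3 0,
  .bwd [5,6,4,2,4,5,0] 125 0 1,
  .bwd [5,6,4,5,4,5,4] 113 5 0,
  .bwd [5,6,4,3,4,5,1] 152 0 1,
  .bwd [7,9,7,5,0,6,0,5,9] 359 4 1,
  .bwd [4,6,4,6,4,6,4] 144 1 0,
  .bwd [9,4,9,4,6,4,9,4,9] 362 6 0,
  .bwd [4,7,4,6,4,7,4] 137 1 0,
  .bwd [8,6,8,6,8,6,8] 166 2 0,
  .bwd [7,6,7,6,8,7,8] 84 0 0,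
  .bwd [9,5,0,6,0,4,6,4,5,9] 353 6 0,
  .bwd [0,6,9,1,6,8,0,6,1,9] 352 4 0,
  .bwd [9,5,6,7,6,0,6,7,5,9] 348 5 0,
  .bwd [7,5,0,6,5,9,7,6,7,9] 361 7 1,
  .bwd [0,6,7,5,9,6,9,5,6,7] 348 10 0,
  .bwd [1,4,0,1,6,1,0,4,1] 354 7 0,
  .bwd [5,3,6,8,3,5,0,8] 365 1 1,
  .bwd [2,6,1,2,5,1,5,1] 224 6 0,
  .bwd [3,6,8,4,2,4,3,8] 226 4 0,
  .bwd [1,0,4,1,6,1,4,0,1] 354 2 0,
  .bwd [0,6,0,6,0,6,0] 138 1 0,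
  .bwd [8,4,6,8,6,8,4,6,8] 363 3 0,
  .bwd [2,6,1,5,1,5,2,1] 224 0 1,
  .bwd [0,4,0,6,4,0,4] 156 7 0,
  .bwd [3,6,3] 10 3 0,
  .bwd [7,6,7,6,0,7,0] 135 1 0,
  .bwd [2,6,1,2,4,3,4,1] 285 6 0,
  .bwd [0,6,1,4,6,4,6,0,6,1] 351 10 0,
  .bwd [7,0,6,1,6,0,1,7,6,1] 360 5 0,
  .bwd [5,6,0,5,4,2,4] 125 5 0,
  .bwd [1,6,7,0,6,1,6,0,1,7] 360 3 0,
  .bwd [5,6,5] 21 3 0,
  .bwd [9,1,2,1,2,6,8,3,8,6,1,3,1,6,9] 368 14 0,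
  .bwd [2,5,6,1,5,1,2,1] 251 0 1,
  .bwd [8,0,6,1,9,6,0,6,9,1] 352 9 0,
  .bwd [5,6,0,5,3,8,3,8] 217 6 0,
  .bwd [9,5,7,6,0,6,7,6,5,9] 348 5 1,
  .bwd [7,5,9,6,9,5,6,7,6,0] 348 1 0,
  .bwd [2,6,2] 24 3 0,
  .bwd [2,6,4,3,8,3,8,4] 195 8 0,
  .bwd [9,7,6,7,9,5,6,0,5,7] 361 3 0,
  .bwd [5,6,1,5,4,3,4] 152 5 0,
  .bwd [9,4,1,4,9,6,9,6,2,4,1,4,2,6,9] 379 5 0,
  .bwd [9,5,0,6,0,5,7,9,7] 359 5 0,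
  .bwd [3,6,4,1,2,1,2,4] 305 5 0,
  .bwd [3,6,0,5,1,5,3,0] 178 0 1,
  .bwd [0,8,5,3,8,6,3,5] 240 7 1,
  .bwd [3,5,6,0,8,5,3,8] 240 4 1,
  .bwd [5,2,6,1,2,1,5,1] 251 5 0,
  .bwd [8,3,5,8,0,6,5,3] 240 4 0,
  .bwd [4,5,4,5,4,6,5] 113 7 0,
  .bwd [1,0,6,1,9,1,9,1,6,0,1,6,9,1,9] 372 6 0,
  .bwd [9,6,1,3,1,6,8,3,8,6,2,1,2,1,9] 368 1 1,
  .bwd [4,0,4,6,0,4,0] 156 3 0,
  .bwd [1,2,1,5,1,6,5,2] 251 8 0,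
  .bwd [1,9,6,0,6,9,1,6,0,8] 352 1 1,
  .bwd [4,6,4,6,4,6,4] 144 7 0,
  .bwd [5,3,6,0,3,0,5,1] 265 5 0,
  .bwd [9,5,4,6,4,0,6,0,5,9] 353 4 1,
  .bwd [2,5,6,0,5,0,2,0] 267 0 1,
  .bwd [4,9,4,9,6,9,4,9,4] 362 1 0,
  .bwd [7,6,0,6,7,5,9,6,9,5] 348 8 0,
  .bwd [4,0,4,6,4,0,4] 160 2 0,
  .bwd [3,6,0,3,5,1,5,0] 178 6 0,
  .bwd [7,6,7,6,7] 30 0 0,
  .bwd [3,6,8,3,8,4,2,4] 270 2 0,
  .bwd [4,6,0,6,1,6,0,6,1,4] 351 4 0,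
  .bwd [1,5,1,2,1,6,2,5] 251 3 1,
  .bwd [8,1,6,1,7,8,6,8,1,6,7] 374 10 0,
  .bwd [1,7,1,6,7,6,7] 102 5 0,
  .bwd [1,2,3,1,7,2,9,7,6,1,0,3,0,1,9] 369 4 1,
  .bwd [1,6,1,6,1,6,1] 115 7 0,
  .bwd [7,9,5,6,0,5,7,6,9,7] 361 6 0,
  .bwd [9,1,6,8,0,6,1,9,6,0] 352 6 0,
  .bwd [4,8,6,8,6,4,8,6,8] 363 3 1,
  .bwd [1,4,6,4,6,0,6,1,6,0] 351 1 0,
  .bwd [1,5,0,3,0,6,3,5] 265 3 1,
  .bwd [5,9,6,9,5,7,6,0,6,7] 348 2 1,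
  .bwd [1,3,1,6,8,3,8,6,2,1,2,1,9,6,9] 368 3 1,
  .bwd [5,3,6,8,3,5,8,0] 240 1 0,
  .bwd [5,2,6,0,2,0,5,0] 267 5 0,
  .bwd [0,3,0,5,1,6,5,3] 265 8 0,
  .bwd [7,9,4,2,4,2,7,6,4,2,4,9,2] 383 7 1,
  .bwd [0,2,0,5,0,6,5,2] 267 8 0,
  .bwd [8,1,6,7,6,8,1,6,1,7,8] 374 5 0,
  .bwd [1,9,6,0,6,9,1,6,8,0] 352 1 0,
  .bwd [3,6,0,3,4,3,4,0] 201 6 0,
  .bwd [9,6,2,4,1,4,2,6,9,6,9,4,1,4,9] 379 11 0,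
  .bwd [9,6,9,6,9,6,9] 129 0 0,
  .bwd [7,6,1,8,6,8,7,1,6,1,8] 374 1 1,
  .bwd [8,3,8,6,2,1,2,1,9,6,9,6,1,3,1] 368 7 1,
  .bwd [4,7,4,6,4,7,4] 137 5 0,
  .bwd [5,6,1,5,2,1,2,1] 280 0 1,
  .bwd [1,5,4,3,4,6,5] 152 7 0,
  .bwd [0,5,4,2,4,6,5] 125 7 0,
  .bwd [2,6,0,5,0,5,2,0] 313 0 1,
  .bwd [9,6,9,1,2,1,2,6,8,3,8,6,1,3,1] 368 12 0,
  .bwd [4,5,9,6,9,5,0,6,0,4] 353 2 0,
  .bwd [8,6,8,4,6,8,6,8,4] 363 1 0,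
  .bwd [2,4,1,4,2,6,9,6,9,4,1,4,9,6,9] 379 13 0,
  .bwd [0,6,8,6,0,6,8] 83 7 0,
  .bwd [1,2,5,1,5,1,6,2] 224 8 0,
  .bwd [3,5,6,1,5,0,3,0] 265 0 1,
  .bwd [0,5,7,6,9,7,6,7,9,5] 361 10 0,
  .bwd [5,6,8,3,8,3,5,0] 217 0 1,
  .bwd [2,6,4,8,3,8,3,4] 195 7 1,
  .bwd [0,6,9,1,6,0,8,6,1,9] 352 4 1,
  .bwd [0,4,0,6,0,4,0] 126 7 0,
  .bwd [2,6,4,0,2,0,2,4] 278 5 0,
  .bwd [5,6,1,2,1,2,5,1] 280 6 0,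
  .bwd [3,6,8,3,4,2,4,8] 226 2 1,
  .bwd [0,5,0,2,0,6,2,5] 267 3 1,
  .bwd [4,3,4,5,1,6,5] 152 2 1,
  .bwd [4,0,6,0,5,9,6,9,5,4] 353 8 1,
  .bwd [2,6,1,4,3,4,2,1] 285 0 1,
  .bwd [1,6,0,6,1,4,6,4,6,0] 351 8 0,
  .bwd [8,0,5,3,8,6,3,5] 365 7 0,
  .bwd [8,6,9,6,8,6,9] 74 0 0,
  .bwd [0,6,1,6,0,6,4,6,4,1] 351 9 1,
  .bwd [8,0,4,8,0,6,8,4,0,4,8] 375 10 0,
  .bwd [4,1,2,1,2,4,6,3] 305 7 0,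
  .bwd [3,6,4,2,1,2,1,4] 305 1 1,
  .bwd [9,6,9,4,1,4,9,6,9,6,2,4,1,4,2] 379 3 0,
  .bwd [9,6,9,6,9,6,9] 129 4 0,
  .bwd [7,2,4,2,4,9,7,6,2,9,4,2,4] 383 12 0,
  .bwd [0,6,1,6,0,6,1,4,6,4] 351 6 0,
  .bwd [9,1,9,6,1,0,6,1,9,1,9,1,6,0,1] 372 2 0,
  .bwd [7,9,6,7,5,0,6,5,9,7] 361 4 1,
  .bwd [0,6,4,6,4,1,6,0,6,1] 351 2 1,
  .bwd [2,9,4,2,4,6,7,2,4,2,4,9,7] 383 6 0,
  .bwd [0,3,4,3,4,0,6,3] 201 8 0,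
  .bwd [0,3,5,1,5,0,6,3] 178 8 0,
  .bwd [1,6,1,6,1,6,1] 115 3 0,
  .bwd [0,5,7,9,7,6,9,5,0] 359 9 0,
  .bwd [8,3,8,6,1,3,1,6,9,6,9,1,2,1,2] 368 4 0,
  .bwd [1,3,1,6,9,6,9,1,2,1,2,6,8,3,8] 368 8 0,
  .bwd [4,2,4,5,0,6,5] 125 2 1,
  .bwd [3,6,4,0,3,0,3,4] 328 5 0,
  .bwd [8,4,0,4,8,6,8,0,4,8,0] 375 4 0,
  .bwd [4,8,4,6,4,8,4] 120 5 0,
  .bwd [4,2,4,9,2,6,7,9,4,2,4,2,7] 383 1 1,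
  .bwd [3,5,6,8,0,5,3,8] 365 4 0,
  .bwd [0,5,8,3,8,6,3,5] 346 8 0,
  .bwd [0,4,3,4,3,0,6,3] 201 2 1,
  .bwd [3,6,4,2,4,8,3,8] 270 4 1,
  .bwd [4,1,6,0,6,1,6,0,6,4] 351 6 1,
  .bwd [9,1,0,3,0,1,6,7,9,2,7,1,3,2,1] 369 11 0,
  .bwd [2,6,0,4,2,4,2,0] 324 0 1,
  .bwd [1,7,8,6,8,1,6,7,6,8,1] 374 1 0,
  .bwd [2,6,4,2,0,2,0,4] 278 1 1,
  .bwd [1,8,6,7,6,1,8,6,8,7,1] 374 10 1,
  .bwd [0,1,6,9,1,9,6,1,0,6,1,9,1,9,1] 372 15 0,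
  .bwd [8,6,4,8,6,8,6,4,8] 363 1 1,
  .bwd [8,7,8,6,7,6,7] 84 4 0,
  .bwd [8,3,5,0,8,6,5,3] 365 4 1,
  .bwd [4,6,4,6,4,6,4] 144 3 0,
  .bwd [0,6,7,6,5,9,6,9,5,7] 348 9 1,
  .bwd [1,6,0,1,7,6,1,6,7,0] 360 8 0,
  .bwd [0,7,6,1,0,6,1,7,6,0,1] 382 2 0,
  .bwd [0,8,6,1,9,6,0,6,9,1] 352 9 1,
  .bwd [1,2,4,3,4,1,6,2] 285 8 0,
  .bwd [8,7,1,6,1,8,6,7,6,1,8] 374 6 1,
  .bwd [4,6,4,6,4,6,4] 144 5 0,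
  .bwd [5,6,1,5,3,0,3,0] 342 0 1,
  .bwd [1,9,1,9,1,6,0,1,6,9,1,9,6,1,0] 372 9 0,
  .bwd [2,6,0,2,5,0,5,0] 313 6 0,
  .bwd [1,5,1,5,2,1,6,2] 224 2 1,
  .bwd [8,6,8,6,8,6,8] 166 0 0,
  .bwd [7,0,6,1,0,6,7,1,6,0,1] 382 6 1,
  .bwd [0,5,1,5,3,0,6,3] 178 2 1,
  .bwd [0,5,9,6,7,9,7,5,0] 359 0 1,
  .bwd [0,1,6,0,7,6,1,0,6,1,7] 382 11 0,
  .bwd [1,6,1,6,1,6,1] 115 5 0,
  .bwd [2,6,4,3,4,1,2,1] 329 0 1,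
  .bwd [9,6,9,6,9,6,9] 129 6 0,
  .bwd [0,4,6,4,5,9,6,9,5,0] 353 10 0,
  .bwd [0,7,0,6,7,6,7] 135 5 0,
  .bwd [7,6,8,1,6,1,7,8,6,8,1] 374 8 0,
  .bwd [1,0,6,7,1,6,0,1,6,7,0] 382 9 1,
  .bwd [1,7,6,0,1,6,0,7,6,1,0] 382 8 0,
  .bwd [7,9,2,7,1,3,2,1,6,9,1,0,3,0,1] 369 2 0,
  .bwd [1,5,3,0,3,0,6,5] 342 2 1,
  .bwd [0,1,7,6,1,6,7,0,6,1] 360 10 0,
  .bwd [0,6,0,6,0,6,0] 138 7 0,
  .bwd [4,2,4,8,3,8,6,3] 270 6 1,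
  .bwd [8,6,8,4,6,8,6,8,4] 363 6 0,
  .bwd [3,6,0,4,3,4,3,0] 201 0 1,
  .bwd [2,6,0,2,4,2,4,0] 324 6 0,
  .bwd [7,1,0,6,1,6,0,7,6,1] 360 7 1,
  .bwd [1,4,3,4,2,1,6,2] 285 2 1,
  .bwd [8,4,2,4,3,8,6,3] 226 6 0,
  .sub [] [] 6 0,
  .bwd [0,8,4,0,8,6,8,4,0,4,8] 375 7 1,
  .bwd [2,1,2,1,9,6,9,6,1,3,1,6,8,3,8] 368 11 1,
  .bwd [0,5,9,6,9,5,4,6,4,0] 353 0 1,
  .bwd [0,2,0,2,5,0,6,5] 336 8 0,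
  .bwd [8,4,0,4,8,6,0,8,4,0,8] 375 1 1,
  .bwd [7,1,6,0,1,6,7,0,6,1,0] 382 0 1,
  .bwd [0,2,4,2,4,0,6,2] 324 8 0,
  .bwd [0,3,0,3,5,1,6,5] 342 8 0,
  .bwd [0,2,5,0,5,0,6,2] 313 8 0,
  .bwd [4,0,2,0,2,4,6,2] 278 7 0,
  .bwd [1,6,0,6,4,6,4,1,6,0] 351 0 1]
noncomputable def RR7 : List Rule := [.bwd [7] 7 0 0,
  .bwd [5,7,5] 19 1 0,
  .bwd [1,7,1] 22 1 0,
  .bwd [8,7,8] 27 2 0,
  .bwd [6,7,6,7,6] 30 1 0,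
  .bwd [3,7,3] 12 1 0,
  .bwd [8,7,9,8,9] 35 0 0,
  .bwd [0,7,0] 25 1 0,
  .bwd [4,2,4,7,4,2,4] 63 2 0,
  .bwd [2,7,2] 15 1 0,
  .bwd [4,3,4,7,4,3,4] 131 2 0,
  .bwd [9,7,9,7,9,7,9] 66 2 0,
  .bwd [4,6,4,7,4,6,4] 137 3 0,
  .bwd [9,1,9,7,9,1,9] 109 2 0,
  .bwd [5,9,6,9,5,6,7,6,0,6] 348 2 0,
  .bwd [6,9,5,0,6,0,5,7,9] 359 4 0,
  .bwd [0,7,8,9,0,9] 40 6 0,
  .bwd [9,7,5,0,6,0,5,9,6] 359 5 1,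
  .bwd [9,0,9,7,9,0,9] 104 2 0,
  .bwd [4,7,4,7,4,7,4] 145 1 0,
  .bwd [5,7,5] 19 3 0,
  .bwd [0,6,1,6,0,1,7,6,1,6] 360 6 0,
  .bwd [3,7,4,0,3,0,3,4] 247 5 0,
  .bwd [1,7,1] 22 3 0,
  .bwd [3,7,3] 12 3 0,
  .bwd [2,7,2] 15 3 0,
  .bwd [6,0,6,7,5,9,6,9,5,6] 348 9 0,
  .bwd [2,7,4,3,8,3,8,4] 311 8 0,
  .bwd [6,7,9,5,6,0,5,7,6,9] 361 5 0,
  .bwd [8,7,9,0,9,0] 44 1 0,
  .bwd [0,2,0,2,7,4,2,4] 176 8 0,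
  .bwd [9,5,6,0,5,7,6,9,7,6] 361 7 0,
  .bwd [4,7,4,9,4,7,4,7,9] 380 5 0,
  .bwd [6,7,6,7,6] 30 5 0,
  .bwd [0,2,7,8,9,2,0,9] 273 8 0,
  .bwd [8,7,1,9,8,9,1] 142 1 0,
  .bwd [0,7,0] 25 3 0,
  .bwd [6,1,6,7,0,6,1,6,0,1] 360 2 0,
  .bwd [8,7,8] 27 0 0,
  .bwd [4,2,4,3,7,8,3,8] 184 7 0,
  .bwd [0,5,3,7,8,3,5,8] 227 8 0,
  .bwd [4,6,4,7,4,6,4] 137 7 0,
  .bwd [0,7,9,0,9,8] 40 5 1,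
  .bwd [1,2,1,2,7,4,3,4] 259 8 0,
  .bwd [8,3,8,7,3,4,2,4] 184 1 1,
  .bwd [4,0,3,0,4,7,0,3,0] 376 8 0,
  .bwd [4,3,4,7,2,1,2,1] 259 0 1,
  .bwd [5,0,6,5,9,7,6,7,9,6] 361 8 1,
  .bwd [6,8,7,8,6,7,6] 84 3 0,
  .bwd [6,1,6,7,1,0,6,1,6,0] 360 4 1,
  .bwd [4,2,4,7,2,0,2,0] 176 0 1,
  .bwd [1,6,0,1,6,7,0,6,1,0,6] 382 1 1,
  .bwd [9,7,4,7,4,9,4,7,4] 380 3 0,
  .bwd [5,0,6,0,5,9,6,7,9] 359 7 1,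
  .bwd [0,3,0,7,4,0,3,0,4] 376 4 0,
  .bwd [6,0,1,6,0,7,6,1,0,6,1] 382 10 0,
  .bwd [2,4,2,4,9,7,6,2,9,4,2,4,6] 383 13 0,
  .bwd [9,6,7,5,0,6,5,9,7,6] 361 5 1,
  .bwd [6,0,7,0,6,7,6] 135 4 0,
  .bwd [3,4,2,4,7,8,3,8] 184 5 1,
  .bwd [8,9,0,9,7,1,0,1] 331 2 0,
  .bwd [8,5,3,8,7,3,5,0] 227 0 1,
  .bwd [9,7,6,9,5,0,6,0,5] 359 2 0,
  .bwd [0,3,8,7,8,3,0] 89 7 0,
  .bwd [8,6,8,1,6,7,6,8,1,6,1] 374 3 0,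
  .bwd [6,2,9,4,2,4,6,7,2,4,2,4,9] 383 5 0,
  .bwd [4,7,9,7,4,7,4,9,4] 380 1 0,
  .bwd [0,6,7,6,7,6,0] 135 7 0,
  .bwd [4,3,4,7,3,0,3,0] 303 0 1,
  .bwd [8,3,8,7,4,2,4,3] 184 3 0,
  .bwd [9,0,2,9,8,7,2,0] 273 0 1,
  .bwd [2,7,4,8,3,8,3,4] 311 7 1,
  .bwd [3,5,0,7,8,5,3,8] 227 5 1,
  .bwd [6,8,1,6,1,7,8,6,8,1,6] 374 9 0,
  .bwd [2,0,2,0,7,4,2,4] 176 4 1,
  .bwd [8,7,5,9,8,9,5] 101 1 0,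
  .bwd [4,0,3,0,3,4,7,3] 247 7 0,
  .bwd [3,7,4,1,2,1,2,4] 340 5 0,
  .bwd [4,3,4,7,4,3,4] 131 6 0,
  .bwd [4,7,4,7,4,7,4] 145 7 0,
  .bwd [1,0,6,1,6,0,7,6,1,6] 360 8 1,
  .bwd [6,0,6,7,6,5,9,6,9,5] 348 8 1,
  .bwd [2,7,4,0,2,0,2,4] 320 5 0,
  .bwd [4,2,4,7,4,2,4] 63 6 0,
  .bwd [9,7,9,7,9,7,9] 66 0 0,
  .bwd [6,1,0,6,1,7,6,0,1,6,0] 382 4 0,
  .bwd [4,2,4,7,0,2,0,2] 176 4 0,
  .bwd [3,7,4,3,0,3,0,4] 247 1 1,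
  .bwd [2,0,7,9,0,2,9,8] 273 6 1,
  .bwd [6,5,9,6,9,5,7,6,0,6] 348 1 1,
  .bwd [4,3,8,3,8,4,7,2] 311 1 0,
  .bwd [8,3,7,3,8] 38 4 0,
  .bwd [6,9,7,6,7,9,5,6,0,5] 361 2 0,
  .bwd [4,3,4,7,1,2,1,2] 259 4 0,
  .bwd [9,4,2,4,2,7,6,4,2,4,9,2,6] 383 8 1,
  .bwd [6,1,8,6,8,7,1,6,1,8,6] 374 2 1,
  .bwd [8,9,2,0,9,7,0,2] 273 2 0,
  .bwd [0,6,1,0,6,7,1,6,0,1,6] 382 7 1,
  .bwd [4,1,2,1,2,4,7,3] 340 7 0,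
  .bwd [8,3,5,8,7,0,5,3] 227 3 0,
  .bwd [8,3,8,7,3,5,0,5] 189 1 1,
  .bwd [8,7,1,9,0,9,0,1] 179 2 0,
  .bwd [4,3,4,7,0,3,0,3] 303 4 0,
  .bwd [0,3,0,3,7,4,3,4] 303 8 0,
  .bwd [4,0,2,0,2,4,7,2] 320 7 0,
  .bwd [2,9,7,6,1,0,3,0,1,9,6,1,2,3,1] 369 9 1,
  .bwd [6,4,2,4,9,2,6,7,9,4,2,4,2] 383 0 1,
  .bwd [3,5,0,5,7,8,3,8] 189 5 1,
  .bwd [8,3,8,7,5,0,5,3] 189 3 0,
  .bwd [1,6,1,8,6,7,6,1,8,6,8] 374 8 1,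
  .bwd [9,8,9,7,8] 35 2 0,
  .bwd [1,6,7,6,7,6,1] 102 7 0,
  .bwd [9,0,9,8,7,1,0,1] 331 1 1,
  .bwd [4,9,4,7,4,7,9,7,4] 380 7 0,
  .bwd [6,7,9,6,7,5,0,6,5,9] 361 3 1,
  .bwd [3,7,8,4,2,4,3,8] 228 4 0,
  .bwd [1,3,8,7,8,3,1] 62 7 0,
  .bwd [9,2,7,1,3,2,1,6,9,1,0,3,0,1,6] 369 3 0,
  .bwd [1,9,8,9,1,7,8] 142 3 0,
  .bwd [9,1,9,7,9,1,9] 109 6 0,
  .bwd [9,7,9,7,9,7,9] 66 4 0,
  .bwd [1,3,2,1,6,9,1,0,3,0,1,6,7,9,2] 369 6 0,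
  .bwd [8,6,7,6,7,6,8] 84 6 0,
  .bwd [9,0,9,8,7,0] 40 0 1,
  .bwd [8,7,5,9,0,9,0,5] 318 2 0,
  .bwd [6,7,6,7,6] 30 3 0,
  .bwd [8,9,0,9,7,0] 40 1 0,
  .bwd [4,3,0,3,0,4,7,3] 247 3 1,
  .bwd [8,3,1,7,1,3,8] 62 3 0,
  .bwd [5,3,8,7,8,3,5] 116 2 0,
  .bwd [8,7,1,0,9,0,9,1] 179 4 1,
  .bwd [3,8,7,8,3] 38 1 0,
  .bwd [8,4,2,4,3,8,7,3] 228 6 0,
  .bwd [2,7,4,2,0,2,0,4] 320 1 1,
  .bwd [9,0,9,7,9,0,9] 104 6 0,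
  .bwd [8,3,5,7,5,3,8] 116 6 0,
  .bwd [8,7,9,2,0,9,0,2] 212 2 0,
  .bwd [9,7,9,7,9,7,9] 66 6 0,
  .bwd [1,0,1,7,9,0,9,8] 331 6 1,
  .bwd [9,0,9,0,7,8] 44 3 0,
  .bwd [4,2,1,2,1,4,7,3] 340 3 1,
  .bwd [4,8,3,8,3,4,7,2] 311 0 1,
  .bwd [3,0,3,0,7,4,3,4] 303 4 1,
  .bwd [2,1,2,1,7,4,3,4] 259 4 1,
  .bwd [5,0,5,3,7,8,3,8] 189 7 0,
  .bwd [6,1,7,1,6,7,6] 102 4 0,
  .bwd [3,7,4,2,1,2,1,4] 340 1 1,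
  .bwd [6,7,6,1,7,1,6] 102 2 0,
  .bwd [6,1,0,3,0,1,9,6,1,2,3,1,7,2,9] 369 12 1,
  .bwd [5,9,8,9,5,7,8] 101 3 0,
  .bwd [4,7,4,7,4,7,4] 145 3 0,
  .bwd [0,9,0,9,7,8] 44 5 1,
  .bwd [1,0,1,7,8,9,0,9] 331 7 0,
  .bwd [1,0,9,0,9,1,7,8] 179 6 1,
  .bwd [3,7,8,3,4,2,4,8] 228 2 1,
  .sub [] [] 7 0,
  .bwd [6,7,6,8,7,8,6] 84 1 0,
  .bwd [8,3,0,7,0,3,8] 89 3 0,
  .bwd [6,7,6,0,7,0,6] 135 2 0,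
  .bwd [4,7,4,7,4,7,4] 145 5 0]
noncomputable def RR8 : List Rule := [.bwd [8] 8 0 0,
  .bwd [9,8,9] 14 2 0,
  .bwd [5,8,5] 17 1 0,
  .bwd [1,8,1] 20 1 0,
  .bwd [0,8,0] 23 1 0,
  .bwd [6,9,6,8,6,9,6] 74 1 0,
  .bwd [7,8,3,7,3] 38 3 0,
  .bwd [2,8,2] 11 1 0,
  .bwd [3,8,3,4,2,4] 49 1 1,
  .bwd [3,8,5,0,5,3] 45 3 0,
  .bwd [7,8,7] 27 1 0,
  .bwd [6,0,6,8,6,0,6] 83 2 0,
  .bwd [4,2,4,8,4,2,4] 67 2 0,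
  .bwd [3,8,4,1,2,1,4] 68 4 0,
  .bwd [9,0,9,0] 28 1 0,
  .bwd [0,9,0,3,9,3] 42 4 0,
  .bwd [7,8,6,7,6,7,6] 84 5 0,
  .bwd [4,3,4,8,4,3,4] 108 2 0,
  .bwd [4,6,4,8,4,6,4] 120 3 0,
  .bwd [6,8,6,8,6,8,6] 166 1 0,
  .bwd [4,8,4,8,4,8,4] 122 1 0,
  .bwd [4,2,4,3,8,6,3,6] 226 7 0,
  .bwd [5,3,8,3,5,0] 47 0 1,
  .bwd [5,8,4,5,4,5,4] 154 5 0,
  .bwd [3,0,8,1,3,0,1] 71 2 0,
  .bwd [0,5,3,8,6,3,5,6] 365 8 0,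
  .bwd [4,2,4,3,8,3] 49 5 0,
  .bwd [4,6,8,6,8,4,6,8,6] 363 4 0,
  .bwd [9,0,9,1,0,1] 43 2 0,
  .bwd [0,6,1,9,6,0,6,9,1,6] 352 10 0,
  .bwd [3,5,8,0,6,5,3,6] 240 5 0,
  .bwd [3,4,2,4,8,6,3,6] 226 5 1,
  .bwd [9,8,9] 14 0 0,
  .bwd [5,0,5,8,4,2,4] 114 6 0,
  .bwd [5,1,5,8,4,3,4] 124 6 0,
  .bwd [4,9,0,4,0,9,4,0] 194 6 0,
  .bwd [1,8,1] 20 3 0,
  .bwd [3,5,0,5,8,3] 45 3 1,
  .bwd [4,9,4,8,4,9,4] 163 1 0,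
  .bwd [3,8,4,2,4,3] 49 3 0,
  .bwd [3,8,3,5,0,6,5,6] 217 3 1,
  .bwd [6,1,9,6,0,6,9,1,6,0] 352 0 1,
  .bwd [6,8,4,6,8,6,8,4,6] 363 2 0,
  .bwd [2,8,4,0,2,0,2,4] 235 5 0,
  .bwd [1,3,0,1,8,3,0] 71 5 0,
  .bwd [0,5,3,8,3,5] 47 6 0,
  .bwd [3,8,3,5,0,5] 45 1 1,
  .bwd [5,0,5,3,8,3] 45 5 0,
  .bwd [0,4,9,0,4,0,9,4] 194 2 1,
  .bwd [7,8,7] 27 3 0,
  .bwd [6,8,6,4,8,6,8,6,4] 363 5 1,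
  .bwd [9,2,0,9,0,2] 39 2 0,
  .bwd [5,8,5] 17 3 0,
  .bwd [5,1,3,1,8,3,5,1] 229 4 1,
  .bwd [4,5,9,5,4,8,4,5,4,9,4,5,4] 355 3 0,
  .bwd [1,6,1,7,8,6,8,1,6,7,6] 374 11 0,
  .bwd [1,6,7,6,8,1,6,1,7,8,6] 374 6 0,
  .bwd [9,5,4,9,4,2,5,9,2,5,2] 349 5 1,
  .bwd [2,8,2] 11 3 0,
  .bwd [5,3,8,6,3,5,6,0] 240 0 1,
  .bwd [3,1,8,0,3,0,1] 80 2 0,
  .bwd [3,8,2,1,2,3,1] 82 4 0,
  .bwd [2,0,3,2,8,3,0] 140 5 1,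
  .bwd [1,2,1,2,8,4,3,4] 218 8 0,
  .bwd [6,8,7,1,6,1,8,6,7,6,1] 374 5 1,
  .bwd [7,1,6,1,8,6,7,6,1,8,6] 374 7 1,
  .bwd [6,4,8,6,8,6,4,8,6] 363 2 1,
  .bwd [1,0,3,1,8,0,3] 71 5 1,
  .bwd [4,1,9,1,0,4,2,9,8,4,0,1,9,1,4] 350 5 0,
  .bwd [4,0,4,8,6,8,0,4,8,0,6] 375 5 0,
  .bwd [0,3,8,1,0,3,1] 71 2 1,
  .bwd [4,0,8,3,1,4,8,1,4,8,0,1,4,1] 357 4 0,
  .bwd [3,8,3,2,0,2,0] 112 0 1,
  .bwd [3,1,8,3,1,4,3,4] 167 3 1,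
  .bwd [4,3,4,8,5,1,5] 124 2 0,
  .bwd [3,8,3,0,2,0,2] 75 4 0,
  .bwd [3,8,4,2,4,6,3,6] 270 5 0,
  .bwd [9,0,9,5,4,2,4,5] 345 7 0,
  .bwd [1,4,9,4,0,9,1,9,4,9,4] 370 6 1,
  .bwd [3,8,1,3,2,1,2] 82 1 1,
  .bwd [3,0,3,8,3,0,3] 58 2 0,
  .bwd [0,3,8,2,3,0,2] 140 2 0,
  .bwd [1,5,3,8,1,3,1,5] 229 4 0,
  .bwd [3,2,1,2,8,3,1] 106 4 1,
  .bwd [4,3,4,8,2,1,2,1] 218 0 1,
  .bwd [6,8,0,4,8,0,6,8,4,0,4] 375 9 0,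
  .bwd [4,9,4,9,1,9,0,4,9,4,1] 370 5 0,
  .bwd [4,6,4,8,4,6,4] 120 7 0,
  .bwd [2,5,2,9,5,2,4,9,4,5,9] 349 6 0,
  .bwd [4,3,4,8,1,2,1,2] 218 4 0,
  .bwd [1,4,8,0,1,4,1,8,4,0,8,3,1,4] 357 11 0,
  .bwd [4,1,4,9,4,9,8,1,4,0,8,4,0] 373 3 1,
  .bwd [7,0,5,3,7,8,3,5] 227 7 0,
  .bwd [1,5,9,8,9,5,1] 56 7 0,
  .bwd [0,8,0] 23 3 0,
  .bwd [2,0,3,8,2,3,0] 158 5 1,
  .bwd [9,0,9,7,0,7] 40 2 0,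
  .bwd [3,0,2,0,2,8,3] 75 6 0,
  .bwd [4,2,4,8,5,0,5] 114 2 0,
  .bwd [6,8,1,6,7,6,8,1,6,1,7] 374 4 0,
  .bwd [1,3,8,3,1,4,2,4] 284 8 0,
  .bwd [6,8,6,8,6,8,6] 166 7 0,
  .bwd [3,8,7,4,2,4,3,7] 184 4 0,
  .bwd [1,3,1,8,3,4,3,4] 292 8 0,
  .bwd [0,9,0,9] 28 3 1,
  .bwd [2,8,4,2,0,2,0,4] 235 1 1,
  .bwd [3,8,4,5,1,5,2,4] 258 4 0,
  .bwd [0,2,0,2,3,8,3] 112 7 0,
  .bwd [9,2,4,0,1,9,1,4,8,4,1,9,1,0,4] 350 1 1,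
  .bwd [3,8,1,0,3,1,0] 118 0 1,
  .bwd [1,3,8,0,1,3,0] 150 4 0,
  .bwd [0,4,1,8,9,4,9,4,1,4,8,0,4] 373 13 0,
  .bwd [3,1,8,3,2,1,2] 106 1 1,
  .bwd [3,0,3,8,4,3,4,0] 171 6 1,
  .bwd [0,3,1,0,8,3,1] 150 3 1,
  .bwd [0,4,8,0,4,1,8,9,4,9,4,1,4] 373 10 0,
  .bwd [3,4,2,4,8,3] 49 3 1,
  .bwd [3,8,2,0,2,0,3] 75 1 1,
  .bwd [4,1,2,1,4,8,3] 68 6 0,
  .bwd [4,2,4,1,3,8,3,1] 284 0 1,
  .bwd [0,4,8,0,6,8,4,0,4,8,6] 375 11 0,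
  .bwd [2,1,2,3,1,8,3] 82 6 0,
  .bwd [4,2,4,8,2,0,2,0] 307 0 1,
  .bwd [6,7,6,1,8,6,8,7,1,6,1] 374 0 1,
  .bwd [4,5,4,9,4,5,4,8,4,5,9,5,4] 355 9 0,
  .bwd [6,5,3,6,8,3,5,0] 365 0 1,
  .bwd [5,3,8,7,3,5,0,7] 227 1 1,
  .bwd [4,2,4,8,0,2,0,2] 307 4 0,
  .bwd [4,1,3,8,0,4,8,1,4,1,0,8,4,1] 357 3 1,
  .bwd [3,8,4,2,5,1,5,4] 258 2 1,
  .bwd [1,0,3,0,8,1,3] 80 5 1,
  .bwd [3,8,6,1,3,1,6,9,6,9,1,2,1,2,6] 368 5 0,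
  .bwd [0,3,0,1,8,3,1] 80 5 0,
  .bwd [1,3,8,1,0,3,0] 80 2 1,
  .bwd [4,5,4,5,4,8,5] 154 7 0,
  .bwd [4,3,4,8,4,3,4] 108 6 0,
  .bwd [1,3,8,2,1,2,3] 106 3 0,
  .bwd [6,8,4,0,4,8,6,0,8,4,0] 375 0 1,
  .bwd [3,1,8,0,3,1,0] 150 0 1,
  .bwd [4,2,4,0,3,8,3,0] 308 0 1,
  .bwd [3,8,1,2,3,1,2] 95 5 0,
  .bwd [6,5,6,0,5,3,8,3] 217 5 0,
  .bwd [0,3,8,0,1,3,1] 157 4 0,
  .bwd [7,8,3,0,7,0,3] 89 2 0,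
  .bwd [1,3,1,0,8,3,0] 157 3 1,
  .bwd [3,5,0,8,6,5,3,6] 365 5 1,
  .bwd [4,0,8,6,8,4,0,4,8,6,0] 375 9 1,
  .bwd [3,8,0,2,0,2,3] 112 5 0,
  .bwd [3,5,8,7,0,5,3,7] 227 4 0,
  .bwd [0,3,2,8,3,0,2] 158 2 0,
  .bwd [4,0,1,9,1,4,8,4,1,9,1,0,4,2,9] 350 14 0,
  .bwd [0,6,8,4,0,4,8,6,8,0,4] 375 2 0,
  .bwd [4,3,4,1,3,8,1,3] 167 5 0,
  .bwd [0,3,0,3,8,4,3,4] 238 8 0,
  .bwd [2,1,2,1,8,4,3,4] 218 4 1,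
  .bwd [3,0,1,8,3,1,0] 128 0 1,
  .bwd [0,2,0,2,8,4,2,4] 307 8 0,
  .bwd [2,8,4,3,8,3,8,4] 290 8 0,
  .bwd [3,7,3,8,7] 38 5 0,
  .bwd [3,4,3,4,8,1,3,1] 292 3 0,
  .bwd [4,2,4,8,4,2,4] 67 6 0,
  .bwd [3,0,3,8,0,4,3,4] 171 7 0,
  .bwd [4,3,4,8,3,0,3,0] 238 0 1,
  .bwd [3,0,9,2,0,9,3,2] 271 3 1,
  .bwd [3,1,2,8,3,1,2] 162 2 0,
  .bwd [2,5,9,8,9,5,2] 136 7 0,
  .bwd [0,3,8,3,0,4,2,4] 308 8 0,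
  .bwd [3,0,9,2,0,2,9,3] 170 3 1,
  .bwd [1,3,2,1,2,8,3] 82 3 1,
  .bwd [9,1,0,3,1,9,0,3] 185 5 1,
  .bwd [5,1,5,0,8,3,0,3] 255 1 1,
  .bwd [3,1,3,8,3,1,3] 103 2 0,
  .bwd [3,4,2,4,8,7,3,7] 228 5 1,
  .bwd [3,5,1,8,5,1,3,1] 229 0 1,
  .bwd [4,6,8,6,8,4,6,8,6] 363 9 0,
  .bwd [0,1,4,1,8,4,0,8,3,1,4,8,1,4] 357 14 0,
  .bwd [2,0,9,0,2,9] 39 4 1,
  .bwd [6,8,6,4,8,6,8,6,4] 363 0 1,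
  .bwd [3,0,8,1,3,1,0] 157 0 1,
  .bwd [4,8,4,8,4,8,4] 122 7 0,
  .bwd [3,0,3,8,0,5,1,5] 255 7 0,
  .bwd [0,5,9,8,9,5,0] 130 7 0,
  .bwd [7,0,7,9,0,9] 40 4 1,
  .bwd [6,7,6,7,6,8,7] 84 7 0,
  .bwd [3,1,4,8,1,4,8,0,1,4,1,8,4,0] 357 7 0,
  .bwd [2,1,3,8,2,1,3] 162 5 1,
  .bwd [9,2,0,9,1,0,1,2] 236 3 0,
  .bwd [3,8,3,0,4,2,4,0] 317 4 1,
  .bwd [0,1,3,0,1,8,3] 118 7 0,
  .bwd [4,0,2,0,2,4,8,2] 235 7 0,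
  .bwd [7,5,9,8,9,5,7] 101 2 0,
  .bwd [9,2,0,9,7,0,2,7] 273 3 0,
  .bwd [3,5,8,0,5,3] 47 3 0,
  .bwd [6,0,8,4,0,8,6,8,4,0,4] 375 6 1,
  .bwd [3,1,8,1,3,4,2,4] 220 5 0,
  .bwd [3,9,0,9,2,0,3,2] 297 2 1,
  .bwd [6,3,5,6,0,8,5,3] 240 3 1,
  .bwd [1,3,1,5,8,1,5,3] 229 8 0,
  .bwd [2,0,2,0,3,8,3] 75 3 1,
  .bwd [4,8,4,8,4,8,4] 122 5 0,
  .bwd [6,9,6,8,6,9,6] 74 5 0,
  .bwd [2,8,4,8,3,8,3,4] 290 7 1,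
  .bwd [4,9,4,0,4,9,4,0] 309 0 1,
  .bwd [1,4,0,8,4,0,8,4,1,4,9,4,9] 373 10 1,
  .bwd [3,8,7,3,4,2,4,7] 184 2 1,
  .bwd [4,0,8,4,1,4,9,4,9,8,1,4,0] 373 0 1,
  .bwd [3,0,8,4,2,4,0,3] 308 6 1,
  .bwd [6,8,6,8,6,8,6] 166 5 0,
  .bwd [4,1,0,9,1,4,8,9,2,4,1,9,0,1,4] 377 12 1,
  .bwd [4,3,4,8,0,3,0,3] 238 4 0,
  .bwd [7,1,9,8,9,1,7] 142 2 0,
  .bwd [3,0,3,0,8,4,3,4] 238 4 1,
  .bwd [4,3,8,3,8,4,8,2] 290 1 0,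
  .bwd [1,0,3,0,1,8,3] 94 4 0,
  .bwd [3,9,0,9,1,3,1,0] 183 0 1,
  .bwd [6,8,4,6,8,6,8,4,6] 363 7 0,
  .bwd [1,9,0,9,0,1] 51 2 0,
  .bwd [2,5,3,8,3,5,0,2] 222 2 0,
  .bwd [2,3,0,2,8,0,3] 140 5 0,
  .bwd [3,5,7,5,3,8,7] 116 7 0,
  .bwd [0,1,3,1,8,0,3] 157 7 0,
  .bwd [2,0,5,3,8,3,5,2] 222 6 1,
  .bwd [9,5,8,5,9] 34 4 0,
  .bwd [3,0,2,8,0,3,2] 158 6 0,
  .bwd [3,5,9,0,9,5,3] 73 4 0,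
  .bwd [5,9,8,9,5] 34 1 0,
  .bwd [7,9,8,9,7] 35 1 0,
  .bwd [1,9,8,9,1] 31 1 0,
  .bwd [0,4,3,4,8,3,0,3] 171 2 0,
  .bwd [4,1,8,4,1,3,8,0,4,8,1,4,1,0] 357 0 1,
  .sub [] [] 8 0,
  .bwd [3,8,4,9,2,9,4,3] 169 4 0,
  .bwd [4,6,2,6,4,3,8,3] 195 6 0,
  .bwd [1,9,2,0,9,0,2,1] 253 3 0,
  .bwd [3,8,6,2,1,2,1,9,6,9,6,1,3,1,6] 368 8 1,
  .bwd [3,8,6,3,5,6,0,5] 346 2 0,
  .bwd [3,9,3,0,9,0] 42 2 1,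
  .bwd [0,4,8,1,4,1,0,8,4,1,8,4,1,3] 357 7 1,
  .bwd [3,1,0,8,3,0,1] 128 4 1,
  .bwd [2,0,2,0,8,4,2,4] 307 4 1,
  .bwd [3,8,3,4,6,2,6,4] 195 2 1,
  .bwd [4,3,4,3,8,1,3,1] 292 0 1,
  .bwd [3,0,8,2,0,3,2] 140 2 1,
  .bwd [3,1,5,8,1,5,3,1] 245 0 1,
  .bwd [3,1,9,0,3,9,0,1] 256 2 0,
  .bwd [2,3,0,8,2,0,3] 158 1 1,
  .bwd [3,1,8,3,1,5,1,5] 319 3 1,
  .bwd [3,9,2,0,2,9,0,3] 170 5 0,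
  .bwd [1,5,9,0,9,0,5,1] 198 3 0,
  .bwd [0,6,5,3,6,8,3,5] 240 8 0,
  .bwd [3,8,2,1,3,2,1] 95 0 1,
  .bwd [2,0,9,0,2,3,9,3] 268 5 0,
  .bwd [9,4,9,4,1,4,8,0,4,8,0,4,1] 373 3 0,
  .bwd [2,1,2,3,8,1,3] 106 6 0,
  .bwd [9,2,4,1,9,0,1,4,8,4,1,0,9,1,4] 377 3 1,
  .bwd [3,8,5,0,6,5,3,6] 346 4 1,
  .bwd [0,1,3,8,1,0,3] 128 7 0,
  .bwd [7,1,0,1,7,9,0,9] 331 5 1,
  .bwd [6,2,1,2,1,9,6,9,6,1,3,1,6,8,3] 368 10 1,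
  .bwd [5,4,2,4,5,9,0,9] 345 1 1,
  .bwd [3,8,3,1,4,2,4,1] 175 4 1,
  .bwd [2,4,2,4,2,3,8,3] 316 4 0,
  .bwd [5,0,6,5,3,6,8,3] 346 6 1]
noncomputable def RR9 : List Rule := [.bwd [9] 9 0 0,
  .bwd [0,8,9,0] 28 4 0,
  .bwd [4,9,4,9,4,9,4] 105 1 0,
  .bwd [6,8,6,9,6,8,6] 74 3 0,
  .bwd [3,9,3] 16 1 0,
  .bwd [8,9,8] 14 1 0,
  .bwd [8,9,5,8,5] 34 3 0,
  .bwd [8,9,1,8,1] 31 3 0,
  .bwd [2,9,2] 18 1 0,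
  .bwd [6,9,6,9,6,9,6] 129 1 0,
  .bwd [5,9,5,9,5,9,5] 55 1 0,
  .bwd [8,9,7,8,7] 35 3 0,
  .bwd [4,8,4,9,4,8,4] 163 3 0,
  .bwd [7,9,7,9,7,9,7] 66 1 0,
  .bwd [0,9,8,1,0,1] 43 1 1,
  .bwd [1,9,1,9,1,9,1] 57 1 0,
  .bwd [0,9,0,8] 28 2 0,
  .bwd [5,0,5,9,4,2,4] 147 6 0,
  .bwd [5,0,6,0,5,7,9,7,6] 359 6 0,
  .bwd [4,2,4,9,4,2,4] 159 2 0,
  .bwd [0,9,0,5,8,5] 54 4 0,
  .bwd [4,9,4,6,4,9,4,9,6] 362 7 0,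
  .bwd [5,2,4,9,4,5,9,8,2,5,2] 349 10 0,
  .bwd [1,6,8,0,6,1,9,6,0,6] 352 7 0,
  .bwd [8,2,0,9,0,2] 39 3 1,
  .bwd [3,9,4,1,2,1,2,4] 219 5 0,
  .bwd [7,9,1,9,7,9,1] 109 1 0,
  .bwd [0,3,0,9,1,3,1] 90 7 0,
  .bwd [7,6,7,9,5,6,0,5,7,6] 361 4 0,
  .bwd [7,6,9,5,0,6,0,5,7] 359 3 0,
  .bwd [5,0,6,0,4,6,4,5,9,6] 353 7 0,
  .bwd [0,9,5,3,8,3,5] 73 7 0,
  .bwd [2,9,4,3,8,3,8,4] 169 8 0,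
  .bwd [8,0,9,0] 28 2 1,
  .bwd [5,6,7,6,0,6,7,5,9,6] 348 6 0,
  .bwd [0,9,8,7,0,7] 40 1 1,
  .bwd [0,4,0,9,4,0,8,4] 194 8 0,
  .bwd [1,9,7,9,1,9,7] 109 3 0,
  .bwd [4,2,4,9,5,0,5] 147 2 0,
  .bwd [0,9,8,0] 28 0 1,
  .bwd [5,1,5,9,4,2,3,4] 230 7 0,
  .bwd [3,9,3] 16 3 0,
  .bwd [5,0,5,9,5,0,5] 88 2 0,
  .bwd [0,3,8,3,9,2,0,2] 170 2 0,
  .bwd [8,9,8] 14 3 0,
  .bwd [4,2,3,4,9,5,1,5] 230 2 0,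
  .bwd [6,0,6,9,1,6,8,0,6,1] 352 3 0,
  .bwd [5,1,5,9,5,0,1,5] 306 3 0,
  .bwd [4,2,4,9,0,2,0,2] 168 4 0,
  .bwd [3,5,1,5,9,1,3,1] 241 3 0,
  .bwd [4,9,6,9,4,9,4,6,4] 362 3 0,
  .bwd [8,3,0,9,1,3,0,1] 185 2 0,
  .bwd [1,5,1,9,0,1,9,5,9,0,1] 364 2 0,
  .bwd [6,7,9,7,5,0,6,0,5] 359 3 1,
  .bwd [2,0,9,0,2,8] 39 3 0,
  .bwd [0,9,1,0,1,8] 43 3 0,
  .bwd [6,9,5,0,6,0,4,6,4,5] 353 5 0,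
  .bwd [2,9,2] 18 3 0,
  .bwd [1,9,6,1,0,6,1,9,1,9,1,6,0,1,6] 372 3 0,
  .bwd [5,0,5,9,0,2,0,2] 190 4 0,
  .bwd [0,9,7,9,0,9,7] 104 3 0,
  .bwd [1,3,1,9,0,3,0] 90 3 0,
  .bwd [2,5,2,8,9,5,4,9,4,2,5] 349 1 1,
  .bwd [6,9,4,9,4,6,4,9,4] 362 5 0,
  .bwd [6,9,1,2,1,2,6,8,3,8,6,1,3,1,6] 368 13 0,
  .bwd [1,0,3,0,1,6,7,9,2,7,1,3,2,1,6] 369 12 0,
  .bwd [0,9,1,9,0,9,1] 61 3 0,
  .bwd [8,3,2,0,2,9,0,3] 214 4 1,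
  .bwd [4,0,4,9,4,8,0,4] 309 2 0,
  .bwd [2,9,1,2,1,5,1,5] 242 6 0,
  .bwd [0,9,1,3,1,0,8,3] 183 2 1,
  .bwd [2,9,5,1,5,1,2,1] 242 0 1,
  .bwd [0,9,0,1,8,1] 51 4 0,
  .bwd [1,9,1,9,1,9,1] 57 7 0,
  .bwd [6,1,3,1,6,8,3,8,6,2,1,2,1,9,6] 368 2 1,
  .bwd [1,3,1,9,3,5,1,5] 241 8 0,
  .bwd [2,9,4,8,3,8,3,4] 169 7 1,
  .bwd [1,0,9,1,5,1,9,1,0,9,5] 364 2 1,
  .bwd [4,3,4,9,4,2,3,4] 312 3 0,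
  .bwd [5,7,6,0,6,7,6,5,9,6] 348 6 1,
  .bwd [3,0,9,2,0,2,3,8] 214 4 0,
  .bwd [1,3,1,9,3,4,3,4] 262 8 0,
  .bwd [6,9,5,6,7,6,0,6,7,5] 348 4 0,
  .bwd [1,3,1,9,5,1,5,3] 241 5 1,
  .bwd [0,2,8,9,2,0] 39 6 0,
  .bwd [7,8,7,9,8] 35 5 0,
  .bwd [6,8,6,9,6,8,6] 74 7 0,
  .bwd [8,2,5,2,9,5,2,4,9,4,5] 349 5 0,
  .bwd [0,4,0,9,4,8,0,4] 194 5 1,
  .bwd [5,9,0,1,9,1,5,1,9,0,1] 364 9 0,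
  .bwd [1,2,1,2,6,8,3,8,6,1,3,1,6,9,6] 368 15 0,
  .bwd [4,8,4,9,4,8,4] 163 7 0,
  .bwd [4,0,8,4,9,0,4,0] 194 3 0,
  .bwd [0,2,0,2,9,5,0,5] 190 8 0,
  .bwd [5,4,9,4,2,5,9,2,5,2,8] 349 6 1,
  .bwd [5,9,5,9,5,9,5] 55 7 0,
  .bwd [4,9,4,5,9,4,9,4,5] 366 2 0,
  .bwd [0,2,0,9,5,0,5,2] 337 5 1,
  .bwd [7,9,0,9,7,9,0] 104 1 0,
  .bwd [7,9,7,9,7,9,7] 66 7 0,
  .bwd [0,2,0,2,9,4,2,4] 168 8 0,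
  .bwd [4,1,4,9,6,9,6,2,4,1,4,2,6,9,6] 379 6 0,
  .bwd [6,7,5,0,6,5,9,7,6,7] 361 6 1,
  .bwd [5,4,8,4,5,4,9,4,5,4,8,4,5] 355 6 0,
  .bwd [2,0,2,9,0,3,8,3] 170 7 0,
  .bwd [6,9,4,1,4,9,6,9,6,2,4,1,4,2,6] 379 4 0,
  .bwd [7,4,7,4,9,4,7,4,7] 380 4 0,
  .bwd [2,9,4,0,2,0,2,4] 203 5 0,
  .bwd [4,6,4,9,4,9,6,9,4] 362 9 0,
  .bwd [0,2,9,3,8,3,0,2] 231 2 0,
  .bwd [1,8,1,9,8] 31 5 0,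
  .bwd [2,4,0,1,9,1,4,8,4,1,9,1,0,4,8] 350 2 1,
  .bwd [5,3,8,3,5,9,0] 73 1 0,
  .bwd [5,4,6,4,0,6,0,5,9,6] 353 5 1,
  .bwd [2,9,1,2,5,1,5,1] 266 6 0,
  .bwd [6,9,5,7,6,0,6,7,6,5] 348 4 1,
  .bwd [4,5,9,4,9,4,5,9,4] 366 4 0,
  .bwd [4,9,5,4,9,4,9,5,4] 366 5 1,
  .bwd [3,9,4,2,1,2,1,4] 219 1 1,
  .bwd [4,3,2,4,9,5,1,5] 230 1 1,
  .bwd [4,8,0,4,9,4,0,4] 309 6 0,
  .bwd [2,9,0,2,5,0,5,0] 200 6 0,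
  .bwd [1,0,3,1,9,0,3,8] 185 6 1,
  .bwd [4,3,4,9,5,0,1,5] 330 3 0,
  .bwd [5,1,5,3,9,1,3,1] 241 0 1,
  .bwd [4,2,3,4,9,4,3,4] 312 7 0,
  .bwd [3,2,0,9,2,0,3,8] 257 5 1,
  .bwd [3,4,3,4,9,1,3,1] 262 3 0,
  .bwd [1,9,0,9,1,9,0] 61 1 0,
  .bwd [4,2,4,6,7,2,4,2,4,9,7,6,2] 383 8 0,
  .bwd [4,9,4,0,1,4,9,4,9,1] 378 7 0,
  .bwd [6,9,6,2,4,1,4,2,6,9,6,9,4,1,4] 379 10 0,
  .bwd [2,9,1,2,4,3,4,1] 293 6 0,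
  .bwd [2,0,2,9,3,8,3,0] 170 6 1,
  .bwd [8,3,0,2,9,0,2,3] 257 3 0,
  .bwd [6,9,5,4,6,4,0,6,0,5] 353 3 1,
  .bwd [2,0,9,0,2,5,8,5] 269 5 0,
  .bwd [0,1,9,1,5,1,9,0,1,9,5] 364 11 0,
  .bwd [5,3,1,5,9,5,3,5,9,5,9,1,3,5] 358 3 0,
  .bwd [7,6,1,0,3,0,1,9,6,1,2,3,1,7,2] 369 11 1,
  .bwd [1,4,8,4,1,9,1,0,4,2,9,8,4,0,1] 350 2 0,
  .bwd [4,3,4,9,1,3,1,3] 294 4 0,
  .bwd [4,9,4,1,4,8,0,4,8,0,4,1,8] 373 4 0,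
  .bwd [7,5,0,6,0,5,9,6,7] 359 6 1,
  .bwd [3,9,0,4,3,4,3,0] 213 0 1,
  .bwd [8,7,2,0,7,9,0,2] 273 4 1,
  .bwd [7,6,2,9,4,2,4,6,7,2,4,2,4] 383 4 0,
  .bwd [2,0,2,0,9,5,0,5] 190 4 1,
  .bwd [0,9,1,3,8,0,1,3] 239 3 0,
  .bwd [6,9,6,1,3,1,6,8,3,8,6,2,1,2,1] 368 0 1,
  .bwd [7,0,7,8,9,0] 40 5 0,
  .bwd [1,0,9,5,9,1,0,9,1,5,1] 364 9 1,
  .bwd [4,5,9,8,2,5,2,9,5,2,4] 349 2 0,
  .bwd [6,1,2,3,1,7,2,9,7,6,1,0,3,0,1] 369 3 1,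
  .bwd [1,6,0,8,6,1,9,6,0,6] 352 7 1,
  .bwd [0,9,0,7,8,7] 44 4 0,
  .bwd [0,2,0,9,4,2,4,2] 299 5 1,
  .bwd [6,9,6,9,6,9,6] 129 5 0,
  .bwd [6,9,6,9,6,9,6] 129 7 0,
  .bwd [2,9,1,5,1,5,2,1] 266 0 1,
  .bwd [0,1,8,3,1,9,0,3] 256 8 0,
  .bwd [0,9,2,0,2,3,8,3] 211 5 0,
  .bwd [5,4,9,4,9,5,4,9,4] 366 2 1,
  .bwd [2,0,2,0,9,4,2,4] 168 4 1,
  .bwd [6,2,4,1,4,2,6,9,6,9,4,1,4,9,6] 379 12 0,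
  .bwd [1,0,4,2,9,8,4,0,1,9,1,4,8,4,1] 350 8 0,
  .bwd [1,0,1,8,9,0] 43 5 0,
  .bwd [4,7,4,7,9,7,4,7,4] 380 9 0,
  .bwd [3,8,3,8,9,5,0,5] 277 2 0,
  .bwd [1,3,1,3,9,5,1,5] 310 8 0,
  .bwd [5,0,5,9,3,8,3,8] 277 7 0,
  .bwd [0,1,9,5,9,0,1,9,1,5,1] 364 6 0,
  .bwd [2,9,0,5,0,5,2,0] 200 0 1,
  .bwd [0,2,9,8,2,1,0,1] 236 1 1,
  .bwd [4,9,1,9,4,9,4,0,1,4] 378 3 0,
  .bwd [1,6,0,1,6,9,1,9,6,1,0,6,1,9,1] 372 13 0,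
  .bwd [1,3,1,3,9,4,3,4] 294 8 0,
  .bwd [1,9,4,9,4,0,1,4,9,4] 378 5 0,
  .bwd [8,4,0,1,9,1,4,8,4,1,9,1,0,4,2] 350 13 0,
  .bwd [3,9,0,3,4,3,4,0] 213 6 0,
  .bwd [7,6,7,9,6,7,5,0,6,5] 361 2 1,
  .bwd [1,9,7,9,1,9,7] 109 7 0,
  .bwd [4,1,2,1,2,4,9,3] 219 7 0,
  .bwd [7,8,7,2,0,9,0,2] 212 3 1,
  .bwd [5,0,1,5,9,5,1,5] 306 7 0,
  .bwd [4,2,4,9,3,8,3,8] 288 7 0,
  .bwd [5,0,1,5,9,4,3,4] 330 7 0,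
  .bwd [0,4,3,4,3,0,9,3] 213 2 1,
  .bwd [5,9,5,3,5,9,5,1,3,5,9,5,3,1] 358 0 1,
  .bwd [0,3,4,3,4,0,9,3] 213 8 0,
  .bwd [1,9,1,6,0,1,6,9,1,9,6,1,0,6,1] 372 11 0,
  .bwd [3,8,3,0,9,2,0,2] 170 1 1,
  .bwd [5,1,0,5,9,5,1,5] 306 5 1,
  .bwd [5,0,5,9,2,0,2,0] 190 0 1,
  .bwd [2,0,2,3,8,9,3,0] 214 7 0,
  .bwd [3,8,0,1,3,1,9,0] 183 6 0,
  .bwd [4,2,4,9,2,0,2,0] 168 0 1,
  .bwd [6,1,0,6,1,9,1,9,1,6,0,1,6,9,1] 372 5 0,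
  .bwd [4,9,4,9,4,9,4] 105 7 0,
  .bwd [0,9,8,5,4,2,4,5] 345 7 1,
  .bwd [1,3,0,1,9,8,3,0] 185 6 0,
  .bwd [5,1,5,9,1,3,1,3] 310 4 0,
  .bwd [4,5,9,4,9,4,5,9,4] 366 9 0,
  .bwd [8,9,5,2,8,2,5] 136 2 0,
  .bwd [3,9,4,3,0,3,0,4] 276 1 1,
  .bwd [4,3,4,3,9,1,3,1] 262 0 1,
  .bwd [3,9,4,0,3,0,3,4] 276 5 0,
  .bwd [4,0,3,0,3,4,9,3] 276 7 0,
  .bwd [2,7,1,3,2,1,6,9,1,0,3,0,1,6,7] 369 4 0,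
  .bwd [0,2,9,8,7,2,0,7] 273 1 1,
  .bwd [0,4,9,4,1,8,4,9,4,9,1] 370 11 0,
  .bwd [2,9,4,2,0,2,0,4] 203 1 1,
  .bwd [2,6,7,9,4,2,4,2,7,6,4,2,4] 383 5 1,
  .bwd [3,1,3,1,9,4,3,4] 294 4 1,
  .bwd [3,8,3,8,9,4,2,4] 288 2 0,
  .bwd [3,8,0,9,0,3] 42 2 0,
  .bwd [5,8,5,2,0,9,0,2] 269 3 1,
  .bwd [4,3,4,9,3,1,3,1] 294 0 1,
  .bwd [1,9,4,9,4,8,1,4,9,4,0] 370 0 1,
  .bwd [5,9,1,0,9,1,5,1,9,1,0] 364 0 1,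
  .bwd [4,9,4,1,0,4,9,4,9,1] 378 5 1,
  .bwd [5,6,0,5,7,6,9,7,6,7] 361 8 0,
  .bwd [5,1,5,9,3,1,3,1] 310 0 1,
  .bwd [2,0,9,2,0,3,8,3] 231 3 1,
  .bwd [5,0,5,9,8,3,8,3] 277 6 1,
  .bwd [1,2,1,5,1,5,9,2] 242 8 0,
  .bwd [2,4,1,9,0,1,4,8,4,1,0,9,1,4,8] 377 4 1,
  .bwd [2,0,2,3,8,3,9,0] 211 7 0,
  .bwd [5,9,1,3,5,9,5,3,1,5,9,5,3,5] 358 12 0,
  .bwd [0,3,9,8,3,2,0,2] 214 1 1,
  .bwd [3,0,9,1,3,8,1,0] 256 0 1,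
  .bwd [1,0,1,2,8,9,2,0] 236 7 0,
  .bwd [0,1,4,8,4,1,0,9,1,4,2,9,8,4,1] 377 15 0,
  .bwd [0,2,9,8,2,0] 39 0 1,
  .bwd [0,5,0,5,2,0,9,2] 200 2 1,
  .bwd [8,3,8,3,9,5,0,5] 277 1 1,
  .bwd [7,0,2,7,8,9,2,0] 273 7 0,
  .bwd [4,8,0,4,9,0,4,0] 194 0 1,
  .bwd [1,4,2,9,8,4,1,9,0,1,4,8,4,1,0] 377 7 0,
  .bwd [4,3,8,3,8,4,9,2] 169 1 0,
  .bwd [1,5,1,9,1,0,9,5,9,1,0] 364 5 1,
  .bwd [0,2,0,9,2,4,2,4] 299 8 0,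
  .bwd [4,5,4,8,4,5,9,5,4,8,4,5,4] 355 13 0,
  .bwd [0,9,3,8,3,2,0,2] 211 1 1,
  .bwd [1,3,5,9,5,3,1,5,9,5,3,5,9,5] 358 14 0,
  .bwd [2,5,0,5,9,0,2,0] 337 3 0,
  .bwd [4,9,5,4,9,4,9,5,4] 366 0 1,
  .bwd [0,3,8,9,1,0,3,1] 185 2 1,
  .bwd [6,9,6,9,6,9,6] 129 3 0,
  .bwd [3,8,3,0,2,9,0,2] 231 5 0,
  .bwd [8,9,1,2,8,2,1] 81 5 0,
  .bwd [4,0,2,0,2,4,9,2] 203 7 0,
  .bwd [1,3,1,9,4,3,4,3] 262 5 1,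
  .bwd [0,5,8,5,9,0] 54 6 0,
  .bwd [4,2,4,9,4,2,4] 159 6 0,
  .bwd [2,0,9,0,2,1,8,1] 253 5 0,
  .bwd [4,0,8,4,9,4,0,4] 309 6 1,
  .bwd [8,3,0,9,1,3,1,0] 254 0 1,
  .bwd [1,5,1,5,2,1,9,2] 266 2 1,
  .bwd [0,2,3,9,8,3,0,2] 257 8 0,
  .bwd [0,5,1,5,3,0,9,3] 275 2 1,
  .bwd [1,2,4,3,4,1,9,2] 293 8 0,
  .bwd [0,2,0,9,2,5,0,5] 337 8 0,
  .bwd [0,9,3,1,0,8,3,1] 239 3 1,
  .bwd [6,0,6,9,1,6,0,8,6,1] 352 3 1,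
  .bwd [5,3,5,9,5,9,1,3,5,9,5,3,1,5] 358 8 0,
  .bwd [3,9,0,5,1,5,3,0] 275 0 1,
  .bwd [3,1,3,1,9,5,1,5] 310 4 1,
  .bwd [0,3,9,3,8,0] 42 6 0,
  .bwd [4,2,5,9,2,5,2,8,9,5,4] 349 9 1,
  .bwd [2,0,3,8,9,3,2,0] 257 0 1,
  .bwd [0,8,3,9,3,0] 42 0 1,
  .bwd [0,2,0,9,0,2,0] 165 7 0,
  .bwd [1,2,8,2,1,9,8] 81 7 0,
  .bwd [0,9,3,8,0,1,3,1] 183 4 0,
  .bwd [1,9,1,9,1,9,1] 57 3 0,
  .bwd [5,8,5,9,8] 34 5 0,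
  .bwd [8,9,1,5,8,5,1] 69 5 0,
  .bwd [1,8,1,0,9,0] 51 2 1,
  .bwd [0,3,8,2,3,9,0,2] 271 2 0,
  .bwd [3,2,0,2,9,0,3,8] 338 5 1,
  .bwd [2,9,4,3,4,1,2,1] 314 0 1,
  .bwd [1,5,8,5,1,9,8] 69 7 0,
  .bwd [2,0,3,8,3,9,2,0] 231 6 1,
  .bwd [0,3,5,1,5,0,9,3] 275 8 0,
  .bwd [5,8,5,0,9,0] 54 2 1,
  .bwd [5,4,9,4,9,5,4,9,4] 366 7 1,
  .bwd [8,3,8,0,9,0,3,8] 264 3 0,
  .bwd [2,0,9,1,0,1,2,8] 236 4 0,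
  .bwd [0,2,9,0,3,8,2,3] 271 8 0,
  .bwd [3,9,0,3,5,1,5,0] 275 6 0,
  .bwd [4,3,2,4,9,4,3,4] 312 5 1,
  .bwd [2,9,1,2,1,4,3,4] 314 6 0,
  .bwd [0,9,0,5,2,8,2,5] 237 6 0,
  .bwd [1,4,8,9,2,4,1,9,0,1,4,8,4,1,0] 377 0 1,
  .bwd [5,1,0,5,9,4,3,4] 330 5 1,
  .bwd [2,0,9,0,2,7,8,7] 212 5 0,
  .bwd [0,9,7,9,0,9,7] 104 7 0,
  .bwd [1,8,1,2,0,9,0,2] 253 3 1,
  .bwd [0,9,1,9,0,9,1] 61 7 0,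
  .bwd [1,2,1,4,3,4,9,2] 314 8 0,
  .bwd [5,1,8,1,5,0,9,0] 198 2 1,
  .bwd [8,9,5,9,0,9,0,5] 323 2 0,
  .bwd [2,9,1,4,3,4,2,1] 293 0 1,
  .bwd [3,0,2,9,0,2,3,8] 301 4 0,
  .bwd [1,9,1,9,1,9,1] 57 5 0,
  .bwd [0,2,3,8,9,3,0,2] 301 8 0,
  .bwd [1,9,0,9,1,9,0] 61 5 0,
  .bwd [1,0,1,8,3,9,3,0] 197 7 0,
  .bwd [8,3,0,9,2,0,2,3] 338 3 0,
  .bwd [8,3,2,0,9,2,0,3] 301 4 1,
  .bwd [2,4,2,4,9,0,2,0] 299 3 0,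
  .bwd [4,9,4,5,9,4,9,4,5] 366 7 0,
  .bwd [1,9,4,9,4,1,0,4,9,4] 378 3 1,
  .bwd [0,3,9,0,1,8,3,1] 256 5 0,
  .bwd [5,1,5,1,2,1,9,2] 242 2 1,
  .bwd [3,8,1,0,3,1,9,0] 248 4 1]
noncomputable def RR : List (List Rule) := [RR0, RR1, RR2, RR3, RR4, RR5, RR6, RR7, RR8, RR9]
noncomputable def rowp (j : ℕ) : ℕ := piece tT (nat_lit 3) (nat_lit 7) (nat_lit 2960) (Nat.pred (Nat.shiftLeft 1 (nat_lit 2960))) j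
noncomputable def row (u : ℕ) : ℕ := rowOf rowp (nat_lit 3) (nat_lit 7) (nat_lit 370) u
noncomputable def jrowp (j : ℕ) : ℕ := piece tJ (nat_lit 3) (nat_lit 7) (nat_lit 2880) (Nat.pred (Nat.shiftLeft 1 (nat_lit 2880))) j
noncomputable def jrow (u : ℕ) : ℕ := rowOf jrowp (nat_lit 5) (nat_lit 31) (nat_lit 90) u
noncomputable def drowp (j : ℕ) : ℕ := piece tD (nat_lit 3) (nat_lit 7) (nat_lit 2688) (Nat.pred (Nat.shiftLeft 1 (nat_lit 2688))) j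
noncomputable def drow (u : ℕ) : ℕ := rowOf drowp (nat_lit 6) (nat_lit 63) (nat_lit 42) u
noncomputable def cert : PCert := ⟨(nat_lit 10), (nat_lit 10), (nat_lit 131071), (nat_lit 37), (nat_lit 137438953471), (nat_lit 137438953470), (nat_lit 98280), (nat_lit 98279), (nat_lit 98279), (nat_lit 9), (nat_lit 511), (nat_lit 9), (nat_lit 511), (nat_lit 4398046511103), (nat_lit 0), row, jrow, drow, RR⟩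
theorem params : cert.paramsOK = true := by decide +kernel
theorem rules : rulesOK rels subs iv cert.L cert.LL cert.RR = true := by decide +kernel

end CL.Co1T.K1
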